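import Cfsg.Agent.J4NonLocal.Pool

/-!
Small tables for the subgroup U3(3).
-/

set_option autoImplicit false
set_option maxRecDepth 8000

namespace Cfsg.Lib.J4NonLocal.UThree

open Cfsg.Lib.J4NonLocal

/-- The 27 elements: a word, the products with the first two letters, and either a word conjugating it to a
power of the first letter with the exponent, or the exponent of the fifth letter. -/
def pTab : List (List ℕ × ℕ × ℕ × List ℕ × ℕ × ℕ) := [([0, 0, 1, 0], 11, 3, [1, 2, 2], 2, 0), ([1, 0, 1], 7, 18, [2, 2, 2], 1, 0), ([0, 1, 0, 0], 24, 26, [2, 1, 2], 2, 0), ([0, 0, 1, 0, 1], 15, 5, [2, 1, 2], 1, 0), ([0, 1, 1, 0], 3, 8, [2], 2, 0), ([0, 0, 1, 0, 1, 1], 18, 0, [], 0, 2), ([0, 0, 1, 1, 0, 1], 23, 2, [], 0, 1), ([0, 0, 1, 1], 26, 21, [2, 1], 2, 0), ([0, 1, 1, 0, 1], 6, 13, [1, 1], 2, 0), ([1, 1, 0], 14, 23, [1, 2, 2, 2], 1, 0), ([0, 1, 0], 2, 14, [2, 2, 2], 2, 0), ([0, 0, 1, 0, 0], 19,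 9, [2], 1, 0), ([1], 17, 20, [2, 2], 2, 0), ([1, 0, 0], 12, 4, [2, 1, 2, 2], 2, 0), ([0, 1, 0, 1], 20, 25, [1, 2], 2, 0), ([0, 1, 1], 4, 16, [2, 1, 2, 2], 1, 0), ([0], 21, 24, [], 1, 0), ([1, 0], 13, 1, [2, 1], 1, 0), ([1, 0, 1, 1], 25, 17, [1, 1], 1, 0), ([0, 0, 1], 0, 7, [1, 2, 2, 2], 2, 0), ([1, 1], 9, 22, [2, 2], 1, 0), ([0, 0], 22, 19, [], 2, 0), ([], 16, 12, [], 0, 0), ([1, 1, 0, 1], 8, 11, [1], 1, 0), ([0, 1], 10, 15, [1, 2], 1, 0), ([0, 1, 0, 1, 1], 5, 10, [1], 2, 0), ([0, 0, 1, 1, 0], 1, 6, [1, 2, 2], 1, 0)]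

/-- The letters normalising it with the images of the first two letters. -/
def pNorm : List (ℕ × ℕ × ℕ) := [(0, 16, 2), (1, 18, 12), (2, 10, 4), (12, 2, 23)]

/-- The letters normalising the subgroup of order 9 with the exponents of the images. -/
def dNorm : List (ℕ × (ℕ × ℕ) × (ℕ × ℕ)) := [(0, (1, 0), (0, 1)), (4, (1, 0), (0, 1)), (5, (1, 0), (0, 2)), (13, (1, 0), (0, 1)), (14, (2, 2), (0, 1)), (17, (2, 1), (1, 0))]

/-- Exponents of letters on the fifth letter. -/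
def xExp : List (ℕ × ℕ) := [(0, 1), (1, 1), (2, 2), (4, 1), (10, 1), (11, 1), (12, 2)]

/-- Exponents of letters on the first letter. -/
def yExp : List (ℕ × ℕ) := [(0, 1), (4, 1), (5, 2), (8, 1), (9, 1), (13, 1), (14, 1), (18, 1), (19, 1)]

/-- Exponents of letters on the element of order 7. -/
def sevenExp : List (ℕ × ℕ) := [(6, 1), (7, 4), (15, 2), (16, 1)]

/-- The exponent of the conjugator. -/
def hExp : ℕ := 1

/-- A word. -/
def sW : List ℕ := [2, 2, 2, 2]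

/-- A word. -/
def qW : List ℕ := [0, 2, 0, 2, 2, 3, 1]

/-- A word. -/
def rW : List ℕ := [0]

end Cfsg.Lib.J4NonLocal.UThree
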