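import Cfsg.Agent.J4NonLocal.Count

/-!
Words and certificates for a normaliser of an element of order 3.
-/

set_option autoImplicit false
set_option maxRecDepth 8000

namespace Cfsg.Lib.J4NonLocal.UThree

open Cfsg.Lib.J4NonLocal

/-- Entries. -/
def alphaEnt0 : List (ℕ × ℕ × ℕ) := [(3, 61, 4), (3, 45, 34), (3, 24, 16), (1, 8, 53), (3, 58, 17), (0, 60, 41), (2, 5, 61), (2, 51, 47), (1, 45, 56), (0, 31, 69), (2, 24, 60), (3, 37, 53), (2, 65, 55), (3, 64, 55), (0, 47, 7), (1, 87, 20), (3, 16, 15), (1, 43, 35), (1, 36, 59), (0, 61, 28), (2, 33, 18), (1, 18, 3), (3, 57, 42), (2, 4, 48), (1, 42, 42), (2, 44, 1), (3, 12, 49), (0, 49, 22), (0, 82, 12), (1, 24, 19), (1, 93, 47), (1, 71, 54), (3, 49, 54), (2, 4, 50), (1, 31, 5), (0, 37, 60), (2, 8, 50), (2, 13, 28), (3, 77, 18), (1, 51, 30), (3, 10, 25), (3, 2, 56), (0, 81, 40), (1, 51, 32),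 (0, 71, 43), (2, 70, 67), (3, 16, 28), (2, 10, 62), (2, 54, 66), (0, 7, 64), (1, 87, 29), (0, 42, 60), (3, 7, 65), (2, 67, 59), (1, 20, 5), (1, 91, 7), (2, 26, 70), (0, 12, 2), (0, 64, 44), (0, 60, 9), (1, 69, 46), (1, 26, 35), (0, 27, 38), (2, 37, 30), (3, 19, 19), (3, 87, 0), (1, 43, 21), (1, 33, 14), (3, 68, 11), (3, 40, 59), (3, 55, 61), (2, 10, 61), (1, 57, 2), (3, 50, 2), (1, 70, 61), (0, 13, 41), (0, 56, 5), (1, 8, 59), (0, 5, 31), (3, 56, 54), (3, 2, 50), (3, 58, 26), (2, 63, 63), (0, 73, 53), (0, 9, 26), (1, 37, 2), (1, 45, 63), (0, 57, 12), (1, 11, 21), (0, 58, 59), (2, 50, 14), (2, 56, 8), (1, 60, 34), (3, 30, 23), (0, 4, 43), (1, 10, 18), (0, 58, 43), (3, 81, 4), (2, 18, 46), (1, 54, 33), (3, 12, 42), (1, 34, 48), (3, 14, 20), (1, 67, 68), (0, 2, 29), (1, 77, 52), (2, 54, 58), (3, 79, 8), (0, 2, 61), (1, 10, 71), (2, 73, 47),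 (0, 15, 23), (0, 12, 14), (3, 69, 43), (3, 43, 26), (1, 48, 37), (0, 38, 1), (3, 49, 32), (3, 83, 20), (1, 24, 1), (0, 10, 0), (1, 80, 29), (3, 62, 35), (2, 19, 7), (1, 21, 54), (1, 29, 7), (1, 20, 0), (0, 75, 50), (1, 68, 31), (0, 51, 53), (2, 82, 49), (0, 23, 23), (0, 68, 17), (1, 4, 69), (0, 60, 38), (0, 42, 50), (1, 78, 11), (3, 42, 29), (1, 74, 42), (2, 71, 23), (2, 22, 28), (1, 94, 5), (0, 29, 0), (3, 75, 22), (3, 70, 40), (1, 81, 47), (3, 92, 8), (0, 79, 35), (1, 50, 23), (2, 3, 66), (2, 56, 46), (0, 72, 46), (3, 24, 43), (0, 33, 68), (1, 13, 57), (1, 90, 54), (0, 79, 17), (3, 33, 5), (2, 8, 9), (1, 23, 29), (2, 52, 8), (1, 18, 31), (3, 34, 10), (1, 18, 64), (3, 60, 66), (2, 37, 43), (3, 71, 11), (3, 81, 44), (3, 87, 41), (1, 55, 65), (3, 92, 21), (1, 18, 30), (2, 81, 22), (2, 61, 23), (0, 12, 11), (1, 65, 3), (0, 39, 19), (2,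 58, 71), (1, 6, 17), (2, 31, 38), (2, 4, 6), (1, 74, 8), (1, 70, 58), (0, 58, 63), (3, 74, 35), (2, 24, 36), (2, 71, 59), (2, 29, 36), (2, 3, 37), (2, 26, 68), (0, 78, 10), (0, 5, 0), (3, 87, 40), (1, 7, 18), (0, 51, 66), (2, 61, 35), (3, 38, 48), (3, 38, 44), (2, 40, 52), (0, 90, 14), (3, 2, 9), (2, 33, 55), (1, 53, 51), (0, 69, 62), (2, 16, 26), (3, 39, 71), (3, 92, 57), (1, 61, 32), (0, 10, 28), (0, 20, 30), (0, 95, 7), (3, 44, 29), (2, 25, 27), (0, 85, 19), (3, 91, 28), (0, 54, 55), (2, 60, 40), (0, 10, 63), (1, 65, 38), (0, 45, 13), (2, 43, 52), (1, 19, 36), (3, 53, 53), (0, 51, 68), (0, 31, 10), (2, 13, 25), (1, 48, 27), (1, 89, 4), (1, 55, 53), (1, 66, 49), (1, 3, 37), (1, 87, 46), (0, 13, 59), (1, 60, 32), (2, 40, 32), (0, 67, 55), (1, 34, 49), (3, 5, 21), (2, 75, 20), (3, 16, 12), (3, 58, 16), (1, 13, 23), (0, 15, 13), (1, 94,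 29), (0, 70, 4), (2, 37, 61), (0, 82, 1), (2, 57, 1), (2, 7, 49), (0, 46, 30), (2, 9, 3), (3, 11, 24), (2, 38, 18), (3, 13, 21), (0, 44, 37), (0, 43, 37), (2, 52, 17), (1, 85, 22), (1, 50, 28), (2, 23, 13), (3, 34, 57), (3, 11, 48), (2, 21, 3), (3, 2, 67), (1, 9, 33), (3, 48, 7), (2, 22, 29), (3, 83, 30), (0, 5, 53), (0, 67, 28), (1, 69, 15), (2, 32, 41), (0, 75, 57), (2, 89, 40), (0, 61, 59), (0, 14, 55), (3, 29, 69), (1, 15, 18), (0, 42, 5), (2, 19, 23), (2, 48, 62), (3, 47, 11), (0, 68, 65), (3, 34, 52), (0, 61, 15), (2, 3, 9), (1, 39, 9), (2, 82, 2), (2, 29, 28), (2, 65, 23), (2, 52, 12), (2, 13, 18), (0, 87, 43), (2, 78, 9), (1, 27, 47), (1, 40, 37), (3, 50, 6), (2, 62, 32), (2, 62, 12), (2, 6, 58), (2, 15, 19), (3, 50, 26), (1, 82, 47), (0, 81, 38), (3, 11, 9), (3, 43, 24), (2, 54, 49), (2, 68, 45), (0, 78, 23), (1, 18, 29), (0,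 24, 20), (3, 14, 7), (0, 93, 60), (2, 50, 25), (0, 70, 63), (0, 93, 17), (0, 68, 32), (2, 18, 43), (2, 61, 1), (1, 30, 32), (1, 73, 55), (3, 33, 64), (0, 28, 7), (2, 46, 25), (3, 66, 43), (0, 87, 9), (2, 46, 12), (1, 12, 44), (3, 52, 30), (2, 74, 13), (1, 40, 60), (1, 93, 21), (0, 37, 43), (3, 83, 23), (3, 45, 7), (3, 1, 44), (2, 52, 0), (1, 42, 7), (1, 77, 21), (0, 23, 43), (3, 92, 36), (2, 58, 37), (3, 89, 68), (1, 43, 15), (3, 63, 12), (3, 56, 28), (0, 63, 25), (2, 21, 16), (3, 69, 11), (0, 3, 41), (0, 87, 58), (2, 79, 31), (0, 15, 5), (0, 9, 10), (3, 67, 0), (3, 68, 14), (3, 58, 62), (0, 60, 64), (3, 93, 67), (2, 26, 66), (2, 71, 67), (0, 54, 9), (0, 56, 55), (3, 12, 65), (1, 10, 15), (2, 29, 52), (3, 39, 0), (0, 83, 4), (0, 81, 69), (3, 13, 29), (3, 68, 27), (1, 4, 52), (3, 57, 45), (3, 72, 67), (1, 89, 56), (1, 35, 18), (3, 57,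 25), (1, 32, 30), (0, 7, 21), (1, 10, 28), (3, 26, 62), (2, 71, 15), (2, 18, 62), (3, 12, 23), (2, 75, 21), (0, 31, 20), (1, 65, 11), (1, 47, 69), (2, 18, 31), (0, 33, 67), (1, 44, 34), (1, 20, 30), (2, 28, 12), (0, 63, 55), (0, 89, 2), (3, 74, 52), (0, 9, 32), (3, 43, 64), (3, 53, 37), (2, 70, 9)]

/-- Entries. -/
def alphaEnt1 : List (ℕ × ℕ × ℕ) := [(3, 22, 10), (0, 59, 58), (3, 35, 28), (0, 3, 61), (1, 35, 26), (0, 83, 56), (3, 16, 44), (1, 3, 32), (3, 20, 12), (1, 5, 26), (0, 85, 24), (0, 44, 21), (1, 71, 15), (0, 57, 32), (1, 24, 6), (2, 44, 70), (0, 2, 45), (3, 80, 17), (3, 57, 43), (3, 45, 66), (0, 58, 17), (0, 24, 6), (2, 54, 64), (1, 30, 70), (1, 57, 67), (2, 36, 11), (3, 48, 29), (3, 67, 3), (3, 58, 25), (2, 43, 40), (2, 89, 52), (0, 79, 18), (2, 27, 10), (2, 35, 47), (3, 40, 71), (2, 24, 50), (2, 63, 43), (2, 54, 33), (1, 11,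 59), (1, 31, 17), (0, 18, 47), (3, 55, 71), (0, 22, 35), (0, 37, 19), (3, 33, 4), (2, 7, 66), (0, 36, 54), (3, 32, 0), (2, 2, 17), (2, 21, 15), (3, 50, 43), (3, 5, 17), (0, 30, 44), (1, 42, 30), (1, 35, 10), (3, 4, 26), (1, 16, 70), (3, 73, 33), (0, 1, 16), (0, 18, 66), (1, 67, 62), (2, 87, 64), (0, 10, 4), (3, 44, 20), (3, 65, 41), (2, 80, 24), (1, 86, 18), (2, 55, 68), (3, 36, 36), (0, 77, 39), (3, 87, 32), (2, 16, 62), (2, 11, 56), (3, 65, 11), (1, 77, 71), (2, 40, 55), (2, 42, 22), (3, 56, 24), (1, 1, 26), (3, 15, 12), (3, 83, 6), (1, 72, 15), (1, 54, 63), (1, 42, 51), (2, 54, 41), (1, 9, 29), (2, 83, 64), (1, 40, 38), (1, 94, 19), (1, 60, 14), (1, 3, 41), (0, 71, 29), (0, 14, 48), (3, 4, 56), (2, 33, 21), (2, 27, 9), (3, 31, 20), (2, 23, 61), (1, 33, 45), (3, 61, 64), (0, 5, 71), (1, 19, 7), (1, 73, 39), (2, 94, 40), (1, 24, 13),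 (2, 16, 12), (0, 77, 1), (3, 57, 17), (1, 73, 13), (1, 80, 30), (2, 74, 22), (0, 25, 11), (3, 26, 48), (3, 60, 54), (1, 15, 9), (1, 3, 17), (2, 45, 69), (3, 38, 54), (3, 88, 4), (1, 46, 68), (0, 1, 52), (0, 72, 50), (0, 32, 3), (3, 34, 66), (2, 61, 36), (1, 35, 57), (0, 54, 42), (0, 7, 59), (3, 26, 69), (2, 92, 30), (1, 69, 58), (3, 47, 29), (2, 28, 9), (0, 19, 59), (0, 19, 41), (1, 76, 26), (0, 85, 9), (3, 53, 18), (0, 5, 42), (2, 87, 35), (2, 6, 37), (0, 73, 36), (1, 37, 58), (0, 94, 30), (2, 72, 15), (3, 62, 26), (3, 32, 67), (3, 48, 55), (1, 36, 25), (1, 14, 15), (1, 65, 34), (1, 53, 40), (3, 82, 45), (2, 83, 46), (0, 30, 0), (0, 89, 66), (0, 61, 26), (0, 43, 31), (3, 77, 10), (3, 67, 22), (2, 45, 48), (2, 44, 54), (0, 74, 67), (3, 9, 12), (1, 90, 41), (3, 89, 26), (2, 65, 67), (0, 56, 33), (1, 87, 16), (2, 66, 56), (2, 35, 34), (2,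 57, 14), (1, 45, 37), (1, 58, 47), (0, 59, 53), (3, 36, 54), (2, 51, 8), (2, 27, 15), (2, 60, 42), (3, 12, 69), (3, 14, 26), (1, 5, 49), (3, 83, 19), (1, 81, 10), (1, 75, 21), (1, 49, 58), (2, 5, 53), (0, 72, 52), (3, 3, 12), (2, 15, 26), (1, 69, 3), (1, 27, 2), (3, 38, 10), (1, 89, 28), (2, 12, 55), (1, 87, 26), (1, 18, 39), (2, 4, 30), (0, 16, 43), (0, 41, 5), (1, 24, 20), (3, 33, 57), (3, 5, 64), (0, 80, 25), (2, 87, 36), (0, 21, 52), (2, 89, 51), (3, 82, 12), (1, 75, 52), (0, 26, 19), (1, 87, 9), (1, 44, 16), (2, 3, 47), (0, 75, 15), (1, 11, 39), (0, 18, 22), (3, 12, 51), (0, 57, 58), (3, 50, 3), (0, 64, 27), (3, 92, 23), (3, 2, 28), (0, 25, 1), (2, 5, 8), (1, 89, 44), (1, 32, 69), (3, 46, 59), (0, 67, 46), (3, 23, 46), (3, 60, 8), (3, 66, 20), (0, 84, 35), (0, 67, 67), (2, 2, 25), (1, 74, 70), (3, 49, 35), (2, 56, 11), (2, 44, 8),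 (3, 70, 24), (1, 74, 30), (1, 95, 13), (3, 13, 49), (3, 9, 40), (3, 44, 23), (3, 85, 44), (1, 71, 71), (2, 58, 0), (3, 23, 50), (1, 33, 19), (1, 56, 59), (2, 84, 27), (0, 20, 21), (3, 24, 37), (1, 30, 11), (0, 77, 44), (3, 26, 0), (2, 29, 17), (2, 16, 58), (1, 94, 64), (1, 56, 56), (1, 54, 0), (0, 70, 60), (1, 2, 68), (0, 24, 28), (0, 94, 22), (3, 63, 5), (3, 84, 11), (3, 60, 4), (3, 62, 34), (3, 7, 48), (0, 69, 8), (1, 58, 63), (2, 40, 15), (1, 29, 28), (3, 23, 35), (1, 1, 54), (2, 39, 49), (3, 10, 10), (3, 9, 43), (1, 10, 61), (3, 55, 65), (3, 46, 3), (1, 46, 53), (1, 30, 1), (3, 46, 51), (3, 59, 69), (3, 13, 46), (1, 72, 6), (2, 70, 40), (3, 48, 4), (2, 35, 54), (3, 53, 23), (0, 33, 40), (1, 55, 2), (2, 64, 46), (2, 86, 26), (1, 77, 57), (1, 28, 8), (0, 27, 13), (0, 82, 55), (1, 9, 23), (3, 65, 43), (0, 50, 29), (1, 71, 48), (0, 60,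 33), (2, 10, 63), (3, 8, 29), (0, 91, 70), (3, 40, 61), (1, 20, 16), (0, 1, 24), (1, 94, 51), (3, 12, 11), (1, 2, 20), (3, 12, 53), (0, 73, 47), (0, 93, 43), (2, 90, 15), (2, 89, 36), (2, 83, 47), (2, 55, 17), (3, 29, 66), (0, 65, 55), (3, 64, 22), (3, 63, 29), (1, 4, 71), (2, 60, 7), (2, 44, 48), (1, 72, 47), (1, 29, 57), (0, 46, 22), (0, 7, 53), (3, 14, 59), (0, 36, 46), (1, 11, 1), (3, 1, 1), (1, 49, 9), (0, 9, 63), (1, 25, 4), (0, 77, 4), (2, 3, 42), (3, 23, 18), (0, 47, 17), (3, 26, 47), (2, 68, 57), (0, 80, 49), (2, 33, 45), (3, 71, 31), (0, 69, 46), (3, 63, 67), (1, 80, 8), (3, 58, 46), (3, 74, 64), (0, 21, 46), (1, 45, 46), (1, 7, 65), (0, 33, 28), (2, 90, 22), (3, 28, 2), (3, 94, 17), (2, 5, 28), (2, 27, 16), (2, 75, 45), (3, 93, 62), (2, 54, 36), (1, 36, 62), (1, 47, 30), (1, 77, 26), (2, 43, 55), (1, 76, 36), (0, 6, 7), (0,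 26, 0), (1, 47, 7), (1, 34, 28), (0, 2, 49), (2, 89, 10), (0, 26, 31), (0, 33, 18), (3, 85, 26), (2, 21, 24), (0, 18, 3), (2, 44, 39), (2, 43, 26), (0, 42, 9), (2, 56, 66), (1, 48, 21), (0, 88, 4), (0, 47, 4), (1, 73, 23), (2, 93, 8), (0, 27, 62), (1, 31, 39), (3, 1, 39), (1, 5, 59), (1, 46, 1), (2, 34, 55), (3, 49, 21), (0, 90, 62), (2, 73, 60), (0, 52, 1)]

/-- Entries. -/
def alphaEnt2 : List (ℕ × ℕ × ℕ) := [(1, 8, 62), (3, 6, 51), (3, 55, 59), (3, 38, 51), (0, 18, 34), (1, 69, 34), (3, 29, 62), (3, 83, 28), (2, 94, 43), (2, 8, 24), (0, 71, 21), (2, 52, 5), (1, 5, 35), (0, 71, 20), (3, 62, 71), (3, 71, 44), (2, 19, 53), (2, 89, 12), (2, 43, 42), (1, 10, 32), (3, 52, 9), (2, 15, 20), (1, 66, 30), (3, 42, 56), (1, 92, 1), (3, 42, 3), (0, 24, 18), (2, 33, 47), (2, 69, 24), (1, 59, 52), (1, 14, 44), (0, 7, 11), (3, 27, 38), (2, 45, 43),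 (3, 89, 37), (0, 45, 54), (3, 58, 57), (0, 36, 0), (1, 76, 12), (3, 61, 43), (1, 34, 8), (3, 4, 22), (3, 42, 6), (3, 39, 37), (1, 20, 27), (1, 6, 3), (3, 24, 70), (2, 36, 58), (3, 6, 36), (0, 70, 62), (0, 61, 18), (1, 61, 48), (3, 54, 69), (1, 15, 2), (3, 35, 3), (0, 21, 9), (1, 78, 1), (1, 50, 52), (2, 94, 24), (2, 9, 62), (1, 44, 56), (1, 6, 6), (1, 82, 59), (3, 68, 62), (0, 45, 29), (0, 78, 7), (2, 54, 50), (0, 49, 53), (3, 10, 26), (1, 49, 54), (2, 17, 5), (2, 24, 29), (3, 18, 32), (0, 83, 32), (0, 19, 49), (2, 5, 22), (2, 19, 63), (1, 62, 27), (2, 68, 23), (0, 9, 61), (1, 29, 3), (0, 65, 13), (1, 46, 17), (3, 66, 39), (3, 22, 5), (0, 80, 22), (2, 33, 61), (3, 94, 33), (2, 84, 33), (1, 74, 62), (1, 75, 20), (2, 63, 62), (3, 84, 2), (3, 58, 44), (2, 39, 21), (1, 71, 9), (2, 39, 10), (3, 39, 44), (1, 56, 69), (2, 69, 22), (3, 18, 18),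 (1, 4, 54), (2, 33, 33), (1, 61, 20), (1, 36, 17), (3, 67, 39), (3, 12, 14), (1, 85, 46), (0, 90, 47), (1, 16, 21), (3, 66, 53), (3, 31, 2), (1, 86, 8), (1, 84, 26), (3, 74, 11), (1, 12, 12), (2, 90, 38), (2, 82, 64), (3, 37, 35), (3, 39, 62), (2, 81, 33), (0, 34, 50), (1, 10, 55), (0, 34, 20), (2, 26, 17), (3, 54, 9), (1, 2, 40), (2, 11, 35), (3, 10, 21), (3, 73, 53), (1, 66, 12), (1, 39, 13), (3, 70, 57), (2, 43, 8), (1, 46, 60), (1, 63, 2), (1, 9, 52), (1, 32, 11), (1, 1, 47), (3, 70, 28), (3, 65, 66), (1, 47, 39), (1, 86, 36), (1, 87, 34), (1, 41, 10), (0, 66, 57), (1, 46, 13), (3, 18, 34), (2, 74, 16), (1, 11, 51), (0, 26, 39), (0, 7, 56), (3, 23, 26), (1, 21, 27), (1, 1, 45), (1, 54, 35), (3, 30, 9), (0, 1, 25), (2, 11, 28), (0, 66, 40), (3, 13, 57), (2, 90, 71), (0, 62, 25), (2, 5, 43), (0, 26, 34), (3, 16, 66), (2, 31, 7), (1,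 90, 6), (1, 32, 37), (0, 73, 38), (1, 27, 50), (2, 64, 4), (0, 49, 50), (0, 19, 67), (0, 69, 69), (2, 55, 24), (0, 90, 40), (2, 32, 44), (1, 49, 33), (2, 59, 9), (3, 8, 56), (3, 16, 16), (3, 83, 7), (1, 64, 20), (1, 86, 7), (2, 65, 17), (0, 63, 30), (0, 49, 52), (2, 1, 14), (3, 84, 29), (2, 43, 15), (3, 37, 1), (3, 45, 59), (3, 68, 65), (1, 32, 1), (3, 40, 63), (1, 43, 53), (0, 40, 58), (1, 86, 30), (3, 80, 14), (0, 35, 30), (1, 80, 51), (2, 43, 68), (1, 57, 23), (2, 48, 37), (2, 49, 21), (3, 30, 4), (0, 3, 3), (1, 23, 13), (3, 37, 56), (0, 71, 42), (3, 80, 42), (3, 58, 40), (0, 72, 5), (3, 94, 43), (1, 19, 60), (2, 38, 15), (3, 8, 28), (0, 80, 32), (2, 87, 23), (2, 90, 9), (1, 10, 66), (1, 53, 59), (3, 64, 25), (2, 51, 32), (1, 51, 70), (3, 58, 18), (3, 16, 34), (2, 55, 63), (2, 33, 51), (0, 89, 26), (3, 6, 4), (2, 31, 46), (2, 89, 0),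 (1, 31, 51), (2, 32, 38), (1, 71, 37), (0, 30, 38), (2, 42, 48), (0, 68, 28), (2, 76, 6), (3, 31, 65), (0, 30, 7), (3, 19, 21), (0, 16, 64), (0, 33, 49), (1, 1, 56), (3, 76, 8), (0, 15, 2), (0, 78, 29), (0, 46, 42), (0, 5, 39), (3, 91, 15), (0, 25, 6), (0, 87, 24), (2, 50, 12), (0, 65, 14), (2, 57, 71), (1, 29, 12), (2, 61, 11), (0, 11, 24), (2, 44, 16), (0, 32, 41), (1, 58, 8), (3, 26, 31), (0, 66, 48), (2, 44, 24), (3, 7, 40), (1, 14, 54), (0, 82, 59), (0, 5, 34), (0, 48, 64), (3, 36, 27), (1, 34, 34), (0, 20, 25), (1, 41, 8), (1, 12, 62), (0, 79, 8), (2, 45, 70), (0, 21, 64), (0, 70, 70), (1, 94, 71), (3, 42, 60), (1, 54, 27), (2, 79, 29), (1, 94, 18), (1, 7, 43), (2, 25, 23), (1, 27, 12), (2, 35, 28), (1, 80, 20), (2, 38, 19), (0, 95, 2), (2, 82, 39), (0, 21, 31), (0, 94, 56), (3, 3, 39), (3, 87, 19), (3, 92, 20), (1, 72, 37), (3,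 85, 4), (2, 70, 45), (3, 83, 27), (1, 73, 58), (3, 7, 52), (3, 42, 11), (0, 33, 2), (0, 1, 15), (1, 32, 53), (2, 52, 27), (3, 31, 70), (3, 18, 51), (3, 93, 45), (2, 72, 59), (3, 45, 27), (0, 73, 57), (3, 51, 65), (2, 31, 66), (3, 55, 62), (3, 82, 61), (3, 20, 4), (1, 89, 20), (1, 90, 50), (0, 77, 21), (0, 91, 31), (2, 85, 29), (3, 43, 47), (3, 42, 2), (2, 3, 70), (3, 70, 60), (3, 1, 53), (0, 86, 7), (3, 66, 26), (3, 8, 69), (2, 3, 41), (0, 62, 34), (3, 92, 24), (1, 34, 33), (3, 85, 60), (1, 9, 10), (3, 60, 0), (0, 48, 67), (0, 10, 9), (2, 23, 47), (3, 31, 42), (3, 47, 39), (2, 66, 33), (3, 35, 55), (3, 39, 68), (1, 1, 12), (3, 30, 40), (3, 19, 3), (0, 47, 46), (3, 40, 13), (1, 8, 70), (0, 64, 58), (0, 33, 57), (0, 31, 29), (3, 81, 64), (0, 20, 23), (1, 13, 29), (2, 56, 29), (3, 34, 34), (2, 2, 66), (1, 77, 39), (1, 48, 28), (0, 87, 64),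 (3, 85, 58), (1, 44, 20), (1, 34, 51), (0, 82, 6), (3, 69, 9), (3, 13, 7), (0, 62, 65), (0, 19, 27), (3, 34, 33), (1, 57, 8), (3, 68, 18), (0, 90, 39), (2, 31, 42), (3, 82, 32), (2, 43, 3), (3, 66, 33), (2, 35, 58), (0, 1, 12), (0, 55, 18), (1, 6, 45), (0, 82, 29), (2, 91, 43), (2, 32, 55), (2, 83, 58), (0, 40, 5), (3, 3, 41), (1, 59, 61), (2, 67, 35), (2, 29, 64), (3, 73, 63), (3, 76, 18), (1, 32, 5), (1, 13, 51)]

/-- Entries. -/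
def alphaEnt3 : List (ℕ × ℕ × ℕ) := [(2, 24, 31), (2, 60, 1), (2, 66, 46), (2, 46, 46), (1, 85, 39), (2, 46, 1), (1, 29, 42), (1, 6, 60), (0, 53, 45), (1, 21, 15), (3, 4, 5), (2, 44, 10), (3, 30, 18), (0, 71, 39), (3, 38, 24), (3, 62, 11), (2, 61, 47), (2, 23, 54), (0, 80, 45), (1, 2, 71), (1, 21, 26), (0, 32, 18), (1, 44, 63), (0, 55, 20), (2, 30, 32), (1, 9, 35), (2, 43, 4), (3, 64, 26), (3, 89, 38), (0, 21, 12), (0, 52, 30), (2, 53, 24), (1, 73, 40), (1, 38, 30), (1, 20, 14), (3, 64, 11), (1, 5, 29), (2, 23, 21), (0, 35, 10), (2, 44, 64), (2, 85, 3), (2, 46, 39), (2, 15, 21), (2, 70, 38), (3, 59, 21), (0, 14, 14), (3, 56, 9), (2, 89, 66), (1, 93, 44), (1, 18, 40), (2, 49, 34), (1, 7, 51), (1, 75, 71), (0, 54, 19), (2, 45, 59), (3, 87, 16), (3, 40, 17), (0, 2, 64), (2, 49, 24), (0, 44, 54), (0, 38, 69), (3, 74, 55), (1, 21, 65), (1,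 75, 40), (2, 25, 20), (2, 39, 57), (0, 55, 47), (1, 35, 1), (3, 77, 64), (3, 57, 15), (1, 87, 24), (0, 94, 4), (3, 42, 24), (2, 94, 10), (1, 35, 21), (0, 72, 20), (1, 81, 45), (2, 14, 25), (0, 54, 65), (0, 10, 31), (3, 68, 26), (2, 77, 52), (2, 47, 54), (1, 7, 31), (0, 51, 39), (3, 84, 9), (1, 81, 62), (2, 65, 19), (0, 61, 33), (2, 6, 9), (0, 12, 54), (0, 42, 68), (3, 89, 5), (2, 47, 37), (0, 12, 9), (3, 6, 44), (3, 89, 0), (0, 4, 11), (2, 35, 36), (3, 2, 8), (2, 31, 1), (2, 92, 15), (1, 92, 60), (3, 2, 60), (3, 26, 4), (1, 54, 13), (1, 19, 33), (3, 39, 64), (2, 95, 8), (3, 31, 46), (0, 6, 25), (3, 69, 27), (1, 87, 11), (3, 61, 9), (1, 44, 30), (0, 59, 36), (2, 82, 51), (3, 11, 54), (1, 49, 30), (1, 67, 70), (2, 40, 64), (1, 44, 36), (0, 39, 67), (2, 8, 51), (1, 51, 34), (1, 69, 4), (0, 30, 71), (2, 63, 53), (2, 21, 27), (0, 7, 71), (2,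 13, 48), (3, 31, 19), (2, 77, 40), (1, 6, 10), (2, 94, 66), (2, 78, 26), (1, 81, 13), (3, 49, 19), (2, 58, 35), (2, 77, 35), (2, 15, 27), (3, 9, 49), (0, 87, 35), (0, 59, 15), (3, 52, 16), (3, 34, 23), (2, 91, 45), (2, 48, 38), (0, 8, 66), (0, 1, 68), (1, 5, 50), (1, 85, 50), (2, 70, 0), (3, 14, 54), (0, 91, 68), (3, 6, 2), (1, 55, 38), (3, 82, 40), (1, 13, 42), (0, 6, 45), (0, 39, 10), (1, 39, 44), (1, 64, 29), (1, 30, 42), (0, 56, 17), (2, 86, 6), (2, 24, 34), (0, 94, 21), (1, 49, 67), (1, 10, 23), (0, 54, 28), (3, 77, 27), (2, 56, 63), (3, 73, 46), (0, 37, 10), (0, 21, 71), (2, 48, 4), (1, 26, 40), (3, 4, 64), (1, 27, 13), (2, 82, 55), (0, 8, 32), (1, 18, 5), (3, 35, 19), (3, 46, 60), (1, 21, 20), (3, 54, 37), (0, 69, 50), (1, 19, 24), (2, 87, 66), (0, 11, 57), (3, 5, 42), (2, 29, 33), (0, 1, 71), (2, 39, 14), (3, 3, 62), (1, 37, 31),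 (3, 10, 55), (2, 45, 63), (3, 29, 55), (1, 60, 26), (1, 68, 37), (1, 58, 33), (2, 24, 33), (3, 89, 44), (1, 55, 51), (0, 1, 47), (1, 92, 23), (1, 52, 20), (3, 83, 26), (0, 69, 37), (2, 92, 45), (1, 5, 32), (2, 84, 35), (0, 83, 20), (0, 32, 48), (3, 56, 71), (1, 75, 7), (3, 16, 2), (3, 48, 61), (2, 21, 19), (2, 26, 52), (0, 95, 13), (3, 56, 35), (3, 56, 59), (0, 73, 29), (3, 53, 31), (2, 79, 27), (1, 61, 63), (3, 46, 44), (2, 27, 35), (3, 44, 26), (0, 42, 32), (0, 9, 44), (2, 7, 38), (0, 16, 52), (3, 94, 15), (3, 78, 36), (0, 11, 13), (0, 72, 71), (1, 56, 38), (0, 1, 49), (3, 56, 67), (2, 42, 28), (3, 61, 70), (1, 65, 5), (2, 84, 9), (1, 10, 26), (0, 26, 64), (2, 55, 49), (3, 46, 64), (3, 53, 46), (0, 68, 71), (0, 12, 20), (2, 87, 20), (1, 42, 68), (3, 8, 13), (1, 26, 9), (1, 34, 62), (2, 53, 54), (0, 91, 38), (0, 31, 26), (2, 77, 55),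 (0, 58, 50), (0, 49, 1), (3, 21, 24), (0, 13, 69), (2, 52, 9), (3, 35, 33), (0, 55, 31), (2, 3, 44), (3, 18, 26), (2, 29, 22), (3, 57, 57), (1, 36, 0), (0, 36, 26), (0, 14, 34), (3, 6, 28), (0, 64, 22), (1, 65, 65), (0, 30, 6), (1, 94, 44), (3, 62, 44), (0, 59, 35), (3, 60, 19), (1, 13, 4), (1, 29, 46), (3, 65, 25), (2, 72, 25), (1, 4, 24), (3, 47, 35), (3, 19, 40), (2, 85, 55), (0, 46, 31), (1, 59, 15), (0, 14, 31), (3, 71, 28), (0, 11, 71), (3, 63, 34), (1, 40, 53), (2, 60, 6), (1, 19, 26), (2, 93, 52), (0, 14, 64), (1, 9, 63), (1, 39, 5), (0, 5, 22), (1, 42, 22), (0, 58, 25), (1, 59, 71), (0, 64, 33), (0, 91, 64), (0, 4, 23), (1, 80, 12), (1, 47, 3), (2, 40, 27), (1, 62, 16), (1, 92, 12), (1, 80, 6), (0, 2, 23), (3, 6, 42), (0, 73, 15), (2, 39, 47), (2, 73, 3), (1, 39, 34), (1, 37, 70), (2, 2, 50), (0, 11, 66), (3, 9, 6), (1, 79, 27),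 (0, 62, 13), (0, 8, 12), (3, 87, 15), (0, 56, 24), (0, 33, 10), (1, 3, 47), (1, 13, 16), (1, 15, 14), (0, 19, 47), (1, 24, 58), (3, 3, 4), (2, 38, 2), (1, 46, 43), (2, 39, 65), (3, 5, 62), (3, 84, 36), (3, 31, 22), (2, 12, 18), (0, 27, 36), (0, 11, 48), (1, 32, 43), (2, 34, 8), (2, 54, 23), (3, 56, 52), (3, 12, 37), (0, 39, 36), (2, 56, 2), (3, 73, 7), (0, 35, 68), (1, 51, 20), (2, 8, 52), (1, 44, 47), (0, 61, 35), (0, 89, 17), (2, 57, 66), (1, 83, 65), (0, 9, 49), (3, 8, 15), (0, 52, 14), (0, 70, 50), (3, 4, 62), (1, 87, 40), (0, 30, 53), (2, 32, 6), (2, 20, 14), (3, 44, 1), (1, 58, 52), (2, 12, 71), (0, 22, 17), (0, 78, 21), (3, 85, 18), (0, 61, 55), (1, 53, 7), (1, 35, 12), (2, 80, 33), (2, 1, 2), (3, 51, 22), (2, 92, 56), (3, 38, 34), (3, 59, 68), (1, 81, 44), (0, 24, 17), (0, 90, 54), (2, 24, 4), (1, 54, 52), (0, 77, 15), (1, 39,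 30), (1, 16, 31), (2, 60, 29), (2, 68, 5)]

/-- Entries. -/
def alphaEnt4 : List (ℕ × ℕ × ℕ) := [(3, 37, 69), (3, 24, 33), (0, 10, 43), (3, 74, 42), (2, 7, 60), (3, 26, 20), (0, 81, 49), (1, 93, 26), (1, 60, 13), (2, 3, 62), (1, 29, 55), (0, 80, 38), (0, 3, 18), (3, 3, 46), (3, 43, 56), (1, 82, 51), (1, 49, 32), (1, 18, 71), (0, 13, 54), (3, 33, 23), (2, 47, 3), (2, 5, 4), (2, 50, 9), (1, 14, 9), (3, 89, 13), (2, 36, 68), (0, 26, 8), (1, 35, 47), (3, 13, 68), (1, 36, 60), (1, 62, 24), (2, 16, 6), (3, 90, 53), (3, 24, 45), (0, 21, 5), (2, 90, 64), (1, 9, 67), (1, 5, 63), (1, 74, 4), (1, 49, 41), (3, 81, 25), (2, 90, 45), (0, 11, 21), (1, 38, 68), (2, 58, 1), (0, 14, 52), (3, 8, 41), (1, 33, 27), (2, 37, 24), (2, 38, 46), (3, 62, 22), (1, 36, 58), (3, 14, 19), (0, 29, 50), (2, 75, 30), (3, 49, 28), (1, 29, 58), (1, 37, 48), (0, 54, 3),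 (3, 36, 41), (2, 68, 29), (0, 48, 13), (0, 83, 19), (0, 16, 61), (1, 87, 17), (0, 31, 27), (1, 21, 47), (2, 27, 20), (0, 13, 57), (3, 8, 9), (3, 52, 8), (2, 73, 16), (1, 75, 65), (3, 63, 69), (2, 71, 18), (2, 84, 6), (0, 93, 52), (2, 56, 56), (3, 26, 58), (3, 48, 31), (3, 72, 45), (3, 42, 17), (2, 29, 47), (3, 60, 22), (0, 45, 65), (3, 55, 6), (0, 58, 20), (2, 62, 36), (2, 11, 0), (0, 49, 61), (0, 42, 27), (3, 71, 59), (2, 76, 28), (0, 72, 43), (2, 87, 59), (0, 22, 7), (3, 65, 6), (2, 65, 25), (2, 13, 44), (1, 81, 46), (1, 93, 3), (3, 35, 17), (3, 69, 17), (2, 85, 63), (2, 13, 1), (3, 16, 64), (2, 70, 13), (1, 91, 14), (2, 72, 56), (3, 3, 32), (2, 91, 7), (2, 75, 8), (3, 74, 34), (2, 11, 32), (2, 37, 54), (3, 36, 9), (2, 80, 41), (2, 74, 66), (2, 21, 43), (0, 75, 53), (3, 21, 44), (1, 40, 8), (3, 59, 54), (0, 12, 49), (0, 44, 0), (3,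 51, 39), (3, 21, 50), (0, 48, 57), (2, 82, 5), (1, 89, 71), (0, 92, 64), (1, 83, 61), (3, 52, 19), (2, 58, 23), (1, 12, 39), (1, 8, 36), (3, 18, 50), (1, 87, 10), (3, 11, 6), (0, 89, 37), (1, 51, 19), (0, 35, 18), (2, 13, 63), (1, 81, 7), (1, 68, 46), (2, 40, 35), (0, 32, 8), (1, 69, 55), (2, 49, 68), (2, 56, 9), (3, 7, 10), (2, 53, 3), (1, 47, 38), (0, 38, 41), (1, 59, 20), (1, 6, 16), (3, 56, 30), (3, 26, 54), (1, 46, 4), (3, 43, 9), (0, 37, 33), (2, 3, 28), (1, 80, 46), (0, 59, 60), (3, 85, 37), (1, 63, 62), (3, 27, 48), (0, 19, 4), (3, 49, 18), (3, 39, 41), (0, 64, 68), (3, 66, 59), (0, 52, 26), (2, 49, 16), (0, 8, 3), (3, 90, 0), (2, 16, 19), (0, 51, 49), (2, 42, 5), (2, 23, 6), (2, 54, 6), (3, 14, 68), (3, 54, 39), (1, 58, 2), (2, 58, 6), (1, 61, 15), (2, 42, 10), (3, 57, 11), (2, 65, 36), (1, 35, 29), (2, 49, 12), (2, 27, 21),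 (3, 38, 50), (3, 80, 55), (3, 74, 44), (3, 89, 41), (2, 28, 3), (2, 6, 10), (0, 11, 9), (2, 24, 32), (2, 60, 50), (2, 19, 64), (2, 15, 18), (1, 1, 6), (2, 51, 29), (1, 90, 51), (3, 32, 51), (2, 82, 21), (1, 30, 61), (1, 51, 33), (3, 14, 29), (2, 62, 5), (0, 8, 55), (1, 59, 39), (1, 68, 26), (2, 27, 31), (2, 59, 47), (0, 1, 43), (0, 21, 0), (1, 69, 61), (1, 47, 63), (3, 87, 56), (0, 42, 54), (0, 67, 66), (2, 35, 15), (0, 42, 34), (0, 75, 40), (0, 63, 67), (2, 93, 63), (1, 78, 30), (1, 27, 8), (3, 4, 34), (2, 55, 47), (1, 1, 64), (3, 22, 4), (1, 47, 57), (3, 20, 7), (1, 8, 65), (3, 30, 50), (0, 47, 59), (2, 89, 71), (2, 21, 69), (1, 11, 15), (3, 44, 27), (0, 3, 9), (2, 21, 60), (3, 48, 44), (1, 65, 9), (2, 11, 16), (0, 7, 0), (2, 31, 5), (2, 19, 51), (2, 63, 6), (2, 31, 16), (1, 2, 10), (2, 20, 2), (1, 49, 61), (2, 39, 18), (2, 90, 57),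 (1, 35, 67), (1, 23, 19), (0, 49, 17), (3, 11, 52), (0, 60, 49), (2, 87, 27), (2, 8, 10), (2, 73, 65), (2, 22, 24), (1, 47, 32), (0, 81, 58), (3, 63, 24), (3, 70, 3), (2, 73, 27), (3, 91, 33), (2, 82, 37), (2, 94, 68), (2, 92, 0), (3, 69, 7), (0, 84, 15), (2, 4, 39), (1, 90, 7), (0, 32, 58), (1, 4, 2), (1, 30, 71), (1, 64, 31), (0, 19, 19), (0, 94, 15), (1, 55, 56), (2, 81, 10), (0, 36, 56), (1, 11, 7), (3, 82, 25), (2, 76, 7), (2, 22, 6), (3, 60, 51), (3, 68, 21), (3, 66, 7), (2, 9, 16), (2, 70, 4), (1, 33, 3), (1, 40, 24), (3, 82, 27), (1, 94, 48), (2, 21, 20), (0, 9, 48), (0, 39, 17), (0, 62, 62), (3, 80, 71), (3, 7, 34), (2, 72, 53), (2, 62, 63), (0, 36, 50), (2, 59, 66), (2, 4, 19), (1, 24, 63), (3, 26, 46), (0, 16, 8), (0, 53, 59), (2, 91, 29), (1, 83, 6), (1, 94, 43), (2, 33, 26), (2, 43, 48), (0, 53, 14), (3, 6, 33), (2, 32, 11),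 (3, 24, 21), (0, 30, 61), (1, 31, 14), (1, 46, 71), (0, 60, 39), (2, 94, 39), (2, 24, 9), (0, 59, 47), (0, 64, 31), (0, 40, 33), (3, 92, 37), (0, 23, 55), (1, 70, 47), (2, 10, 14), (1, 92, 19), (3, 94, 9), (2, 62, 15), (1, 68, 30), (3, 8, 57), (3, 8, 45), (3, 10, 65), (3, 92, 46), (2, 27, 50), (0, 36, 24), (3, 48, 70), (3, 22, 24), (3, 78, 5), (3, 40, 16), (3, 60, 42), (0, 15, 28), (3, 88, 5), (0, 93, 39), (3, 58, 21), (3, 74, 45), (3, 30, 63), (1, 60, 37), (3, 54, 30), (1, 56, 58), (1, 67, 19), (2, 77, 10), (3, 90, 52), (3, 36, 25), (1, 63, 32), (3, 65, 44), (1, 74, 46), (3, 84, 14), (2, 44, 27), (0, 5, 55), (0, 93, 57), (2, 47, 70), (1, 85, 32), (0, 2, 10), (3, 31, 16), (3, 42, 58), (2, 46, 42), (3, 24, 3), (0, 21, 41), (1, 70, 14), (2, 57, 44), (0, 44, 60), (3, 31, 4), (3, 91, 4), (0, 8, 68), (3, 57, 4), (1, 68, 66), (1, 23, 11), (0,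 9, 7), (3, 2, 46), (1, 83, 54), (0, 20, 33), (0, 42, 48), (3, 59, 2), (0, 43, 59), (3, 36, 71)]

/-- Entries. -/
def alphaEnt5 : List (ℕ × ℕ × ℕ) := [(1, 6, 24), (3, 62, 57), (2, 60, 54), (2, 19, 55), (2, 14, 11), (1, 32, 10), (0, 83, 45), (0, 1, 69), (2, 43, 17), (2, 59, 39), (2, 33, 2), (2, 18, 17), (2, 37, 28), (3, 47, 46), (1, 86, 31), (1, 80, 55), (3, 91, 55), (3, 77, 25), (1, 63, 19), (2, 94, 6), (0, 43, 18), (3, 91, 5), (3, 85, 7), (2, 59, 18), (3, 85, 56), (2, 10, 66), (2, 90, 2), (0, 16, 19), (3, 59, 40), (2, 50, 39), (0, 66, 36), (0, 94, 31), (0, 47, 68), (1, 54, 5), (0, 27, 67), (2, 43, 9), (0, 24, 45), (2, 94, 2), (3, 67, 50), (0, 6, 52), (2, 54, 12), (1, 89, 64), (1, 68, 49), (3, 39, 29), (3, 48, 56), (0, 45, 67), (3, 45, 70), (1, 8, 47), (2, 56, 30), (1, 16, 59), (0, 82, 56), (3, 48, 13), (1, 31, 29), (0, 11, 45), (0, 45,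 5), (3, 70, 49), (2, 93, 27), (0, 82, 10), (1, 27, 16), (3, 11, 29), (1, 94, 53), (0, 23, 49), (1, 62, 51), (3, 94, 41), (1, 52, 19), (2, 61, 12), (0, 4, 57), (2, 79, 16), (0, 71, 14), (1, 58, 6), (2, 40, 69), (2, 81, 5), (0, 9, 15), (1, 87, 14), (2, 11, 27), (0, 51, 43), (1, 0, 0), (0, 92, 29), (0, 14, 45), (2, 36, 29), (3, 55, 64), (3, 95, 14), (1, 47, 66), (3, 87, 62), (1, 18, 43), (3, 2, 52), (3, 59, 1), (3, 27, 68), (0, 10, 35), (1, 19, 9), (0, 23, 37), (2, 29, 44), (0, 91, 62), (2, 68, 6), (0, 56, 66), (2, 40, 49), (3, 31, 32), (0, 42, 11), (2, 21, 61), (2, 70, 23), (1, 85, 17), (3, 27, 70), (1, 70, 15), (2, 45, 65), (3, 58, 30), (3, 66, 16), (1, 5, 40), (2, 87, 45), (0, 82, 31), (3, 33, 71), (0, 81, 0), (3, 8, 11), (0, 93, 1), (2, 1, 70), (1, 39, 14), (3, 70, 7), (3, 64, 17), (1, 43, 8), (2, 63, 22), (3, 5, 35), (0, 73, 16), (2,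 87, 71), (0, 35, 48), (0, 37, 32), (0, 36, 31), (1, 62, 22), (1, 62, 55), (2, 14, 71), (3, 81, 27), (3, 6, 26), (0, 55, 25), (3, 37, 24), (0, 94, 43), (2, 31, 31), (3, 75, 30), (2, 29, 50), (0, 23, 17), (3, 38, 58), (1, 75, 66), (0, 46, 71), (3, 79, 10), (2, 13, 51), (0, 16, 29), (2, 51, 15), (1, 75, 26), (0, 6, 32), (0, 35, 56), (3, 32, 8), (1, 49, 51), (1, 68, 61), (1, 14, 19), (0, 69, 68), (0, 6, 5), (0, 50, 4), (2, 55, 2), (2, 73, 14), (1, 54, 3), (3, 70, 54), (1, 80, 1), (3, 1, 31), (1, 62, 0), (0, 14, 49), (2, 24, 53), (0, 94, 1), (3, 71, 18), (3, 49, 52), (3, 85, 57), (0, 70, 33), (1, 43, 30), (2, 39, 9), (2, 24, 59), (2, 26, 58), (0, 11, 1), (0, 50, 65), (1, 74, 5), (3, 49, 9), (0, 88, 5), (0, 89, 44), (3, 12, 29), (1, 65, 47), (2, 81, 48), (2, 24, 13), (3, 80, 13), (1, 20, 24), (0, 33, 19), (0, 49, 63), (2, 24, 57), (2, 41, 15),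 (3, 11, 20), (2, 40, 38), (1, 27, 23), (0, 62, 24), (3, 7, 2), (3, 39, 1), (2, 11, 49), (0, 38, 54), (2, 81, 35), (1, 38, 60), (0, 85, 51), (3, 58, 31), (1, 69, 12), (0, 8, 43), (0, 38, 31), (2, 9, 41), (2, 35, 64), (1, 26, 8), (3, 71, 64), (0, 57, 54), (0, 83, 24), (3, 67, 31), (0, 49, 23), (0, 3, 52), (1, 1, 35), (1, 73, 8), (0, 36, 44), (1, 21, 4), (2, 0, 0), (1, 16, 33), (3, 28, 8), (0, 68, 49), (0, 91, 37), (3, 64, 15), (0, 34, 37), (1, 24, 46), (0, 87, 1), (3, 50, 18), (3, 73, 54), (0, 23, 0), (0, 54, 52), (3, 31, 67), (3, 60, 45), (3, 35, 54), (1, 46, 58), (2, 54, 45), (0, 78, 35), (2, 65, 37), (2, 54, 70), (3, 14, 51), (1, 4, 67), (3, 39, 54), (3, 61, 29), (3, 44, 46), (0, 32, 24), (2, 92, 41), (3, 62, 67), (0, 90, 30), (1, 66, 47), (0, 74, 2), (0, 64, 59), (3, 62, 1), (3, 26, 13), (1, 19, 31), (1, 85, 33), (3, 61, 42), (0, 68,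 68), (3, 42, 62), (0, 71, 28), (3, 69, 50), (2, 4, 62), (0, 53, 38), (1, 70, 50), (2, 1, 36), (2, 58, 44), (2, 8, 15), (3, 60, 44), (2, 36, 21), (2, 16, 16), (0, 12, 19), (0, 90, 20), (1, 67, 47), (0, 22, 2), (2, 6, 6), (0, 10, 1), (0, 41, 16), (0, 80, 33), (1, 92, 40), (2, 38, 9), (3, 13, 41), (0, 8, 34), (1, 52, 33), (2, 93, 43), (0, 38, 63), (3, 66, 64), (3, 35, 32), (1, 10, 35), (0, 83, 47), (0, 60, 48), (1, 50, 50), (0, 78, 32), (3, 68, 6), (1, 3, 67), (2, 21, 30), (3, 11, 38), (3, 34, 64), (0, 45, 19), (3, 93, 27), (1, 8, 27), (1, 55, 4), (2, 8, 48), (0, 31, 68), (1, 82, 56), (3, 29, 67), (1, 54, 10), (0, 16, 40), (1, 35, 49), (1, 45, 64), (3, 67, 55), (2, 94, 41), (3, 69, 40), (1, 51, 43), (2, 86, 28), (0, 19, 52), (3, 63, 2), (0, 90, 34), (1, 27, 22), (3, 30, 11), (3, 68, 9), (0, 81, 4), (0, 20, 11), (2, 24, 41), (0, 30, 47),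 (0, 32, 44), (3, 74, 49), (3, 77, 2), (2, 60, 25), (3, 63, 7), (0, 75, 27), (2, 93, 35), (0, 22, 33), (3, 38, 36), (3, 33, 52), (0, 65, 33), (2, 19, 0), (3, 51, 6), (2, 47, 63), (0, 57, 43), (2, 26, 30), (3, 11, 58), (2, 33, 63), (0, 48, 51), (0, 20, 26), (0, 9, 0), (1, 16, 27), (0, 90, 31), (3, 41, 2), (2, 34, 0), (2, 5, 56), (2, 4, 2), (2, 85, 13), (1, 91, 2), (3, 39, 19), (2, 53, 28), (1, 1, 42), (2, 12, 28), (0, 77, 33), (1, 26, 38), (1, 56, 23), (2, 44, 45), (3, 24, 29), (3, 77, 54), (0, 9, 31), (3, 87, 43), (1, 71, 21), (1, 3, 49), (2, 77, 19), (2, 33, 34), (0, 12, 57), (2, 58, 14), (2, 85, 47), (3, 67, 24), (1, 11, 66), (0, 62, 47), (1, 55, 36), (0, 46, 41), (2, 12, 70), (3, 30, 16), (2, 76, 17), (2, 44, 67), (3, 54, 43), (2, 54, 24), (2, 36, 30), (0, 20, 35), (0, 58, 24), (1, 18, 62), (0, 50, 53), (2, 82, 22), (0, 39, 0), (3,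 94, 45), (1, 27, 36), (1, 7, 11), (2, 71, 12), (0, 60, 52), (3, 73, 68), (2, 27, 44), (0, 11, 67), (0, 68, 39), (0, 85, 23), (3, 56, 7), (3, 1, 23), (3, 69, 52)]

/-- Entries. -/
def alphaEnt6 : List (ℕ × ℕ × ℕ) := [(2, 81, 29), (0, 30, 28), (2, 75, 34), (1, 64, 66), (0, 4, 0), (0, 5, 45), (0, 56, 10), (3, 82, 28), (0, 70, 2), (3, 48, 45), (2, 74, 64), (1, 7, 56), (1, 29, 60), (3, 35, 13), (3, 3, 60), (3, 42, 52), (3, 1, 37), (0, 10, 6), (1, 66, 40), (1, 63, 31), (2, 71, 31), (2, 13, 57), (2, 62, 25), (2, 29, 12), (3, 93, 51), (2, 34, 41), (1, 18, 32), (0, 44, 62), (1, 70, 64), (1, 34, 43), (0, 53, 57), (0, 45, 57), (1, 59, 9), (3, 24, 7), (1, 35, 25), (2, 93, 19), (0, 53, 66), (0, 56, 3), (2, 13, 64), (1, 34, 6), (2, 59, 22), (1, 58, 15), (1, 54, 16), (2, 20, 16), (3, 53, 25), (3, 17, 3), (1, 49, 47), (2, 37, 25), (3, 37, 57), (1, 38,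 45), (0, 69, 71), (1, 46, 34), (0, 46, 20), (0, 79, 5), (0, 87, 60), (1, 32, 6), (1, 58, 1), (2, 83, 7), (2, 80, 34), (2, 83, 71), (1, 72, 43), (3, 61, 48), (0, 29, 25), (0, 56, 36), (0, 16, 17), (1, 57, 14), (2, 89, 16), (0, 28, 21), (0, 70, 12), (3, 42, 9), (3, 65, 21), (0, 61, 70), (1, 82, 54), (0, 33, 33), (3, 62, 46), (1, 49, 4), (2, 43, 20), (1, 72, 40), (1, 46, 66), (3, 69, 28), (3, 34, 44), (1, 63, 63), (3, 22, 27), (0, 67, 0), (2, 91, 63), (0, 30, 69), (0, 38, 28), (3, 71, 43), (3, 19, 12), (1, 89, 70), (2, 8, 61), (2, 50, 16), (3, 49, 41), (2, 8, 23), (3, 15, 3), (0, 34, 17), (3, 28, 15), (3, 54, 36), (0, 92, 7), (3, 35, 60), (1, 63, 11), (1, 46, 14), (0, 7, 65), (0, 53, 3), (3, 51, 46), (3, 31, 27), (0, 59, 17), (0, 30, 55), (2, 82, 69), (2, 4, 47), (3, 24, 42), (0, 60, 61), (1, 20, 15), (3, 5, 27), (1, 85, 37), (2, 89, 30),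 (2, 87, 38), (1, 76, 35), (1, 40, 42), (0, 74, 50), (2, 94, 51), (2, 22, 35), (2, 77, 58), (3, 57, 26), (0, 36, 47), (0, 43, 50), (0, 9, 66), (3, 64, 28), (1, 45, 31), (1, 61, 12), (1, 86, 12), (2, 43, 49), (0, 37, 1), (2, 92, 25), (2, 63, 36), (1, 83, 1), (1, 65, 37), (2, 4, 58), (1, 42, 23), (2, 50, 35), (2, 46, 68), (3, 19, 16), (0, 53, 13), (0, 67, 37), (3, 5, 71), (3, 50, 29), (2, 48, 21), (1, 24, 51), (2, 92, 47), (2, 83, 2), (0, 26, 6), (0, 70, 13), (2, 94, 45), (3, 44, 49), (0, 40, 25), (3, 23, 61), (0, 19, 2), (0, 42, 45), (1, 44, 66), (3, 53, 42), (0, 70, 35), (2, 31, 52), (2, 48, 36), (3, 60, 21), (1, 40, 23), (2, 23, 58), (0, 46, 35), (2, 81, 57), (2, 30, 36), (1, 76, 28), (2, 36, 3), (1, 14, 48), (1, 57, 27), (2, 89, 67), (1, 51, 52), (0, 22, 26), (1, 1, 65), (0, 54, 63), (0, 29, 48), (0, 82, 9), (0, 82, 5), (0, 18, 33),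 (1, 64, 3), (2, 11, 6), (2, 20, 1), (3, 66, 60), (1, 51, 9), (1, 13, 11), (0, 45, 36), (3, 30, 67), (3, 93, 40), (1, 92, 13), (1, 50, 57), (3, 17, 0), (2, 55, 37), (2, 16, 47), (0, 91, 58), (1, 44, 42), (2, 60, 68), (2, 52, 23), (1, 5, 14), (1, 78, 17), (1, 23, 8), (1, 20, 35), (2, 52, 20), (2, 49, 3), (0, 72, 31), (2, 93, 26), (3, 22, 32), (1, 47, 20), (1, 36, 43), (0, 14, 15), (1, 4, 38), (1, 3, 16), (0, 7, 16), (2, 12, 17), (1, 13, 15), (0, 76, 26), (0, 16, 3), (2, 69, 0), (1, 70, 19), (2, 50, 30), (1, 8, 67), (3, 58, 41), (1, 27, 41), (0, 31, 36), (0, 60, 56), (3, 14, 8), (2, 54, 46), (0, 49, 13), (1, 50, 70), (0, 86, 1), (0, 69, 43), (0, 56, 16), (0, 57, 7), (2, 76, 29), (1, 32, 50), (0, 47, 29), (2, 93, 13), (2, 33, 24), (3, 83, 11), (2, 60, 51), (3, 76, 23), (3, 71, 37), (3, 56, 60), (1, 44, 45), (1, 14, 40), (0, 85, 4), (0, 18,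 15), (0, 50, 10), (1, 51, 16), (2, 39, 68), (2, 79, 3), (2, 19, 37), (0, 29, 9), (0, 92, 28), (3, 36, 31), (2, 69, 64), (0, 90, 51), (3, 90, 49), (0, 33, 17), (2, 6, 70), (1, 91, 24), (0, 19, 66), (2, 31, 43), (2, 61, 5), (2, 55, 48), (1, 92, 32), (2, 85, 49), (1, 94, 65), (2, 21, 2), (3, 44, 4), (1, 73, 37), (1, 30, 66), (1, 67, 66), (0, 46, 66), (1, 40, 11), (1, 27, 30), (3, 52, 28), (0, 51, 8), (3, 68, 33), (3, 83, 8), (0, 49, 37), (3, 38, 5), (0, 73, 66), (0, 65, 67), (3, 33, 6), (2, 64, 60), (0, 30, 29), (0, 36, 43), (3, 19, 23), (3, 64, 39), (3, 85, 50), (0, 27, 49), (0, 18, 69), (3, 12, 16), (0, 70, 19), (3, 61, 68), (2, 49, 64), (1, 50, 16), (0, 16, 50), (2, 18, 71), (1, 8, 21), (0, 19, 15), (2, 77, 62), (2, 45, 46), (3, 15, 1), (2, 72, 34), (2, 42, 31), (0, 13, 48), (0, 21, 51), (1, 43, 23), (1, 60, 20), (0, 24, 30), (3, 36,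 22), (0, 14, 6), (2, 42, 8), (3, 85, 67), (3, 32, 61), (2, 64, 3), (2, 91, 17), (0, 61, 31), (0, 4, 25), (0, 77, 24), (3, 2, 30), (0, 38, 30), (2, 92, 27), (0, 63, 58), (3, 77, 4), (1, 69, 48), (3, 34, 49), (3, 40, 22), (3, 48, 18), (2, 41, 7), (0, 87, 68), (0, 30, 59), (2, 80, 62), (2, 16, 18), (0, 5, 11), (3, 32, 18), (3, 13, 55), (2, 48, 48), (2, 78, 18), (0, 42, 62), (2, 23, 36), (2, 16, 21), (2, 44, 59), (0, 33, 22), (2, 20, 5), (3, 43, 70), (2, 53, 68), (1, 44, 11), (2, 68, 7), (3, 45, 25), (1, 29, 14), (3, 59, 24), (1, 9, 56), (3, 58, 36), (1, 13, 52), (2, 23, 44), (0, 56, 43), (1, 44, 55), (0, 18, 13), (3, 5, 0), (3, 51, 3), (3, 29, 49), (3, 42, 37), (1, 8, 1), (3, 69, 0), (1, 32, 63), (2, 67, 25), (2, 65, 39), (0, 68, 3), (2, 11, 17), (1, 6, 41), (2, 4, 60), (3, 75, 0), (0, 49, 46), (1, 38, 40), (3, 8, 51), (1, 39, 55), (0, 92,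 66), (2, 4, 15), (1, 75, 2), (1, 6, 22), (3, 64, 62), (1, 42, 1), (3, 19, 35), (0, 72, 69), (3, 40, 40), (0, 11, 33), (3, 15, 13), (2, 68, 0), (0, 74, 21), (2, 6, 15), (2, 60, 17), (0, 8, 22), (0, 32, 36), (2, 60, 59), (1, 87, 58)]

/-- Entries. -/
def alphaEnt7 : List (ℕ × ℕ × ℕ) := [(3, 78, 24), (2, 93, 64), (2, 37, 14), (2, 36, 62), (0, 93, 54), (0, 26, 71), (2, 5, 40), (3, 80, 25), (0, 29, 26), (0, 83, 2), (0, 47, 42), (2, 31, 19), (0, 94, 66), (1, 14, 70), (2, 74, 55), (0, 67, 13), (2, 8, 38), (1, 71, 66), (1, 27, 34), (1, 91, 5), (2, 64, 19), (0, 24, 51), (0, 22, 11), (1, 91, 55), (0, 46, 52), (1, 15, 21), (0, 7, 26), (2, 94, 29), (1, 10, 19), (2, 91, 11), (1, 75, 61), (2, 83, 56), (2, 46, 35), (0, 75, 71), (3, 4, 57), (1, 43, 48), (0, 37, 26), (1, 61, 10), (0, 18, 61), (3, 9, 5), (1, 8, 7), (3, 87, 38), (0, 4, 40), (2, 36, 13),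 (3, 82, 14), (1, 20, 18), (0, 38, 67), (2, 39, 31), (2, 46, 21), (1, 43, 50), (3, 94, 8), (3, 71, 53), (0, 29, 61), (1, 42, 26), (3, 20, 30), (0, 35, 3), (0, 14, 25), (1, 27, 0), (1, 37, 21), (0, 23, 8), (0, 91, 26), (1, 3, 7), (2, 63, 0), (1, 49, 71), (1, 55, 8), (3, 20, 32), (2, 12, 50), (0, 22, 4), (2, 8, 58), (3, 16, 65), (3, 78, 35), (1, 80, 18), (3, 43, 23), (0, 29, 59), (1, 37, 50), (0, 70, 5), (0, 80, 5), (3, 2, 18), (2, 54, 71), (3, 92, 12), (0, 81, 17), (1, 59, 30), (2, 7, 65), (2, 3, 29), (0, 19, 54), (3, 91, 17), (2, 83, 5), (3, 60, 65), (3, 49, 37), (2, 89, 44), (1, 72, 23), (1, 27, 69), (2, 1, 9), (1, 64, 39), (3, 72, 69), (2, 68, 56), (3, 63, 61), (0, 10, 34), (1, 57, 1), (2, 94, 54), (0, 7, 38), (0, 34, 46), (2, 15, 1), (2, 55, 52), (0, 75, 54), (2, 38, 6), (3, 42, 31), (3, 89, 16), (2, 80, 57), (3, 67, 67), (1, 38, 1),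 (0, 43, 16), (1, 58, 35), (1, 62, 35), (3, 26, 10), (0, 32, 19), (0, 3, 44), (3, 4, 63), (2, 83, 15), (3, 55, 38), (0, 37, 44), (2, 93, 33), (3, 33, 10), (2, 73, 8), (0, 91, 3), (2, 16, 11), (0, 72, 24), (3, 13, 40), (3, 47, 14), (3, 40, 5), (2, 36, 28), (0, 55, 64), (2, 32, 14), (2, 26, 64), (0, 47, 44), (1, 26, 12), (3, 58, 39), (2, 47, 69), (1, 2, 25), (0, 68, 20), (2, 34, 65), (3, 73, 64), (1, 11, 27), (1, 9, 25), (0, 62, 43), (2, 30, 47), (1, 84, 19), (3, 91, 27), (0, 1, 22), (2, 20, 11), (0, 37, 14), (1, 14, 3), (3, 43, 36), (2, 34, 54), (0, 12, 68), (3, 21, 19), (0, 32, 27), (1, 82, 69), (2, 80, 3), (2, 47, 42), (0, 10, 56), (3, 12, 66), (3, 29, 46), (0, 74, 44), (2, 78, 3), (2, 30, 33), (0, 6, 41), (1, 75, 6), (2, 81, 43), (2, 49, 38), (1, 75, 12), (2, 50, 34), (0, 19, 22), (2, 66, 66), (2, 26, 24), (2, 72, 6), (3, 58, 49), (2,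 14, 63), (1, 1, 41), (3, 68, 63), (2, 32, 7), (0, 48, 26), (0, 71, 3), (0, 92, 45), (2, 54, 16), (1, 49, 24), (3, 55, 55), (2, 72, 58), (0, 70, 68), (2, 69, 67), (0, 7, 46), (1, 89, 58), (0, 38, 12), (1, 89, 52), (1, 43, 58), (2, 51, 53), (3, 2, 14), (2, 67, 31), (1, 11, 57), (0, 13, 55), (0, 91, 32), (0, 66, 49), (3, 80, 52), (3, 10, 48), (2, 48, 54), (3, 58, 14), (3, 61, 17), (0, 70, 11), (2, 1, 67), (3, 6, 40), (2, 20, 30), (2, 49, 62), (2, 76, 15), (2, 11, 2), (0, 56, 38), (0, 18, 0), (1, 91, 26), (2, 77, 63), (1, 61, 29), (0, 24, 67), (2, 18, 26), (2, 12, 46), (3, 66, 47), (2, 70, 42), (3, 5, 1), (1, 19, 39), (0, 39, 70), (1, 37, 65), (3, 46, 16), (0, 35, 14), (2, 7, 27), (1, 14, 67), (3, 26, 19), (0, 66, 37), (1, 12, 31), (0, 5, 38), (1, 67, 16), (2, 62, 41), (3, 26, 71), (3, 63, 58), (0, 49, 57), (0, 73, 23), (3, 68, 29), (0, 58,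 48), (2, 47, 4), (2, 38, 36), (1, 5, 25), (1, 6, 57), (2, 33, 65), (0, 71, 41), (3, 78, 22), (3, 3, 69), (2, 47, 61), (0, 31, 58), (3, 74, 6), (3, 28, 5), (1, 34, 58), (0, 36, 52), (2, 27, 33), (1, 69, 41), (3, 47, 7), (2, 8, 12), (3, 19, 58), (3, 29, 16), (3, 18, 44), (3, 50, 31), (2, 57, 8), (3, 46, 8), (0, 58, 10), (0, 19, 57), (1, 35, 71), (0, 61, 22), (3, 75, 50), (0, 64, 26), (0, 63, 26), (2, 74, 32), (3, 44, 33), (3, 6, 46), (1, 43, 49), (0, 58, 54), (3, 56, 15), (2, 35, 63), (1, 48, 47), (2, 45, 23), (0, 11, 34), (0, 14, 19), (0, 72, 61), (0, 92, 9), (0, 32, 20), (0, 20, 29), (2, 30, 8), (0, 46, 27), (0, 74, 1), (2, 89, 27), (3, 8, 48), (1, 6, 70), (2, 40, 16), (2, 40, 57), (2, 20, 15), (2, 8, 46), (2, 46, 7), (1, 37, 67), (2, 73, 2), (0, 75, 22), (3, 71, 34), (3, 54, 28), (1, 62, 70), (3, 16, 50), (2, 1, 20), (2, 72, 60), (1,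 6, 7), (3, 3, 57), (1, 9, 3), (0, 8, 14), (3, 25, 30), (2, 52, 11), (0, 87, 52), (3, 14, 1), (3, 55, 18), (3, 4, 51), (0, 62, 22), (1, 24, 11), (3, 21, 42), (3, 56, 26), (3, 71, 13), (2, 53, 59), (3, 68, 38), (3, 89, 57), (3, 94, 49), (2, 32, 12), (1, 66, 67), (1, 51, 41), (0, 52, 21), (3, 70, 14), (3, 40, 43), (3, 16, 45), (3, 59, 5), (1, 91, 13), (1, 68, 54), (2, 59, 12), (0, 50, 11), (3, 72, 26), (0, 81, 23), (3, 30, 7), (2, 29, 1), (1, 29, 51), (0, 29, 18), (0, 29, 2), (2, 73, 41), (3, 35, 7), (3, 10, 63), (0, 64, 70), (3, 65, 8), (3, 34, 43), (0, 73, 59), (2, 90, 11), (2, 73, 7), (1, 16, 9), (1, 74, 23), (2, 56, 1), (0, 49, 69), (0, 20, 19), (0, 55, 2), (1, 69, 57), (2, 70, 36), (2, 51, 14), (1, 94, 62), (0, 56, 27), (2, 92, 22), (3, 86, 31), (3, 90, 36), (3, 87, 57), (0, 65, 41), (1, 72, 34), (2, 91, 24), (2, 16, 17), (3, 3, 33),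 (2, 48, 13), (1, 86, 22), (0, 14, 69), (1, 7, 2), (0, 58, 1), (3, 64, 57), (0, 82, 33), (2, 72, 1), (1, 7, 24), (2, 32, 16), (2, 80, 13), (3, 5, 8), (3, 65, 40), (3, 37, 49), (0, 82, 52), (2, 72, 8), (2, 12, 52), (2, 92, 29), (1, 69, 66), (0, 50, 7), (0, 30, 40), (3, 65, 64), (2, 95, 14)]

/-- Entries. -/
def alphaEnt8 : List (ℕ × ℕ × ℕ) := [(1, 85, 25), (1, 91, 0), (0, 80, 60), (0, 33, 42), (1, 51, 35), (3, 33, 31), (2, 62, 46), (1, 54, 20), (1, 82, 55), (2, 39, 58), (1, 62, 67), (1, 48, 9), (3, 43, 7), (1, 71, 5), (1, 11, 45), (2, 16, 29), (2, 10, 52), (0, 9, 1), (0, 21, 40), (2, 71, 14), (3, 20, 14), (2, 75, 11), (0, 11, 47), (1, 56, 31), (1, 47, 19), (0, 62, 14), (1, 55, 16), (1, 16, 32), (0, 63, 9), (3, 31, 28), (0, 6, 44), (2, 1, 28), (3, 38, 8), (0, 92, 50), (0, 29, 4), (1, 73, 36), (2, 20, 7), (1, 35, 46), (0, 54, 15), (0, 80,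 58), (1, 60, 43), (2, 49, 63), (3, 1, 27), (2, 75, 40), (1, 91, 51), (1, 42, 44), (2, 19, 20), (1, 91, 8), (2, 27, 45), (2, 70, 49), (1, 92, 43), (3, 62, 64), (1, 46, 27), (3, 92, 31), (2, 13, 31), (3, 5, 53), (1, 68, 24), (1, 34, 3), (1, 49, 57), (0, 46, 68), (0, 23, 11), (0, 37, 15), (1, 32, 8), (3, 69, 36), (2, 12, 35), (2, 64, 64), (2, 2, 52), (3, 63, 49), (2, 56, 21), (1, 50, 31), (0, 58, 23), (0, 63, 27), (1, 14, 45), (0, 77, 55), (2, 76, 16), (0, 82, 16), (2, 1, 63), (2, 43, 31), (0, 86, 35), (3, 51, 57), (2, 29, 34), (2, 31, 71), (2, 85, 37), (1, 42, 20), (0, 51, 41), (0, 1, 50), (0, 26, 7), (1, 37, 20), (2, 82, 27), (0, 45, 58), (3, 6, 37), (2, 73, 37), (1, 15, 33), (3, 27, 37), (0, 63, 19), (0, 23, 64), (2, 43, 46), (2, 21, 14), (0, 75, 62), (3, 72, 0), (3, 9, 41), (3, 66, 1), (2, 59, 35), (1, 81, 67), (1, 61, 61), (3, 20, 6),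 (1, 26, 29), (1, 59, 53), (2, 77, 13), (1, 38, 50), (0, 1, 7), (2, 33, 46), (3, 62, 40), (0, 5, 49), (1, 46, 38), (1, 33, 21), (3, 94, 46), (0, 49, 58), (0, 55, 28), (0, 78, 12), (1, 23, 55), (3, 67, 1), (3, 47, 9), (0, 89, 43), (1, 27, 19), (3, 43, 29), (1, 77, 51), (1, 69, 14), (2, 30, 61), (3, 74, 5), (0, 87, 45), (0, 38, 47), (0, 39, 22), (2, 76, 35), (1, 44, 46), (1, 7, 63), (2, 91, 23), (3, 94, 40), (2, 10, 11), (1, 81, 3), (0, 15, 29), (0, 21, 8), (0, 51, 19), (2, 73, 33), (0, 50, 18), (0, 27, 6), (1, 76, 17), (1, 74, 18), (3, 85, 33), (1, 31, 30), (2, 85, 48), (1, 26, 13), (0, 76, 23), (2, 63, 50), (2, 11, 55), (3, 58, 66), (0, 39, 24), (3, 48, 11), (0, 3, 16), (2, 53, 38), (1, 79, 3), (2, 46, 10), (1, 56, 50), (3, 18, 6), (0, 89, 59), (1, 56, 21), (1, 27, 7), (3, 57, 67), (1, 19, 28), (1, 48, 44), (3, 21, 13), (1, 90, 25), (3,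 2, 43), (2, 24, 26), (1, 43, 59), (3, 22, 16), (3, 51, 14), (1, 22, 9), (3, 39, 11), (0, 85, 64), (2, 85, 21), (3, 92, 5), (1, 90, 48), (2, 62, 38), (2, 14, 3), (3, 40, 46), (3, 19, 38), (0, 42, 30), (0, 87, 49), (2, 79, 18), (2, 1, 17), (2, 36, 69), (2, 39, 46), (2, 29, 24), (0, 2, 44), (1, 8, 16), (1, 20, 1), (2, 55, 58), (3, 53, 21), (1, 54, 8), (2, 66, 54), (1, 46, 44), (2, 26, 44), (2, 30, 62), (2, 15, 12), (1, 53, 4), (1, 35, 8), (2, 46, 26), (3, 12, 22), (0, 5, 60), (3, 92, 40), (3, 92, 16), (3, 16, 51), (3, 53, 62), (3, 61, 18), (2, 2, 12), (2, 87, 1), (0, 10, 13), (3, 54, 20), (1, 66, 52), (2, 89, 56), (3, 33, 8), (0, 39, 63), (1, 7, 19), (1, 6, 52), (0, 66, 5), (3, 85, 15), (0, 36, 17), (2, 67, 14), (2, 36, 64), (3, 26, 44), (2, 27, 60), (0, 53, 4), (1, 30, 29), (2, 23, 30), (3, 50, 17), (0, 69, 48), (0, 2, 34), (0, 13, 37),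 (2, 23, 39), (1, 56, 34), (1, 7, 41), (2, 62, 62), (0, 74, 69), (0, 11, 8), (1, 2, 30), (3, 13, 16), (3, 26, 21), (2, 77, 24), (0, 33, 3), (2, 89, 34), (1, 37, 46), (1, 7, 10), (0, 64, 56), (0, 91, 1), (1, 77, 35), (0, 86, 19), (3, 62, 38), (0, 22, 9), (2, 2, 43), (1, 24, 3), (0, 74, 14), (0, 12, 5), (1, 61, 58), (2, 90, 8), (1, 90, 15), (0, 6, 51), (2, 57, 32), (3, 36, 24), (2, 65, 66), (2, 14, 23), (2, 93, 67), (1, 14, 29), (2, 62, 48), (1, 3, 46), (3, 50, 20), (1, 15, 5), (1, 2, 44), (3, 83, 13), (2, 89, 17), (3, 33, 1), (3, 90, 43), (0, 56, 7), (1, 43, 64), (2, 14, 21), (3, 58, 53), (0, 64, 20), (2, 70, 37), (2, 82, 17), (0, 88, 0), (2, 42, 13), (1, 9, 19), (3, 47, 47), (0, 82, 19), (3, 37, 15), (0, 94, 53), (0, 31, 21), (3, 55, 69), (3, 69, 38), (0, 56, 6), (3, 45, 36), (0, 58, 5), (2, 38, 26), (3, 93, 24), (1, 6, 66), (2, 16, 49),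 (1, 49, 36), (0, 57, 56), (1, 54, 30), (2, 62, 71), (2, 83, 57), (3, 4, 44), (2, 61, 0), (1, 63, 46), (1, 36, 50), (2, 65, 69), (2, 18, 19), (1, 39, 22), (2, 26, 54), (2, 36, 10), (3, 32, 26), (0, 85, 40), (2, 38, 51), (1, 26, 22), (3, 70, 46), (3, 3, 24), (0, 8, 30), (0, 9, 13), (2, 85, 7), (3, 10, 14), (2, 10, 46), (0, 10, 10), (2, 94, 9), (1, 63, 24), (0, 48, 68), (2, 63, 49), (1, 65, 27), (3, 21, 70), (3, 90, 56), (1, 89, 29), (0, 3, 10), (0, 23, 57), (1, 46, 30), (1, 13, 68), (1, 54, 41), (1, 16, 57), (3, 12, 43), (1, 48, 40), (2, 4, 57), (3, 68, 22), (0, 7, 36), (0, 77, 8), (1, 34, 36), (0, 74, 29), (0, 9, 6), (1, 14, 61), (1, 48, 13), (1, 7, 26), (1, 5, 53), (0, 16, 48), (2, 18, 38), (2, 61, 57), (0, 36, 42), (1, 92, 41), (2, 42, 26), (1, 58, 7), (0, 81, 51), (3, 50, 28), (2, 35, 17), (3, 53, 45), (3, 81, 46), (3, 36, 58), (2,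 53, 35), (0, 66, 15), (1, 92, 70), (3, 33, 46), (3, 50, 21), (1, 57, 4), (0, 21, 47), (0, 26, 29), (2, 35, 59), (3, 38, 37), (1, 21, 56), (1, 63, 23), (0, 67, 4), (2, 4, 45), (3, 84, 7), (1, 18, 9), (1, 70, 38), (1, 67, 14), (2, 75, 14), (0, 87, 10), (1, 58, 64), (1, 53, 9), (1, 68, 48), (1, 89, 1), (1, 78, 18), (2, 91, 10), (3, 50, 60), (3, 30, 61)]

/-- Entries. -/
def alphaEnt9 : List (ℕ × ℕ × ℕ) := [(3, 87, 13), (1, 56, 49), (3, 78, 9), (3, 88, 0), (0, 68, 62), (1, 89, 55), (1, 62, 2), (0, 71, 10), (2, 33, 20), (0, 7, 17), (2, 65, 8), (2, 75, 52), (3, 73, 49), (1, 63, 69), (2, 90, 0), (1, 10, 63), (0, 58, 58), (3, 56, 1), (0, 22, 15), (1, 70, 70), (0, 40, 49), (3, 42, 15), (2, 73, 59), (1, 36, 23), (1, 67, 48), (3, 60, 18), (1, 39, 60), (0, 53, 16), (1, 33, 42), (1, 6, 59), (3, 50, 23), (2, 13, 67), (2, 36, 23), (1, 61, 55), (3, 80,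 7), (2, 38, 34), (0, 56, 9), (2, 79, 17), (3, 80, 28), (1, 43, 38), (0, 66, 70), (1, 77, 9), (0, 69, 52), (1, 52, 2), (0, 69, 40), (0, 58, 52), (3, 29, 18), (1, 49, 23), (0, 83, 70), (3, 58, 68), (0, 94, 5), (1, 39, 28), (1, 18, 50), (2, 54, 55), (1, 92, 49), (1, 92, 58), (2, 74, 7), (2, 11, 14), (1, 22, 3), (3, 21, 31), (0, 77, 68), (3, 82, 17), (2, 32, 8), (2, 56, 25), (0, 9, 28), (0, 36, 48), (0, 50, 61), (2, 51, 64), (0, 74, 59), (1, 67, 9), (1, 51, 36), (2, 35, 53), (0, 33, 52), (0, 69, 33), (3, 42, 57), (1, 90, 67), (3, 38, 60), (2, 8, 43), (1, 8, 38), (1, 39, 50), (2, 44, 42), (3, 38, 2), (3, 40, 36), (0, 62, 42), (1, 78, 10), (0, 85, 26), (3, 39, 39), (0, 85, 66), (1, 64, 70), (1, 93, 0), (2, 56, 4), (1, 5, 43), (3, 24, 46), (2, 26, 35), (1, 87, 56), (0, 59, 12), (0, 5, 1), (2, 9, 9), (0, 54, 58), (0, 20, 8), (2, 23, 68), (1,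 37, 68), (0, 29, 1), (2, 49, 54), (2, 74, 37), (2, 71, 13), (3, 34, 17), (2, 31, 30), (2, 19, 58), (1, 33, 56), (2, 94, 18), (3, 21, 4), (0, 66, 67), (3, 37, 2), (0, 39, 1), (0, 32, 60), (2, 4, 65), (0, 81, 20), (0, 43, 58), (0, 71, 51), (2, 55, 16), (0, 64, 23), (1, 64, 35), (3, 43, 35), (2, 40, 18), (1, 13, 22), (1, 8, 14), (2, 11, 5), (0, 26, 59), (2, 65, 32), (1, 65, 0), (3, 50, 49), (3, 8, 71), (3, 27, 42), (3, 45, 6), (2, 91, 14), (3, 53, 39), (1, 56, 40), (0, 72, 60), (3, 43, 44), (1, 24, 17), (2, 51, 35), (3, 39, 65), (0, 10, 71), (2, 14, 19), (2, 30, 22), (0, 41, 0), (2, 36, 56), (0, 11, 7), (3, 76, 15), (0, 60, 66), (0, 92, 42), (1, 57, 61), (0, 56, 71), (1, 6, 65), (2, 90, 20), (0, 68, 48), (1, 11, 10), (2, 26, 51), (2, 62, 22), (2, 35, 35), (3, 48, 57), (0, 20, 24), (1, 73, 34), (1, 87, 52), (2, 11, 63), (1, 49, 22), (0, 2,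 39), (3, 77, 33), (0, 24, 64), (1, 79, 36), (1, 7, 62), (3, 90, 57), (2, 47, 7), (3, 23, 67), (3, 19, 15), (3, 59, 38), (2, 5, 39), (2, 26, 2), (2, 65, 14), (3, 55, 32), (0, 58, 61), (3, 56, 2), (2, 22, 20), (2, 69, 59), (3, 35, 6), (0, 46, 3), (0, 4, 70), (3, 85, 28), (2, 50, 4), (3, 73, 14), (2, 74, 6), (2, 29, 13), (1, 5, 62), (3, 20, 19), (1, 36, 22), (0, 63, 52), (3, 91, 66), (1, 63, 13), (0, 68, 43), (3, 72, 60), (1, 85, 67), (2, 68, 20), (1, 7, 57), (3, 55, 41), (3, 45, 16), (3, 32, 63), (3, 82, 35), (3, 23, 40), (2, 72, 24), (2, 80, 52), (2, 31, 41), (1, 84, 25), (2, 93, 61), (0, 46, 34), (3, 3, 5), (1, 66, 28), (2, 69, 42), (2, 21, 21), (2, 84, 4), (3, 42, 61), (1, 71, 13), (1, 64, 64), (3, 45, 52), (2, 46, 64), (1, 58, 60), (1, 61, 68), (3, 66, 67), (0, 63, 20), (1, 46, 31), (3, 54, 32), (3, 24, 48), (1, 76, 3), (1, 11, 58),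 (2, 64, 9), (2, 57, 39), (3, 59, 37), (0, 14, 32), (1, 54, 42), (2, 4, 63), (0, 79, 24), (2, 80, 1), (0, 6, 21), (1, 22, 36), (3, 93, 50), (3, 87, 30), (2, 61, 32), (3, 15, 36), (1, 33, 53), (3, 1, 52), (2, 6, 42), (1, 54, 36), (1, 73, 35), (2, 90, 12), (1, 31, 8), (2, 22, 17), (2, 66, 65), (1, 28, 5), (3, 92, 27), (1, 24, 8), (1, 33, 26), (0, 82, 14), (1, 74, 33), (0, 10, 58), (2, 42, 63), (0, 34, 23), (3, 37, 6), (0, 68, 56), (0, 84, 31), (1, 5, 57), (1, 44, 28), (1, 1, 23), (2, 38, 11), (0, 90, 37), (2, 89, 65), (1, 61, 52), (1, 12, 35), (3, 65, 56), (2, 66, 34), (0, 80, 9), (3, 42, 28), (2, 32, 20), (2, 92, 9), (2, 47, 57), (3, 35, 63), (3, 48, 2), (2, 12, 1), (3, 69, 31), (3, 3, 29), (2, 38, 10), (2, 7, 67), (0, 27, 44), (2, 89, 49), (0, 9, 55), (3, 14, 67), (1, 35, 4), (0, 63, 57), (2, 75, 59), (2, 8, 40), (2, 26, 71), (3, 85, 25),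 (0, 56, 65), (3, 54, 15), (0, 43, 22), (2, 23, 5), (1, 23, 10), (2, 40, 66), (3, 15, 17), (3, 5, 56), (0, 15, 16), (2, 57, 43), (1, 38, 42), (3, 82, 55), (0, 18, 57), (0, 83, 23), (2, 67, 9), (2, 86, 11), (1, 30, 26), (1, 16, 60), (3, 8, 54), (2, 36, 70), (1, 73, 70), (1, 5, 4), (0, 85, 70), (2, 3, 67), (3, 48, 8), (1, 52, 0), (1, 92, 66), (2, 49, 46), (3, 61, 10), (2, 47, 30), (2, 42, 20), (0, 6, 31), (1, 48, 1), (0, 18, 7), (0, 23, 70), (3, 60, 17), (1, 43, 0), (3, 58, 1), (1, 48, 53), (1, 59, 42), (1, 38, 15), (3, 58, 3), (2, 46, 57), (0, 1, 60), (3, 8, 5), (2, 9, 5), (3, 51, 51), (2, 27, 4), (1, 32, 71), (2, 1, 46), (1, 42, 32), (1, 45, 47), (3, 87, 58), (2, 15, 9), (3, 25, 11), (0, 30, 63), (0, 89, 35), (2, 59, 23), (2, 38, 28), (1, 19, 54), (3, 29, 11), (2, 73, 58), (2, 69, 1), (0, 70, 36), (3, 72, 35), (0, 50, 33), (1, 40, 54),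 (2, 13, 71), (0, 31, 12), (0, 46, 47), (0, 35, 62), (2, 78, 30), (1, 46, 41), (0, 32, 61), (0, 53, 60), (0, 9, 24), (3, 11, 17), (0, 10, 23), (2, 74, 21), (2, 48, 20), (0, 80, 50), (3, 51, 27), (1, 72, 69), (2, 6, 2), (0, 55, 38), (2, 82, 0), (0, 86, 4), (0, 89, 8), (2, 90, 59), (3, 2, 39), (3, 72, 1), (3, 1, 9), (0, 29, 47), (1, 51, 39), (0, 85, 37), (1, 44, 0), (2, 65, 0), (1, 3, 65), (3, 60, 55)]

/-- Entries. -/
def alphaEnt10 : List (ℕ × ℕ × ℕ) := [(3, 91, 67), (0, 46, 29), (3, 89, 2), (1, 11, 36), (0, 66, 22), (0, 47, 37), (2, 38, 56), (3, 22, 12), (3, 27, 32), (3, 91, 41), (0, 1, 11), (0, 77, 34), (2, 62, 61), (1, 32, 56), (1, 11, 28), (3, 22, 18), (3, 62, 21), (1, 10, 31), (1, 24, 42), (1, 94, 69), (3, 91, 71), (1, 34, 70), (1, 30, 10), (0, 59, 56), (2, 9, 65), (2, 2, 70), (0, 67, 10), (0, 83, 16), (3, 3, 13), (1, 12, 46), (1,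 94, 4), (1, 49, 6), (1, 1, 28), (3, 27, 27), (2, 55, 41), (2, 34, 12), (0, 56, 57), (2, 74, 26), (3, 34, 1), (1, 13, 25), (0, 21, 42), (1, 18, 61), (0, 60, 67), (0, 71, 64), (0, 29, 15), (0, 23, 58), (3, 31, 11), (3, 91, 3), (2, 84, 30), (2, 72, 69), (2, 68, 36), (0, 5, 50), (2, 15, 35), (0, 93, 15), (1, 51, 18), (0, 26, 57), (3, 1, 65), (2, 77, 47), (2, 69, 30), (1, 8, 25), (0, 67, 21), (2, 19, 2), (3, 40, 23), (3, 27, 17), (0, 19, 1), (2, 43, 19), (2, 70, 51), (1, 72, 25), (3, 21, 8), (1, 59, 31), (0, 79, 13), (0, 73, 35), (3, 87, 5), (1, 15, 15), (0, 51, 34), (1, 75, 56), (3, 54, 44), (0, 72, 23), (3, 75, 71), (1, 71, 23), (2, 7, 41), (2, 3, 56), (1, 78, 24), (3, 70, 34), (3, 42, 63), (1, 8, 3), (2, 14, 4), (0, 73, 70), (1, 89, 24), (2, 57, 37), (0, 28, 10), (3, 42, 54), (1, 37, 36), (0, 22, 23), (2, 48, 65), (2, 67, 42), (1, 87, 39),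 (1, 44, 68), (0, 63, 14), (2, 67, 68), (1, 46, 10), (1, 38, 4), (1, 7, 30), (2, 87, 49), (3, 4, 38), (1, 82, 29), (3, 90, 35), (2, 38, 53), (0, 32, 66), (2, 51, 67), (1, 87, 55), (3, 69, 20), (0, 6, 69), (2, 33, 37), (1, 65, 69), (0, 93, 56), (1, 29, 49), (1, 59, 17), (2, 47, 32), (1, 51, 59), (3, 82, 69), (0, 78, 0), (2, 40, 41), (0, 93, 49), (3, 90, 62), (1, 7, 67), (0, 81, 32), (0, 77, 46), (3, 3, 48), (0, 35, 44), (0, 78, 17), (2, 37, 67), (3, 38, 61), (0, 35, 65), (3, 72, 6), (2, 12, 6), (0, 23, 46), (1, 49, 49), (3, 10, 13), (2, 73, 63), (0, 24, 47), (3, 39, 49), (1, 48, 33), (1, 31, 56), (1, 33, 58), (0, 13, 61), (2, 84, 24), (1, 53, 64), (1, 20, 17), (2, 71, 8), (0, 51, 9), (1, 26, 71), (2, 83, 41), (1, 18, 14), (1, 86, 4), (0, 3, 14), (1, 54, 7), (1, 64, 16), (3, 36, 7), (3, 27, 54), (0, 51, 52), (1, 38, 5), (0, 19, 13), (0,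 8, 8), (2, 80, 35), (3, 56, 57), (3, 33, 38), (3, 49, 65), (2, 89, 70), (3, 38, 21), (3, 22, 6), (3, 30, 45), (2, 66, 7), (2, 30, 42), (1, 50, 9), (2, 45, 14), (2, 67, 48), (3, 77, 63), (2, 48, 14), (3, 60, 46), (3, 14, 32), (2, 50, 33), (1, 92, 10), (1, 48, 63), (0, 39, 54), (0, 48, 46), (0, 70, 47), (2, 18, 21), (0, 87, 7), (1, 20, 23), (3, 20, 35), (3, 34, 0), (2, 41, 2), (3, 81, 34), (3, 42, 64), (1, 76, 2), (1, 1, 48), (1, 4, 41), (0, 18, 28), (0, 56, 64), (0, 40, 17), (2, 70, 20), (0, 24, 12), (0, 4, 59), (0, 67, 3), (3, 63, 47), (2, 54, 13), (0, 42, 1), (1, 89, 10), (1, 1, 55), (0, 32, 21), (3, 23, 71), (1, 83, 8), (1, 40, 22), (0, 91, 47), (0, 87, 57), (2, 24, 30), (2, 44, 49), (2, 30, 48), (0, 94, 45), (1, 80, 19), (3, 72, 50), (1, 77, 29), (0, 91, 52), (3, 82, 23), (2, 3, 48), (3, 90, 14), (1, 9, 50), (0, 8, 42), (2, 44, 4),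 (3, 53, 70), (1, 75, 0), (1, 48, 51), (2, 58, 41), (2, 70, 31), (2, 53, 30), (1, 9, 0), (1, 13, 32), (2, 7, 69), (0, 34, 30), (2, 43, 45), (2, 44, 25), (3, 61, 41), (0, 87, 61), (1, 48, 18), (2, 5, 55), (2, 49, 0), (3, 26, 33), (0, 36, 64), (1, 89, 69), (3, 63, 32), (3, 74, 53), (3, 83, 41), (3, 77, 19), (2, 16, 20), (0, 26, 20), (3, 7, 30), (0, 74, 27), (3, 67, 64), (3, 80, 32), (0, 34, 5), (3, 63, 27), (2, 52, 35), (1, 48, 38), (0, 53, 21), (0, 79, 29), (2, 5, 66), (1, 80, 48), (0, 27, 22), (0, 66, 13), (3, 65, 38), (0, 59, 38), (1, 72, 66), (2, 66, 11), (2, 62, 66), (2, 82, 61), (2, 44, 29), (1, 64, 9), (0, 44, 68), (1, 2, 6), (1, 14, 36), (0, 24, 54), (0, 23, 44), (1, 63, 14), (0, 8, 71), (1, 66, 29), (1, 51, 46), (1, 19, 69), (0, 51, 51), (1, 71, 27), (1, 13, 43), (1, 83, 21), (0, 57, 71), (3, 62, 8), (0, 10, 66), (1, 39, 46), (0,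 4, 32), (3, 91, 6), (0, 61, 57), (0, 6, 12), (0, 43, 54), (0, 43, 68), (0, 30, 66), (2, 74, 30), (3, 57, 23), (2, 35, 60), (0, 14, 30), (2, 25, 6), (1, 66, 11), (2, 42, 45), (3, 13, 54), (3, 47, 64), (3, 38, 40), (2, 66, 15), (1, 52, 28), (3, 92, 70), (1, 55, 54), (2, 71, 71), (3, 12, 8), (2, 92, 7), (3, 6, 61), (1, 28, 15), (0, 38, 58), (0, 81, 59), (1, 59, 28), (3, 16, 71), (0, 33, 59), (1, 93, 40), (1, 71, 43), (1, 29, 41), (2, 73, 48), (3, 58, 43), (3, 49, 64), (2, 49, 47), (2, 19, 24), (1, 77, 18), (3, 18, 47), (3, 77, 37), (3, 32, 65), (3, 3, 18), (3, 19, 62), (3, 35, 11), (0, 33, 24), (1, 29, 33), (3, 18, 22), (0, 54, 37), (0, 93, 13), (1, 4, 57), (0, 3, 21), (2, 51, 3), (0, 64, 11), (3, 51, 16), (0, 57, 31), (1, 45, 51), (0, 70, 52), (1, 58, 69), (3, 28, 6), (1, 92, 38), (1, 72, 30), (1, 55, 61), (1, 30, 55), (3, 79, 2), (2, 81,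 12), (0, 30, 57), (2, 74, 70), (0, 49, 27), (2, 45, 5), (3, 47, 18), (3, 86, 10), (1, 70, 46), (0, 47, 23), (0, 64, 21), (3, 52, 1), (0, 21, 17), (3, 63, 56), (1, 53, 13), (2, 85, 41), (2, 41, 8), (1, 60, 53), (0, 29, 5), (3, 4, 58), (1, 82, 28), (2, 70, 2), (2, 53, 1), (2, 60, 2), (0, 6, 56), (2, 53, 47), (1, 37, 1), (3, 47, 68), (0, 58, 30), (2, 6, 4), (1, 6, 18), (1, 4, 43), (0, 87, 44), (3, 26, 14), (1, 20, 28), (3, 75, 60), (0, 17, 2), (1, 16, 3), (3, 34, 41)]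

/-- Entries. -/
def alphaEnt11 : List (ℕ × ℕ × ℕ) := [(3, 47, 22), (2, 83, 39), (3, 61, 38), (3, 51, 53), (0, 92, 58), (2, 45, 51), (3, 10, 20), (3, 55, 24), (1, 69, 28), (3, 26, 5), (3, 27, 69), (0, 37, 11), (0, 64, 4), (1, 94, 45), (3, 43, 20), (0, 8, 58), (1, 9, 28), (0, 56, 25), (3, 3, 26), (2, 93, 4), (3, 65, 42), (0, 92, 13), (0, 1, 57), (1, 57, 44), (2, 17, 0), (0, 8, 54), (1, 15, 19), (1, 68, 27), (2, 60, 21), (3, 30, 52), (0, 43, 44), (3, 85, 52), (1, 18, 57), (1, 53, 42), (2, 83, 51), (0, 38, 6), (2, 42, 64), (3, 76, 2), (2, 20, 35), (0, 82, 69), (3, 61, 3), (2, 26, 6), (2, 75, 3), (2, 91, 27), (3, 10, 15), (1, 19, 17), (3, 62, 55), (3, 3, 68), (2, 92, 71), (0, 45, 47), (2, 3, 17), (0, 61, 38), (3, 90, 19), (2, 57, 34), (2, 82, 9), (0, 63, 10), (1, 48, 10), (1, 11, 5), (3, 59, 9), (3, 38, 0), (2, 59, 71), (0, 59, 32), (1, 34,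 39), (0, 30, 39), (1, 31, 45), (1, 34, 13), (1, 33, 67), (2, 11, 61), (1, 3, 43), (2, 69, 68), (1, 3, 27), (0, 27, 42), (0, 80, 59), (2, 65, 2), (1, 72, 35), (1, 90, 12), (1, 58, 39), (1, 33, 47), (3, 2, 51), (1, 65, 21), (0, 71, 24), (3, 78, 23), (2, 82, 38), (0, 54, 32), (2, 62, 70), (3, 47, 28), (2, 60, 30), (0, 41, 9), (2, 85, 62), (0, 18, 45), (3, 81, 35), (0, 55, 69), (2, 64, 36), (3, 82, 67), (0, 15, 22), (3, 72, 9), (1, 56, 65), (3, 55, 52), (2, 53, 7), (0, 18, 36), (3, 45, 53), (3, 61, 34), (1, 65, 36), (2, 69, 57), (0, 45, 71), (1, 4, 8), (1, 73, 54), (2, 14, 9), (3, 70, 62), (3, 76, 12), (1, 92, 42), (2, 18, 15), (1, 92, 44), (1, 62, 47), (2, 10, 44), (3, 57, 1), (1, 61, 44), (0, 6, 33), (1, 3, 52), (0, 58, 26), (3, 39, 2), (2, 1, 22), (3, 17, 15), (0, 71, 0), (2, 50, 13), (1, 83, 24), (2, 65, 34), (2, 68, 37), (0, 7, 33),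 (3, 72, 2), (2, 22, 21), (1, 57, 41), (0, 21, 63), (2, 61, 46), (3, 63, 64), (3, 51, 25), (2, 44, 18), (3, 94, 24), (1, 83, 30), (0, 91, 46), (2, 60, 23), (1, 6, 12), (0, 13, 49), (3, 49, 13), (2, 56, 13), (1, 58, 49), (1, 12, 13), (3, 32, 7), (2, 11, 65), (0, 5, 36), (3, 15, 28), (0, 44, 23), (0, 20, 27), (3, 37, 50), (0, 1, 30), (2, 29, 25), (2, 41, 3), (0, 2, 18), (1, 87, 3), (2, 70, 32), (1, 87, 28), (3, 32, 50), (1, 44, 51), (2, 80, 18), (1, 21, 7), (0, 59, 52), (0, 16, 65), (0, 14, 46), (1, 74, 15), (3, 53, 8), (0, 4, 5), (2, 71, 30), (2, 71, 56), (2, 19, 34), (2, 93, 25), (2, 83, 61), (0, 10, 32), (3, 69, 42), (0, 71, 13), (0, 49, 54), (3, 31, 40), (2, 39, 59), (0, 30, 49), (3, 70, 10), (2, 47, 44), (2, 74, 4), (2, 48, 71), (2, 66, 67), (0, 20, 28), (1, 79, 5), (3, 44, 35), (0, 45, 20), (2, 45, 16), (2, 81, 20), (0, 91, 41), (0,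 64, 30), (3, 34, 6), (2, 42, 46), (2, 57, 31), (2, 3, 5), (1, 77, 13), (2, 24, 67), (3, 34, 29), (0, 31, 4), (2, 64, 61), (3, 66, 34), (1, 14, 7), (1, 56, 10), (2, 68, 43), (1, 16, 40), (1, 72, 60), (3, 1, 66), (2, 45, 47), (1, 13, 17), (2, 10, 49), (2, 56, 53), (1, 71, 20), (3, 35, 22), (3, 83, 51), (3, 44, 19), (1, 27, 15), (3, 71, 6), (1, 39, 57), (3, 14, 0), (2, 33, 28), (2, 75, 55), (1, 66, 68), (0, 48, 50), (2, 60, 16), (1, 1, 57), (1, 45, 54), (3, 67, 36), (0, 87, 65), (2, 13, 14), (0, 44, 70), (2, 19, 5), (1, 65, 24), (1, 81, 23), (2, 79, 35), (0, 72, 4), (1, 70, 59), (1, 5, 9), (1, 60, 71), (2, 72, 38), (0, 34, 16), (0, 57, 47), (2, 93, 54), (1, 62, 4), (1, 38, 43), (2, 72, 48), (1, 51, 53), (3, 9, 2), (2, 12, 3), (2, 7, 58), (1, 68, 17), (3, 64, 69), (0, 42, 56), (2, 78, 7), (0, 12, 15), (0, 55, 53), (1, 37, 26), (3, 13, 61),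 (1, 89, 63), (2, 66, 10), (2, 9, 30), (1, 87, 21), (0, 28, 13), (0, 55, 4), (3, 23, 51), (3, 5, 25), (3, 19, 10), (0, 12, 8), (0, 33, 65), (0, 35, 20), (1, 40, 50), (0, 71, 38), (2, 4, 12), (0, 75, 25), (2, 69, 5), (3, 73, 43), (0, 13, 26), (3, 32, 34), (1, 80, 59), (1, 69, 23), (1, 93, 4), (3, 60, 63), (1, 65, 13), (2, 59, 65), (2, 56, 27), (0, 82, 70), (2, 6, 55), (1, 26, 2), (3, 85, 10), (1, 30, 5), (0, 55, 27), (2, 91, 39), (0, 82, 63), (3, 68, 41), (0, 15, 25), (0, 35, 57), (3, 65, 54), (0, 36, 33), (2, 64, 44), (3, 54, 48), (3, 1, 7), (2, 90, 61), (3, 87, 26), (0, 64, 50), (0, 35, 2), (0, 28, 9), (3, 16, 52), (2, 9, 56), (1, 20, 10), (1, 10, 41), (1, 33, 18), (2, 26, 63), (0, 29, 7), (2, 18, 18), (1, 89, 57), (0, 63, 41), (0, 26, 43), (2, 67, 19), (1, 15, 32), (1, 72, 2), (1, 41, 6), (0, 74, 62), (0, 43, 47), (2, 7, 28), (1, 57,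 42), (0, 42, 42), (1, 83, 38), (1, 3, 6), (2, 50, 65), (2, 11, 15), (0, 19, 45), (2, 94, 16), (1, 61, 31), (1, 94, 1), (1, 36, 14), (1, 63, 9), (0, 27, 2), (2, 30, 68), (1, 37, 53), (1, 26, 60), (3, 92, 65), (2, 6, 64), (1, 72, 52), (3, 2, 42), (0, 28, 19), (0, 52, 36), (0, 93, 48), (1, 18, 36), (1, 12, 45), (2, 75, 51), (0, 5, 28), (3, 55, 2), (0, 66, 56), (0, 7, 6), (3, 2, 23), (0, 26, 27), (3, 5, 61), (3, 12, 55), (1, 71, 12), (2, 29, 63), (1, 1, 10), (2, 39, 40), (1, 26, 69), (1, 83, 33), (1, 56, 15), (0, 64, 1), (1, 75, 30), (1, 11, 34), (3, 75, 66), (0, 11, 25), (2, 26, 22), (3, 16, 18), (0, 62, 3), (2, 7, 51), (1, 37, 24), (3, 57, 31), (1, 57, 58), (3, 50, 8), (3, 75, 9), (2, 85, 9), (1, 6, 15), (1, 44, 38), (1, 36, 3), (1, 80, 68), (2, 56, 23), (3, 43, 30), (3, 62, 65), (1, 18, 44), (0, 34, 58), (2, 56, 33), (2, 20, 21), (3, 73,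 21), (0, 25, 30), (1, 69, 42), (0, 90, 41), (3, 29, 57)]

/-- Entries. -/
def alphaEnt12 : List (ℕ × ℕ × ℕ) := [(0, 39, 59), (0, 76, 19), (3, 58, 0), (0, 92, 36), (2, 86, 3), (2, 27, 8), (3, 34, 69), (1, 6, 5), (0, 2, 20), (0, 54, 47), (3, 32, 45), (1, 65, 55), (3, 66, 69), (3, 38, 29), (0, 48, 42), (3, 14, 34), (1, 70, 51), (1, 53, 62), (2, 13, 50), (0, 69, 3), (0, 67, 41), (1, 91, 62), (2, 11, 4), (2, 29, 56), (1, 85, 44), (2, 12, 22), (0, 60, 12), (0, 81, 67), (0, 51, 10), (0, 23, 3), (0, 5, 9), (3, 29, 43), (0, 30, 12), (3, 63, 55), (0, 83, 46), (2, 80, 61), (3, 10, 66), (0, 66, 2), (0, 81, 36), (0, 52, 32), (0, 79, 31), (1, 57, 34), (1, 3, 19), (1, 92, 2), (1, 27, 24), (0, 53, 10), (1, 71, 69), (2, 30, 31), (3, 89, 51), (3, 69, 67), (3, 14, 18), (2, 92, 69), (1, 33, 30), (2, 81, 34), (0, 72, 6), (0, 23, 13), (2, 10, 4), (1, 16, 43),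 (3, 46, 45), (2, 91, 55), (2, 24, 14), (3, 46, 48), (2, 44, 14), (2, 65, 11), (2, 31, 60), (0, 18, 27), (0, 3, 35), (2, 5, 24), (0, 38, 65), (0, 52, 13), (0, 26, 45), (3, 43, 16), (0, 44, 8), (3, 60, 36), (0, 54, 38), (3, 40, 28), (0, 52, 35), (1, 67, 6), (2, 87, 53), (0, 62, 1), (2, 10, 59), (2, 68, 2), (3, 94, 2), (2, 65, 46), (2, 59, 4), (3, 56, 50), (1, 59, 58), (1, 32, 62), (3, 90, 23), (2, 39, 66), (0, 34, 44), (1, 93, 25), (1, 80, 35), (3, 30, 65), (3, 54, 64), (2, 94, 30), (0, 43, 25), (2, 94, 59), (3, 87, 67), (2, 44, 28), (3, 76, 16), (1, 73, 48), (0, 13, 32), (0, 3, 60), (3, 74, 18), (3, 19, 22), (1, 66, 51), (0, 91, 23), (1, 2, 3), (0, 85, 18), (1, 87, 49), (0, 53, 46), (0, 23, 62), (3, 14, 24), (3, 92, 18), (3, 11, 33), (1, 3, 51), (1, 11, 32), (0, 80, 10), (0, 4, 9), (0, 6, 24), (1, 83, 71), (2, 21, 32), (0, 16, 62), (2,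 18, 53), (1, 64, 19), (2, 10, 65), (2, 67, 1), (2, 43, 37), (0, 79, 2), (0, 42, 6), (2, 89, 22), (2, 23, 43), (3, 5, 34), (2, 29, 38), (3, 94, 39), (0, 11, 46), (2, 5, 60), (1, 44, 64), (1, 79, 1), (1, 67, 52), (3, 4, 52), (2, 27, 37), (3, 24, 56), (2, 23, 63), (2, 49, 39), (1, 54, 51), (1, 90, 64), (2, 9, 10), (0, 7, 55), (0, 57, 1), (0, 47, 60), (0, 71, 19), (3, 30, 62), (1, 58, 62), (3, 91, 29), (0, 50, 3), (2, 3, 34), (2, 5, 21), (0, 4, 51), (1, 82, 4), (0, 33, 36), (3, 46, 12), (1, 7, 15), (3, 77, 23), (2, 10, 50), (2, 61, 62), (1, 85, 2), (1, 42, 2), (1, 9, 37), (2, 30, 37), (1, 20, 33), (2, 82, 13), (3, 23, 38), (0, 92, 21), (3, 34, 32), (1, 22, 20), (1, 62, 50), (1, 61, 6), (3, 62, 23), (2, 61, 69), (0, 47, 28), (0, 28, 4), (1, 61, 5), (2, 40, 14), (3, 33, 7), (2, 71, 47), (1, 30, 22), (2, 4, 16), (2, 1, 0), (2, 30, 44), (3, 24,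 22), (1, 59, 47), (2, 75, 48), (2, 64, 1), (2, 30, 57), (1, 41, 1), (3, 91, 8), (1, 84, 33), (1, 57, 31), (1, 2, 54), (0, 26, 12), (3, 45, 69), (3, 77, 45), (1, 16, 30), (0, 63, 16), (2, 22, 10), (2, 79, 11), (1, 50, 59), (0, 76, 7), (2, 69, 66), (3, 52, 21), (2, 82, 25), (3, 31, 15), (3, 34, 50), (3, 89, 1), (3, 57, 24), (1, 83, 16), (1, 84, 7), (2, 48, 19), (1, 94, 10), (0, 75, 24), (3, 18, 9), (2, 69, 9), (1, 80, 10), (1, 81, 43), (3, 93, 63), (3, 55, 0), (3, 32, 25), (1, 84, 15), (0, 2, 66), (3, 64, 65), (3, 48, 41), (1, 60, 41), (2, 70, 17), (2, 3, 40), (0, 22, 13), (1, 67, 63), (3, 73, 27), (1, 6, 35), (3, 48, 34), (2, 24, 56), (1, 1, 11), (2, 22, 18), (1, 42, 59), (0, 43, 61), (1, 11, 49), (1, 38, 38), (1, 85, 30), (3, 55, 43), (0, 67, 49), (1, 58, 12), (1, 3, 45), (1, 55, 60), (0, 3, 68), (3, 24, 69), (2, 59, 41), (1, 3, 25),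 (2, 71, 43), (0, 56, 8), (2, 30, 43), (2, 12, 42), (2, 47, 11), (0, 18, 46), (2, 35, 40), (3, 23, 4), (3, 40, 25), (0, 68, 1), (1, 48, 68), (3, 71, 42), (2, 1, 44), (1, 4, 12), (0, 5, 2), (2, 51, 26), (1, 65, 63), (3, 51, 21), (2, 74, 61), (3, 4, 17), (1, 89, 15), (1, 77, 6), (3, 73, 65), (3, 59, 47), (0, 10, 53), (0, 82, 40), (2, 75, 16), (3, 82, 21), (2, 89, 61), (1, 84, 4), (2, 19, 12), (1, 49, 17), (1, 55, 35), (1, 36, 53), (1, 22, 33), (0, 69, 49), (2, 83, 34), (0, 13, 30), (0, 78, 36), (0, 10, 17), (0, 68, 67), (1, 50, 43), (0, 68, 46), (2, 2, 5), (2, 63, 4), (3, 90, 29), (3, 7, 0), (0, 4, 42), (0, 48, 27), (0, 70, 37), (2, 37, 19), (0, 42, 61), (0, 94, 35), (2, 19, 31), (3, 70, 58), (2, 37, 27), (1, 74, 29), (1, 91, 28), (0, 61, 40), (2, 49, 18), (1, 81, 36), (1, 66, 2), (2, 47, 36), (3, 59, 43), (0, 15, 3), (2, 7, 24), (1, 53,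 10), (2, 51, 39), (3, 64, 49), (0, 13, 0), (1, 80, 57), (2, 37, 12), (2, 6, 43), (3, 18, 31), (1, 49, 45), (3, 90, 44), (2, 73, 70), (0, 65, 11), (1, 12, 5), (1, 76, 30), (1, 57, 43), (1, 45, 8), (0, 17, 7), (0, 73, 39), (1, 85, 13), (2, 32, 33), (1, 44, 37), (3, 18, 30), (0, 89, 34), (1, 35, 15), (2, 70, 46), (3, 12, 19), (2, 72, 41), (0, 8, 26), (1, 93, 24), (0, 94, 19), (2, 69, 10), (2, 61, 37), (1, 62, 41), (2, 58, 27), (3, 39, 66), (1, 13, 59), (2, 21, 52), (0, 65, 12), (1, 54, 1), (3, 4, 36), (1, 60, 38), (1, 4, 61), (2, 30, 12), (1, 27, 29), (1, 70, 18), (0, 55, 33), (1, 2, 62), (1, 60, 50), (3, 13, 50), (3, 10, 6), (3, 93, 49), (3, 8, 33), (1, 85, 15), (2, 66, 5), (0, 22, 29), (3, 47, 38), (1, 27, 5), (3, 56, 20), (1, 73, 3), (0, 77, 40), (2, 15, 15), (0, 56, 46), (2, 72, 21), (3, 71, 7), (0, 9, 36), (2, 81, 60), (0, 32, 22),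 (2, 83, 62), (3, 39, 51), (3, 15, 16), (3, 74, 1), (2, 69, 33), (0, 39, 28), (1, 50, 45), (1, 80, 54), (3, 68, 57)]

/-- Entries. -/
def alphaEnt13 : List (ℕ × ℕ × ℕ) := [(1, 63, 20), (2, 30, 23), (1, 45, 32), (0, 7, 18), (0, 14, 16), (1, 55, 57), (0, 69, 42), (3, 34, 48), (2, 55, 43), (3, 50, 25), (3, 56, 64), (0, 3, 6), (0, 79, 11), (1, 75, 34), (3, 40, 32), (3, 81, 52), (2, 45, 15), (0, 73, 1), (0, 43, 39), (3, 75, 65), (2, 45, 40), (0, 26, 51), (3, 84, 6), (0, 34, 71), (1, 87, 59), (2, 79, 14), (0, 8, 59), (1, 55, 23), (0, 66, 71), (2, 55, 0), (3, 39, 50), (0, 78, 4), (0, 85, 10), (3, 18, 68), (1, 23, 35), (0, 42, 47), (0, 92, 26), (1, 24, 38), (1, 43, 13), (0, 75, 30), (0, 78, 5), (1, 11, 64), (2, 19, 68), (1, 36, 4), (2, 2, 56), (0, 37, 24), (1, 59, 33), (1, 36, 32), (2, 93, 44), (1, 16, 28), (0, 44, 38), (1, 42, 27), (3, 19, 37),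 (1, 91, 34), (0, 89, 40), (1, 67, 30), (0, 74, 33), (1, 40, 69), (1, 33, 6), (3, 33, 18), (1, 15, 27), (0, 69, 56), (3, 37, 55), (3, 47, 58), (3, 40, 68), (0, 68, 41), (1, 29, 20), (3, 93, 47), (2, 11, 50), (1, 72, 22), (1, 44, 13), (2, 6, 54), (3, 27, 67), (1, 53, 16), (2, 3, 59), (3, 74, 43), (0, 86, 20), (0, 54, 36), (2, 50, 26), (2, 36, 20), (2, 27, 13), (3, 65, 55), (1, 61, 30), (3, 20, 10), (1, 35, 45), (2, 85, 66), (3, 19, 43), (3, 94, 23), (2, 27, 11), (3, 77, 17), (0, 68, 34), (3, 11, 68), (2, 14, 0), (2, 6, 59), (0, 7, 20), (1, 2, 22), (1, 7, 69), (3, 38, 55), (0, 12, 48), (3, 73, 70), (2, 49, 35), (3, 6, 43), (0, 37, 12), (0, 45, 27), (3, 4, 71), (2, 67, 37), (2, 64, 53), (0, 68, 40), (2, 35, 23), (2, 9, 68), (2, 57, 57), (3, 32, 30), (2, 68, 66), (3, 33, 40), (1, 69, 62), (1, 75, 25), (3, 77, 15), (1, 23, 14), (3, 29, 48),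 (1, 1, 1), (3, 63, 36), (3, 7, 58), (0, 92, 49), (1, 23, 18), (3, 21, 16), (0, 15, 14), (1, 24, 41), (2, 32, 10), (0, 19, 26), (3, 89, 67), (0, 32, 26), (0, 57, 66), (3, 24, 36), (2, 94, 57), (1, 31, 49), (3, 70, 5), (2, 23, 51), (0, 77, 49), (3, 24, 60), (0, 18, 64), (0, 45, 56), (0, 13, 67), (0, 45, 53), (3, 32, 47), (0, 31, 13), (1, 13, 26), (2, 60, 18), (0, 18, 31), (2, 75, 49), (1, 11, 30), (1, 1, 39), (3, 45, 47), (2, 1, 4), (2, 87, 58), (1, 27, 46), (1, 72, 8), (0, 90, 26), (0, 13, 22), (0, 22, 28), (3, 44, 5), (2, 77, 28), (2, 42, 50), (1, 12, 15), (1, 37, 25), (1, 1, 8), (3, 51, 62), (2, 8, 67), (3, 38, 49), (3, 31, 23), (0, 21, 39), (2, 51, 58), (3, 57, 16), (1, 11, 42), (1, 23, 2), (1, 56, 9), (1, 80, 7), (1, 9, 24), (2, 32, 56), (3, 33, 42), (3, 31, 36), (0, 75, 44), (2, 45, 68), (1, 59, 55), (2, 60, 63), (0, 3, 4), (1, 75,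 18), (0, 15, 17), (1, 83, 26), (2, 48, 24), (1, 89, 25), (0, 75, 7), (3, 54, 67), (2, 6, 40), (0, 53, 6), (1, 42, 15), (3, 39, 7), (0, 61, 52), (3, 73, 0), (2, 24, 15), (0, 3, 57), (1, 21, 21), (3, 44, 63), (1, 21, 55), (3, 27, 4), (3, 95, 0), (0, 7, 48), (0, 53, 24), (0, 53, 63), (3, 65, 68), (1, 67, 15), (2, 69, 41), (2, 29, 35), (3, 23, 20), (3, 55, 29), (2, 24, 44), (2, 16, 13), (2, 77, 20), (0, 38, 25), (3, 79, 16), (0, 10, 22), (1, 73, 38), (1, 56, 5), (0, 51, 63), (0, 79, 10), (0, 43, 21), (3, 49, 48), (2, 87, 28), (2, 38, 62), (0, 71, 53), (3, 13, 30), (3, 49, 62), (0, 6, 27), (3, 78, 3), (3, 24, 47), (1, 38, 52), (1, 43, 36), (1, 39, 48), (1, 36, 48), (0, 61, 47), (3, 24, 27), (2, 71, 39), (0, 3, 11), (0, 84, 19), (0, 47, 66), (3, 36, 52), (3, 63, 8), (1, 1, 36), (2, 24, 49), (0, 3, 38), (2, 73, 64), (0, 57, 26), (0, 26, 47),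 (1, 12, 6), (3, 85, 36), (2, 33, 68), (0, 90, 27), (0, 39, 5), (0, 74, 39), (1, 91, 43), (3, 77, 1), (0, 67, 38), (1, 41, 21), (2, 4, 55), (2, 9, 59), (1, 62, 45), (3, 94, 61), (1, 90, 2), (2, 7, 13), (3, 93, 33), (3, 87, 44), (2, 80, 48), (1, 54, 53), (1, 80, 50), (2, 55, 38), (2, 58, 21), (1, 2, 38), (3, 59, 0), (1, 53, 47), (2, 59, 34), (3, 75, 17), (3, 36, 61), (3, 11, 37), (2, 79, 12), (0, 62, 59), (2, 34, 18), (1, 48, 42), (2, 11, 54), (3, 49, 30), (0, 75, 39), (3, 44, 30), (3, 40, 20), (3, 73, 17), (1, 65, 48), (3, 35, 39), (0, 34, 29), (0, 52, 15), (2, 24, 71), (3, 21, 27), (1, 80, 24), (2, 42, 25), (0, 37, 47), (3, 29, 71), (1, 42, 58), (0, 35, 21), (1, 85, 5), (0, 11, 35), (2, 3, 55), (2, 26, 43), (1, 76, 21), (1, 47, 14), (3, 5, 22), (2, 61, 33), (3, 9, 52), (1, 24, 64), (1, 43, 22), (2, 30, 58), (3, 84, 25), (0, 59, 26), (0,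 87, 46), (1, 30, 43), (1, 89, 61), (2, 90, 40), (1, 65, 51), (2, 53, 53), (0, 84, 0), (2, 40, 34), (3, 9, 66), (2, 23, 41), (2, 65, 49), (2, 81, 3), (3, 90, 6), (1, 88, 8), (3, 16, 60), (0, 70, 24), (1, 54, 69), (3, 26, 60), (1, 38, 18), (2, 20, 32), (1, 70, 17), (0, 32, 37), (0, 74, 11), (0, 6, 3), (2, 19, 67), (1, 56, 35), (2, 91, 49), (2, 31, 67), (0, 26, 52), (2, 63, 1), (3, 74, 71), (3, 4, 53), (0, 37, 46), (2, 13, 21), (1, 59, 21), (0, 46, 39), (0, 93, 22), (1, 81, 37), (0, 61, 64), (1, 49, 65), (2, 85, 42), (1, 53, 65), (0, 67, 6), (3, 72, 14), (3, 93, 64), (0, 10, 5), (1, 36, 7), (2, 82, 66), (3, 93, 60), (0, 77, 11), (0, 1, 35), (0, 21, 25), (3, 93, 46), (2, 62, 68), (2, 75, 71), (3, 29, 0), (2, 19, 6), (0, 84, 17), (2, 14, 55), (2, 61, 14), (3, 60, 35), (3, 93, 57), (2, 58, 38), (3, 24, 23), (1, 83, 0), (3, 91, 11), (2, 31,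 50), (3, 54, 27), (0, 48, 33), (3, 8, 2), (3, 23, 13), (1, 11, 23), (0, 52, 17), (3, 21, 41), (1, 5, 65), (2, 26, 42), (3, 70, 27), (2, 43, 38), (2, 81, 32), (3, 3, 3), (2, 66, 29), (0, 35, 70)]

/-- Entries. -/
def alphaEnt14 : List (ℕ × ℕ × ℕ) := [(0, 48, 45), (0, 52, 33), (3, 93, 17), (2, 2, 64), (0, 72, 45), (1, 95, 1), (3, 59, 61), (1, 48, 5), (3, 80, 43), (1, 31, 38), (3, 10, 42), (1, 92, 54), (2, 53, 55), (3, 90, 4), (0, 73, 5), (3, 87, 55), (2, 66, 43), (3, 46, 35), (2, 56, 62), (0, 8, 5), (2, 33, 35), (3, 90, 66), (1, 29, 65), (1, 13, 9), (3, 90, 31), (3, 78, 28), (3, 71, 41), (0, 6, 63), (0, 86, 33), (0, 2, 70), (0, 83, 36), (1, 68, 3), (2, 67, 53), (0, 87, 70), (2, 3, 13), (0, 91, 55), (2, 58, 55), (1, 52, 24), (2, 91, 64), (0, 89, 29), (0, 22, 19), (1, 29, 39), (2, 53, 65), (1, 24, 59), (0, 11, 20), (1, 69, 10), (2, 38, 45),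 (3, 79, 30), (3, 15, 30), (3, 77, 11), (3, 58, 37), (3, 27, 12), (3, 90, 1), (1, 63, 4), (1, 67, 69), (2, 39, 55), (1, 7, 71), (2, 31, 32), (3, 55, 67), (3, 70, 23), (2, 88, 8), (1, 66, 3), (1, 60, 70), (2, 34, 32), (0, 70, 27), (0, 18, 59), (0, 11, 41), (3, 58, 11), (2, 53, 2), (1, 72, 71), (1, 43, 70), (3, 83, 48), (0, 45, 4), (3, 46, 49), (3, 37, 59), (0, 32, 53), (3, 77, 47), (2, 29, 60), (2, 24, 24), (1, 26, 50), (1, 67, 21), (1, 56, 67), (2, 32, 57), (1, 72, 16), (1, 27, 28), (1, 59, 14), (3, 5, 29), (2, 61, 56), (1, 46, 11), (2, 7, 4), (2, 44, 13), (1, 16, 37), (0, 66, 18), (1, 48, 20), (0, 27, 66), (1, 35, 16), (2, 50, 37), (3, 73, 20), (2, 70, 71), (3, 87, 71), (3, 85, 29), (3, 81, 55), (1, 22, 21), (3, 87, 49), (0, 13, 38), (1, 9, 14), (1, 37, 22), (1, 8, 69), (3, 29, 27), (0, 87, 15), (1, 76, 8), (1, 78, 29), (3, 2, 19), (0,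 44, 34), (1, 8, 0), (1, 54, 14), (2, 36, 26), (3, 35, 9), (3, 34, 71), (2, 32, 49), (1, 91, 71), (1, 70, 31), (3, 90, 50), (3, 19, 8), (3, 60, 58), (3, 66, 71), (2, 16, 31), (2, 54, 2), (0, 76, 6), (1, 21, 30), (3, 31, 55), (2, 66, 22), (3, 85, 38), (1, 94, 59), (2, 23, 59), (3, 35, 37), (3, 9, 10), (1, 85, 16), (3, 3, 65), (0, 40, 53), (3, 81, 48), (1, 51, 17), (1, 19, 3), (2, 71, 60), (3, 61, 11), (3, 59, 60), (3, 77, 61), (3, 92, 1), (3, 82, 48), (2, 10, 3), (1, 66, 48), (3, 68, 34), (2, 46, 4), (3, 6, 9), (2, 42, 44), (1, 12, 18), (3, 50, 70), (1, 86, 1), (2, 11, 51), (2, 1, 58), (0, 70, 30), (1, 10, 57), (0, 68, 42), (2, 54, 65), (2, 36, 8), (2, 4, 8), (1, 33, 15), (1, 10, 29), (1, 21, 23), (3, 34, 55), (1, 5, 17), (0, 36, 58), (3, 75, 40), (2, 38, 59), (0, 6, 61), (0, 25, 20), (2, 19, 8), (3, 22, 14), (2, 26, 40), (0, 64, 32), (2,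 53, 17), (3, 91, 59), (1, 87, 66), (1, 32, 65), (0, 74, 47), (1, 23, 65), (2, 17, 11), (2, 18, 5), (1, 36, 65), (2, 45, 31), (2, 9, 22), (2, 71, 70), (3, 77, 51), (0, 30, 65), (1, 73, 66), (0, 56, 28), (2, 88, 7), (1, 91, 68), (0, 89, 12), (1, 39, 6), (1, 4, 59), (1, 26, 63), (3, 17, 5), (0, 36, 71), (0, 72, 57), (1, 31, 63), (0, 1, 18), (2, 33, 53), (0, 61, 61), (1, 12, 50), (3, 18, 12), (0, 1, 48), (2, 13, 62), (2, 59, 55), (0, 30, 48), (0, 34, 68), (0, 23, 9), (1, 48, 19), (0, 80, 21), (2, 22, 7), (1, 57, 29), (1, 11, 2), (2, 62, 0), (1, 16, 47), (1, 79, 15), (3, 59, 49), (2, 34, 60), (2, 22, 19), (0, 15, 11), (0, 50, 30), (1, 10, 16), (0, 31, 57), (2, 46, 15), (1, 42, 17), (2, 16, 56), (0, 73, 22), (1, 26, 15), (0, 13, 9), (1, 91, 58), (0, 42, 23), (3, 46, 68), (2, 49, 50), (1, 83, 36), (0, 14, 33), (2, 4, 28), (1, 39, 42), (3, 6,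 67), (2, 87, 21), (2, 13, 8), (2, 24, 38), (0, 52, 24), (1, 43, 46), (3, 55, 37), (0, 70, 46), (1, 85, 61), (1, 34, 5), (3, 34, 27), (0, 83, 25), (3, 19, 4), (0, 31, 51), (3, 47, 49), (0, 69, 11), (2, 62, 4), (3, 66, 27), (2, 63, 21), (3, 80, 30), (3, 69, 63), (3, 33, 51), (2, 35, 52), (0, 74, 45), (0, 38, 33), (1, 63, 22), (2, 12, 9), (2, 24, 65), (2, 12, 60), (1, 56, 32), (2, 80, 43), (2, 4, 11), (0, 61, 9), (1, 28, 16), (3, 68, 40), (0, 87, 42), (3, 48, 26), (0, 9, 20), (1, 83, 66), (3, 90, 38), (2, 63, 13), (2, 27, 3), (1, 13, 3), (0, 82, 64), (0, 11, 70), (0, 8, 31), (2, 16, 51), (0, 50, 35), (0, 94, 17), (1, 82, 23), (2, 57, 60), (0, 86, 12), (0, 20, 14), (0, 48, 31), (2, 37, 1), (1, 24, 5), (0, 80, 20), (0, 77, 61), (0, 81, 19), (2, 7, 15), (2, 62, 8), (0, 14, 24), (0, 71, 35), (1, 46, 35), (3, 45, 50), (3, 52, 3), (3, 45, 41),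 (3, 57, 27), (1, 76, 25), (3, 87, 34), (3, 71, 32), (0, 33, 35), (1, 40, 51), (3, 84, 26), (0, 21, 27), (3, 85, 46), (3, 86, 8), (2, 58, 28), (2, 69, 12), (2, 87, 7), (1, 91, 15), (2, 48, 0), (0, 13, 7), (1, 30, 9), (1, 2, 41), (2, 23, 60), (1, 56, 29), (2, 60, 62), (2, 6, 16), (2, 7, 3), (2, 3, 23), (2, 91, 59), (1, 94, 57), (3, 66, 62), (3, 14, 31), (2, 29, 41), (0, 14, 57), (3, 39, 13), (1, 83, 44), (3, 12, 63), (3, 91, 34), (3, 18, 37), (2, 10, 51), (0, 59, 9), (1, 88, 7), (3, 80, 67), (3, 40, 44), (0, 8, 65), (2, 23, 50), (0, 12, 40), (2, 69, 69), (2, 73, 62), (0, 13, 39), (3, 65, 48), (1, 58, 42), (2, 21, 71), (3, 84, 18), (2, 40, 63), (2, 11, 53), (2, 39, 37), (3, 47, 61), (0, 71, 56), (2, 32, 43), (3, 46, 40), (0, 1, 64), (2, 86, 20), (1, 56, 70), (1, 73, 17), (1, 51, 69), (2, 8, 21), (1, 87, 69), (1, 62, 61), (3, 27, 13), (3,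 74, 14), (3, 90, 46), (1, 68, 12), (3, 10, 56), (0, 82, 54), (0, 55, 46), (2, 91, 51), (2, 94, 62), (0, 69, 24), (2, 91, 46), (0, 65, 29), (1, 44, 69), (1, 59, 41), (3, 53, 59), (1, 5, 22), (0, 63, 6), (3, 53, 57), (2, 59, 49), (3, 11, 22), (3, 94, 64), (3, 10, 5)]

/-- Entries. -/
def alphaEnt15 : List (ℕ × ℕ × ℕ) := [(1, 13, 64), (0, 59, 34), (3, 48, 30), (3, 56, 3), (1, 72, 54), (1, 47, 36), (1, 3, 34), (1, 17, 15), (0, 27, 1), (3, 77, 59), (1, 91, 19), (0, 27, 35), (3, 82, 16), (3, 12, 61), (0, 16, 44), (3, 75, 53), (2, 36, 59), (2, 41, 12), (0, 65, 51), (1, 94, 61), (2, 16, 23), (0, 62, 21), (3, 86, 30), (3, 35, 43), (1, 2, 58), (2, 51, 13), (1, 56, 18), (2, 20, 18), (3, 38, 35), (3, 83, 22), (1, 14, 23), (2, 60, 0), (2, 70, 10), (1, 48, 67), (1, 32, 64), (0, 92, 39), (1, 18, 24), (2, 14, 69), (0, 40, 68), (0, 21, 1), (1, 7, 49),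 (1, 91, 48), (2, 73, 68), (2, 11, 13), (2, 34, 53), (2, 68, 35), (2, 1, 49), (0, 23, 48), (1, 46, 50), (2, 44, 3), (0, 31, 6), (2, 43, 13), (1, 31, 25), (0, 46, 55), (3, 4, 7), (2, 4, 22), (1, 21, 28), (0, 38, 14), (2, 75, 27), (3, 93, 35), (1, 85, 43), (0, 75, 19), (2, 40, 6), (0, 13, 12), (1, 59, 7), (3, 80, 21), (0, 8, 36), (1, 8, 13), (1, 9, 59), (0, 26, 21), (2, 70, 57), (0, 27, 46), (2, 31, 26), (0, 33, 13), (3, 11, 62), (2, 68, 9), (2, 18, 49), (1, 92, 15), (0, 6, 46), (0, 40, 40), (1, 28, 0), (0, 32, 4), (1, 92, 20), (3, 45, 57), (1, 69, 13), (2, 66, 59), (0, 57, 46), (3, 2, 40), (1, 95, 2), (3, 3, 28), (3, 82, 22), (2, 35, 61), (2, 94, 13), (3, 60, 11), (0, 45, 35), (2, 21, 49), (1, 91, 35), (0, 40, 0), (3, 5, 2), (3, 59, 27), (1, 48, 25), (3, 75, 10), (2, 33, 42), (1, 85, 41), (1, 32, 52), (3, 16, 46), (0, 93, 62), (3, 13, 39),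 (0, 3, 70), (2, 4, 37), (2, 40, 8), (1, 66, 26), (1, 92, 11), (1, 66, 55), (1, 29, 8), (1, 51, 48), (0, 16, 9), (1, 95, 4), (2, 91, 26), (3, 72, 49), (0, 40, 26), (3, 38, 47), (0, 36, 13), (2, 18, 61), (3, 1, 21), (0, 23, 39), (0, 23, 20), (2, 92, 58), (0, 19, 35), (0, 38, 68), (0, 34, 39), (2, 27, 64), (3, 8, 22), (1, 2, 27), (1, 82, 67), (0, 9, 47), (1, 23, 66), (2, 86, 2), (0, 59, 16), (1, 38, 70), (3, 86, 28), (0, 77, 23), (1, 23, 40), (1, 58, 65), (0, 31, 41), (3, 46, 2), (2, 10, 47), (2, 72, 9), (0, 34, 52), (1, 80, 65), (1, 35, 50), (2, 8, 37), (3, 60, 9), (3, 33, 68), (2, 5, 49), (2, 85, 15), (3, 70, 32), (0, 54, 57), (3, 44, 8), (1, 35, 30), (1, 69, 49), (0, 19, 46), (0, 10, 68), (0, 91, 33), (1, 77, 53), (3, 50, 58), (1, 48, 2), (1, 14, 25), (1, 80, 39), (1, 9, 68), (3, 28, 1), (0, 4, 13), (3, 66, 5), (3, 30, 13), (3, 44, 18),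 (1, 63, 5), (0, 68, 0), (1, 65, 64), (0, 44, 24), (1, 4, 40), (3, 4, 15), (3, 66, 36), (1, 24, 28), (2, 57, 54), (1, 70, 60), (1, 46, 9), (0, 90, 58), (3, 64, 5), (1, 13, 35), (0, 19, 30), (3, 18, 60), (2, 24, 2), (3, 16, 32), (3, 53, 29), (1, 63, 66), (0, 10, 44), (0, 93, 64), (1, 81, 35), (1, 85, 52), (0, 14, 70), (1, 61, 3), (2, 40, 13), (2, 71, 24), (0, 90, 12), (0, 2, 1), (1, 36, 52), (1, 55, 43), (2, 19, 70), (3, 36, 69), (2, 49, 52), (2, 3, 38), (1, 89, 50), (1, 58, 3), (3, 92, 42), (3, 48, 16), (1, 90, 70), (3, 7, 5), (2, 55, 34), (0, 60, 36), (2, 3, 11), (1, 47, 50), (2, 5, 6), (2, 41, 13), (0, 19, 18), (0, 40, 2), (3, 44, 51), (0, 53, 7), (3, 26, 55), (3, 72, 59), (0, 13, 52), (1, 32, 42), (1, 8, 4), (3, 2, 12), (3, 51, 31), (3, 38, 42), (3, 80, 27), (2, 31, 39), (2, 16, 67), (2, 19, 28), (2, 38, 49), (2, 79, 5), (0, 61, 46),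 (0, 8, 40), (1, 63, 16), (0, 37, 25), (1, 37, 57), (2, 9, 29), (1, 74, 3), (2, 74, 0), (1, 39, 56), (1, 72, 38), (3, 61, 44), (0, 54, 60), (2, 3, 57), (0, 65, 39), (1, 44, 35), (2, 4, 21), (2, 58, 66), (3, 50, 36), (3, 27, 43), (2, 3, 46), (2, 59, 19), (0, 26, 13), (1, 8, 12), (2, 40, 22), (2, 71, 0), (3, 53, 38), (3, 7, 60), (0, 39, 30), (2, 3, 22), (3, 45, 42), (2, 29, 21), (1, 85, 59), (0, 46, 7), (2, 3, 4), (1, 32, 61), (2, 16, 50), (3, 13, 58), (3, 22, 25), (1, 90, 11), (2, 75, 67), (1, 19, 47), (3, 45, 46), (1, 6, 32), (3, 53, 68), (3, 68, 54), (0, 47, 9), (2, 56, 48), (3, 61, 49), (3, 75, 26), (0, 29, 6), (1, 4, 60), (3, 65, 31), (3, 56, 10), (3, 44, 59), (1, 79, 10), (3, 69, 37), (0, 83, 10), (1, 27, 49), (1, 21, 63), (2, 51, 33), (0, 87, 40), (1, 30, 53), (0, 21, 45), (2, 24, 0), (0, 50, 16), (1, 46, 69), (0, 32, 2), (2, 37,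 32), (3, 45, 12), (2, 12, 16), (0, 75, 41), (1, 26, 31), (3, 39, 18), (1, 3, 9), (2, 26, 14), (2, 40, 24), (3, 21, 9), (1, 30, 50), (3, 74, 62), (3, 38, 27), (0, 20, 15), (2, 42, 34), (2, 77, 53), (2, 58, 29), (3, 24, 24), (2, 51, 44), (1, 81, 58), (0, 60, 11), (1, 73, 4), (1, 31, 50), (1, 7, 61), (3, 12, 46), (0, 20, 4), (3, 70, 42), (0, 72, 66), (3, 57, 30), (0, 46, 49), (1, 61, 17), (2, 91, 52), (2, 43, 28), (2, 10, 40), (1, 44, 3), (3, 91, 26), (0, 44, 49), (2, 14, 56), (3, 7, 16), (1, 54, 22), (0, 63, 43), (1, 93, 10), (0, 27, 48), (2, 59, 1), (0, 31, 17), (1, 76, 4), (2, 76, 13), (1, 68, 38), (0, 7, 27), (0, 1, 33), (3, 76, 7), (1, 44, 50), (2, 46, 37), (0, 92, 6), (0, 87, 62), (2, 3, 65), (0, 27, 28), (1, 87, 71), (2, 59, 40), (1, 90, 63), (3, 66, 22), (2, 30, 19), (2, 57, 20), (0, 2, 31), (2, 18, 67), (0, 86, 31), (0, 32, 57),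 (3, 14, 3), (2, 69, 53), (1, 56, 47), (2, 5, 16), (3, 59, 39), (3, 59, 28), (1, 31, 13), (3, 47, 52), (0, 45, 23), (0, 1, 41), (3, 78, 4), (1, 71, 17), (0, 94, 40), (1, 18, 0), (3, 85, 71), (0, 66, 11), (2, 61, 18), (3, 15, 0), (0, 54, 14), (3, 8, 10), (1, 86, 25), (1, 31, 11), (0, 24, 23), (3, 65, 9), (0, 31, 49)]

/-- Entries. -/
def alphaEnt16 : List (ℕ × ℕ × ℕ) := [(2, 53, 21), (3, 77, 67), (0, 23, 19), (0, 28, 14), (3, 54, 31), (3, 86, 32), (2, 37, 70), (2, 51, 17), (0, 12, 4), (2, 75, 69), (2, 94, 42), (1, 8, 71), (0, 87, 33), (2, 92, 70), (3, 38, 6), (0, 72, 30), (3, 92, 38), (3, 45, 60), (3, 72, 57), (3, 62, 66), (1, 90, 62), (3, 66, 11), (1, 77, 7), (0, 14, 28), (2, 26, 10), (2, 71, 62), (1, 70, 67), (2, 1, 26), (2, 71, 20), (1, 32, 60), (1, 93, 57), (1, 39, 41), (3, 14, 55), (3, 36, 5), (1, 49, 31), (2, 7, 62), (3, 47, 20),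 (1, 21, 34), (0, 56, 62), (0, 73, 42), (3, 3, 36), (3, 92, 51), (0, 43, 17), (1, 47, 41), (2, 62, 26), (2, 50, 10), (0, 55, 43), (1, 11, 16), (3, 71, 9), (0, 80, 4), (2, 66, 61), (1, 49, 64), (0, 74, 35), (2, 47, 14), (3, 93, 13), (2, 47, 29), (1, 39, 51), (2, 9, 4), (0, 76, 29), (0, 42, 12), (0, 53, 1), (1, 29, 1), (3, 93, 69), (2, 26, 69), (2, 89, 9), (1, 90, 28), (3, 73, 50), (1, 39, 43), (3, 70, 13), (3, 31, 54), (1, 60, 16), (0, 72, 56), (0, 34, 10), (3, 23, 45), (1, 34, 46), (3, 40, 1), (3, 53, 34), (0, 32, 0), (3, 80, 19), (0, 48, 34), (0, 76, 31), (3, 13, 37), (3, 9, 62), (0, 75, 43), (2, 33, 69), (2, 73, 5), (1, 38, 21), (0, 94, 23), (0, 83, 5), (1, 90, 57), (3, 80, 41), (3, 59, 19), (2, 84, 8), (1, 50, 36), (1, 14, 69), (3, 81, 26), (0, 81, 28), (2, 54, 60), (3, 58, 23), (1, 24, 12), (0, 27, 69), (1, 49, 37), (1, 5, 8), (3,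 83, 45), (3, 2, 64), (2, 59, 29), (2, 18, 2), (3, 48, 66), (1, 73, 6), (2, 78, 5), (2, 66, 51), (2, 53, 71), (2, 94, 58), (3, 53, 3), (2, 39, 53), (0, 87, 26), (2, 11, 7), (1, 61, 70), (0, 45, 49), (1, 5, 61), (0, 76, 9), (3, 68, 49), (2, 93, 0), (1, 40, 52), (3, 50, 16), (2, 58, 10), (3, 89, 70), (2, 6, 13), (3, 1, 61), (3, 71, 62), (3, 1, 55), (2, 88, 2), (3, 23, 34), (2, 45, 61), (3, 62, 51), (2, 20, 31), (2, 84, 32), (1, 21, 33), (2, 94, 31), (1, 9, 60), (0, 27, 33), (1, 57, 22), (3, 67, 49), (1, 55, 40), (1, 93, 29), (2, 34, 1), (2, 38, 43), (2, 4, 59), (0, 46, 19), (2, 74, 10), (1, 70, 34), (0, 70, 64), (1, 78, 26), (0, 38, 36), (2, 23, 45), (0, 57, 69), (1, 48, 49), (3, 7, 56), (0, 72, 40), (3, 34, 61), (1, 44, 6), (3, 68, 70), (1, 24, 55), (1, 63, 0), (3, 29, 1), (2, 87, 37), (0, 59, 39), (3, 51, 59), (0, 51, 56), (1, 14, 27),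 (3, 6, 49), (1, 51, 44), (3, 39, 43), (3, 37, 29), (0, 33, 20), (1, 91, 67), (1, 4, 48), (0, 12, 65), (1, 80, 4), (3, 48, 22), (3, 92, 34), (3, 34, 12), (0, 81, 25), (1, 3, 62), (0, 18, 54), (3, 75, 14), (3, 38, 53), (1, 92, 71), (3, 55, 50), (2, 79, 36), (1, 15, 35), (0, 74, 26), (2, 82, 34), (1, 51, 64), (1, 69, 25), (3, 48, 51), (3, 31, 59), (3, 9, 0), (0, 55, 3), (1, 6, 0), (3, 79, 17), (3, 83, 66), (3, 16, 59), (1, 42, 54), (1, 33, 33), (0, 14, 4), (0, 60, 3), (2, 71, 63), (0, 74, 46), (0, 6, 22), (1, 34, 68), (1, 90, 36), (0, 11, 43), (3, 33, 63), (3, 10, 24), (0, 15, 7), (0, 89, 19), (2, 30, 16), (3, 47, 6), (0, 32, 39), (3, 60, 10), (0, 34, 42), (1, 34, 18), (2, 36, 71), (3, 80, 5), (3, 46, 71), (2, 39, 0), (1, 74, 68), (1, 90, 3), (0, 36, 61), (2, 23, 52), (0, 73, 21), (0, 54, 6), (0, 71, 70), (2, 27, 54), (0, 27, 43), (2, 36,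 39), (2, 5, 45), (2, 26, 23), (3, 16, 56), (0, 31, 14), (2, 37, 26), (0, 58, 16), (1, 5, 46), (0, 53, 28), (3, 43, 48), (1, 57, 60), (0, 76, 4), (2, 3, 25), (0, 1, 28), (1, 43, 4), (2, 77, 54), (0, 14, 11), (2, 92, 44), (2, 1, 23), (1, 66, 45), (3, 48, 65), (2, 28, 10), (3, 49, 49), (0, 50, 38), (0, 9, 70), (2, 42, 14), (3, 47, 34), (0, 75, 28), (0, 93, 35), (3, 69, 23), (2, 93, 23), (1, 38, 9), (2, 54, 43), (2, 55, 4), (1, 56, 6), (1, 77, 46), (0, 62, 15), (3, 94, 70), (1, 75, 13), (2, 32, 65), (2, 58, 53), (1, 79, 9), (0, 48, 58), (3, 75, 69), (1, 37, 0), (0, 68, 19), (0, 34, 24), (3, 58, 69), (3, 89, 54), (0, 65, 0), (2, 12, 38), (0, 39, 68), (1, 89, 39), (3, 2, 37), (1, 22, 2), (2, 49, 37), (1, 85, 0), (2, 49, 31), (3, 67, 47), (0, 1, 63), (2, 82, 46), (3, 24, 68), (0, 35, 1), (0, 59, 30), (3, 31, 43), (0, 55, 21), (0, 32, 45), (1,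 29, 56), (3, 47, 12), (3, 57, 5), (1, 56, 68), (0, 27, 30), (2, 4, 7), (1, 45, 6), (1, 72, 33), (3, 54, 4), (2, 52, 10), (2, 68, 49), (3, 94, 54), (1, 12, 54), (1, 19, 70), (3, 1, 33), (3, 43, 25), (2, 32, 4), (3, 28, 0), (2, 45, 2), (3, 64, 10), (0, 72, 55), (0, 40, 36), (0, 50, 51), (2, 16, 3), (2, 39, 61), (2, 4, 69), (0, 16, 33), (3, 73, 8), (3, 92, 15), (3, 4, 37), (3, 47, 71), (3, 30, 17), (3, 34, 24), (1, 91, 53), (0, 39, 56), (3, 90, 12), (2, 52, 28), (1, 47, 54), (0, 30, 22), (3, 6, 29), (1, 45, 42), (3, 5, 4), (0, 24, 46), (3, 87, 11), (1, 59, 27), (3, 30, 66), (0, 16, 66), (0, 82, 51), (3, 34, 42), (1, 68, 11), (0, 6, 0), (3, 22, 20), (0, 47, 26), (3, 34, 53), (3, 77, 35), (0, 94, 13), (0, 15, 36), (3, 12, 1), (1, 85, 3), (1, 14, 51), (1, 69, 43), (1, 9, 41), (3, 92, 9), (3, 53, 15), (0, 22, 0), (3, 86, 29), (1, 88, 2), (0,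 34, 21), (1, 87, 6), (1, 90, 37), (3, 44, 14), (0, 24, 26), (3, 14, 6), (0, 23, 29), (0, 87, 69), (1, 33, 5), (0, 91, 4), (3, 72, 12), (0, 75, 66), (2, 46, 71), (1, 31, 47), (3, 56, 46), (1, 90, 39), (1, 82, 32), (3, 81, 62), (3, 65, 61), (0, 89, 55), (3, 27, 7), (3, 6, 31), (1, 79, 31), (3, 62, 13), (3, 33, 66), (2, 93, 1), (0, 12, 25), (1, 43, 56), (3, 75, 41), (3, 29, 9)]

/-- Entries. -/
def alphaEnt17 : List (ℕ × ℕ × ℕ) := [(0, 48, 53), (3, 66, 18), (2, 66, 62), (3, 77, 9), (2, 20, 22), (2, 61, 2), (0, 72, 54), (1, 37, 69), (0, 49, 24), (2, 37, 34), (2, 72, 16), (3, 3, 23), (1, 33, 71), (0, 73, 26), (3, 68, 5), (3, 60, 1), (0, 18, 30), (2, 24, 42), (0, 21, 62), (1, 3, 58), (1, 37, 52), (2, 27, 65), (0, 22, 36), (0, 55, 9), (1, 4, 13), (1, 54, 57), (3, 38, 14), (0, 44, 10), (1, 4, 46), (3, 4, 47), (3, 93, 23), (1, 46, 67), (1, 12,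 22), (3, 5, 14), (1, 8, 60), (0, 76, 18), (3, 33, 39), (1, 56, 66), (3, 30, 54), (2, 64, 43), (3, 61, 25), (0, 16, 49), (0, 94, 55), (2, 4, 44), (3, 61, 0), (1, 30, 13), (0, 58, 60), (3, 92, 25), (0, 65, 47), (1, 68, 19), (0, 54, 18), (3, 37, 0), (2, 39, 8), (3, 24, 57), (3, 35, 27), (3, 90, 59), (1, 34, 40), (2, 64, 38), (3, 14, 71), (2, 64, 5), (2, 35, 8), (3, 38, 69), (2, 64, 48), (1, 63, 50), (3, 87, 53), (2, 36, 47), (2, 85, 70), (2, 21, 68), (3, 33, 22), (2, 32, 50), (1, 19, 2), (1, 19, 38), (2, 63, 52), (1, 47, 34), (3, 42, 23), (3, 13, 34), (0, 38, 37), (2, 48, 8), (2, 1, 29), (1, 60, 15), (1, 60, 60), (2, 29, 8), (2, 77, 31), (3, 9, 21), (0, 74, 7), (1, 38, 33), (2, 89, 58), (1, 81, 66), (2, 92, 36), (1, 23, 71), (3, 90, 58), (2, 69, 71), (0, 75, 38), (2, 51, 30), (2, 23, 25), (1, 5, 38), (1, 55, 49), (0, 82, 35), (3, 35, 69),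 (3, 32, 46), (3, 44, 38), (3, 34, 5), (1, 85, 55), (1, 16, 6), (0, 81, 5), (2, 38, 70), (2, 50, 8), (1, 70, 49), (2, 52, 6), (0, 9, 46), (1, 59, 44), (1, 42, 4), (2, 3, 7), (1, 60, 29), (3, 4, 41), (2, 31, 58), (2, 84, 36), (1, 53, 2), (2, 60, 70), (3, 70, 16), (3, 18, 45), (1, 77, 36), (2, 74, 59), (2, 16, 7), (2, 26, 50), (1, 15, 10), (2, 51, 22), (2, 8, 71), (2, 75, 56), (0, 9, 27), (3, 37, 38), (0, 62, 37), (3, 65, 0), (0, 18, 43), (0, 61, 1), (2, 73, 69), (3, 63, 48), (2, 28, 7), (1, 47, 37), (3, 38, 56), (3, 11, 14), (2, 89, 2), (0, 12, 44), (2, 14, 45), (1, 81, 6), (0, 74, 13), (2, 70, 18), (3, 92, 58), (1, 64, 51), (0, 40, 60), (3, 32, 29), (1, 1, 70), (3, 31, 57), (2, 35, 16), (0, 86, 2), (1, 67, 45), (3, 48, 52), (3, 48, 12), (2, 92, 33), (0, 13, 18), (3, 89, 21), (1, 70, 66), (0, 54, 16), (1, 37, 42), (3, 83, 31), (1, 51, 47),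 (3, 52, 25), (3, 45, 62), (1, 1, 32), (0, 29, 63), (1, 91, 21), (0, 1, 20), (0, 48, 16), (1, 23, 27), (1, 84, 1), (3, 33, 58), (3, 57, 12), (3, 33, 34), (0, 74, 37), (1, 60, 64), (3, 83, 55), (1, 3, 14), (1, 65, 44), (1, 87, 18), (3, 35, 70), (1, 35, 40), (2, 67, 7), (0, 53, 27), (2, 35, 42), (0, 34, 0), (3, 36, 30), (3, 85, 59), (2, 2, 63), (1, 6, 58), (1, 46, 33), (2, 8, 27), (0, 18, 42), (0, 69, 19), (1, 59, 2), (2, 33, 52), (1, 94, 9), (2, 78, 27), (1, 53, 39), (0, 63, 17), (1, 49, 55), (0, 92, 16), (3, 31, 64), (0, 4, 27), (1, 77, 63), (3, 75, 4), (1, 59, 67), (2, 14, 32), (1, 16, 24), (0, 29, 22), (1, 12, 8), (0, 12, 21), (1, 48, 35), (0, 9, 17), (1, 19, 13), (1, 21, 45), (3, 36, 46), (2, 32, 2), (0, 35, 38), (0, 33, 26), (3, 64, 54), (3, 22, 19), (2, 69, 52), (3, 56, 58), (1, 69, 20), (1, 31, 28), (3, 91, 20), (3, 26, 36), (2,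 34, 59), (2, 81, 39), (2, 92, 42), (2, 7, 7), (3, 13, 62), (1, 81, 60), (1, 2, 46), (1, 71, 6), (1, 85, 28), (0, 83, 53), (2, 75, 54), (2, 57, 4), (0, 93, 3), (0, 77, 32), (3, 26, 26), (0, 18, 62), (3, 92, 19), (3, 7, 67), (3, 66, 68), (1, 63, 18), (2, 6, 65), (2, 8, 45), (1, 67, 43), (3, 39, 6), (2, 93, 7), (3, 47, 70), (1, 19, 62), (1, 94, 47), (2, 59, 10), (2, 70, 66), (3, 8, 18), (0, 53, 19), (0, 70, 9), (2, 77, 33), (0, 26, 5), (2, 36, 25), (3, 72, 42), (3, 66, 4), (3, 12, 4), (2, 68, 68), (0, 62, 29), (2, 64, 66), (1, 33, 13), (0, 90, 63), (2, 50, 20), (3, 67, 14), (1, 13, 10), (0, 37, 54), (0, 85, 71), (1, 19, 0), (2, 62, 67), (3, 4, 45), (3, 61, 5), (3, 91, 7), (1, 70, 40), (3, 75, 27), (0, 35, 66), (1, 11, 53), (1, 92, 21), (2, 35, 32), (1, 23, 48), (3, 29, 53), (2, 35, 29), (0, 42, 26), (0, 67, 1), (0, 51, 31), (1, 60, 48),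 (1, 25, 27), (2, 35, 41), (1, 28, 3), (0, 7, 67), (0, 37, 23), (1, 38, 8), (2, 90, 43), (0, 16, 0), (1, 79, 26), (3, 38, 11), (0, 14, 58), (0, 20, 18), (0, 16, 57), (2, 67, 16), (1, 27, 64), (3, 41, 4), (2, 33, 6), (3, 30, 14), (1, 10, 50), (2, 14, 15), (0, 26, 68), (3, 40, 26), (1, 30, 18), (0, 43, 34), (0, 64, 41), (1, 11, 46), (1, 49, 46), (3, 94, 65), (0, 42, 18), (1, 68, 45), (2, 94, 28), (3, 77, 49), (0, 20, 12), (2, 86, 19), (1, 94, 66), (3, 41, 9), (2, 85, 19), (1, 14, 32), (3, 12, 2), (2, 39, 54), (1, 73, 62), (2, 13, 41), (3, 42, 10), (2, 82, 19), (3, 65, 12), (3, 73, 69), (0, 38, 5), (3, 29, 34), (1, 79, 32), (0, 65, 57), (2, 6, 17), (2, 44, 56), (1, 65, 50), (3, 83, 57), (3, 49, 8), (3, 26, 16), (0, 69, 13), (1, 7, 9), (2, 63, 20), (2, 6, 20), (2, 36, 42), (1, 14, 66), (3, 62, 61), (3, 16, 43), (2, 43, 51), (2, 65, 48), (1,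 23, 69), (2, 81, 51), (2, 50, 24), (3, 55, 39), (0, 49, 55), (3, 31, 10), (1, 27, 61), (0, 63, 36), (1, 68, 53), (3, 42, 32), (0, 7, 42), (2, 61, 28), (1, 51, 27), (3, 2, 44), (2, 16, 42), (3, 21, 12), (0, 12, 34), (0, 68, 18), (0, 72, 13), (2, 13, 43), (2, 90, 23), (0, 13, 28), (2, 54, 34), (1, 77, 66), (3, 33, 0), (0, 91, 10), (3, 5, 31), (2, 59, 62), (2, 70, 43), (2, 59, 56), (0, 9, 8), (3, 32, 9), (1, 21, 22), (3, 38, 63), (0, 78, 30)]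

/-- Entries. -/
def alphaEnt18 : List (ℕ × ℕ × ℕ) := [(1, 37, 8), (0, 7, 31), (1, 53, 30), (0, 18, 2), (1, 53, 3), (0, 43, 24), (3, 49, 40), (1, 44, 25), (0, 53, 71), (1, 67, 4), (2, 69, 3), (0, 8, 25), (0, 92, 70), (3, 77, 38), (0, 10, 37), (3, 65, 71), (3, 70, 1), (2, 51, 1), (0, 77, 7), (2, 93, 70), (0, 55, 37), (3, 79, 4), (1, 30, 33), (2, 7, 2), (1, 35, 48), (3, 72, 55), (0, 58, 9), (2, 93, 15), (2, 12, 43), (3, 20, 24), (0, 37, 16), (0, 18, 19), (3, 74, 67), (2, 26, 49), (1, 31, 40), (3, 70, 15), (2, 50, 60), (1, 66, 16), (3, 55, 44), (2, 1, 40), (2, 91, 20), (2, 5, 57), (2, 7, 35), (0, 67, 14), (1, 52, 35), (0, 48, 71), (3, 50, 40), (3, 38, 66), (2, 47, 53), (2, 76, 5), (3, 31, 52), (3, 49, 66), (2, 35, 45), (0, 48, 69), (0, 90, 28), (2, 31, 35), (0, 91, 36), (3, 35, 59), (1, 70, 13), (3, 83, 1), (1, 92, 22), (0, 61, 71), (0,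 93, 20), (0, 39, 29), (2, 63, 40), (3, 75, 70), (1, 93, 8), (3, 27, 45), (0, 31, 45), (3, 27, 25), (0, 56, 11), (1, 80, 14), (3, 74, 30), (1, 50, 34), (2, 80, 59), (3, 80, 9), (1, 13, 0), (3, 71, 71), (0, 73, 30), (0, 47, 40), (3, 2, 24), (3, 20, 3), (0, 55, 71), (0, 43, 48), (3, 74, 31), (1, 76, 1), (3, 49, 53), (1, 82, 53), (2, 49, 61), (1, 57, 71), (2, 19, 32), (0, 45, 33), (2, 7, 42), (3, 74, 47), (3, 4, 55), (2, 2, 44), (2, 18, 54), (2, 72, 5), (0, 38, 39), (2, 36, 51), (3, 94, 0), (0, 54, 21), (0, 82, 34), (2, 70, 1), (2, 68, 3), (0, 6, 53), (1, 22, 7), (0, 93, 70), (3, 56, 17), (1, 56, 48), (0, 68, 30), (0, 85, 67), (1, 65, 6), (3, 90, 22), (3, 71, 38), (1, 66, 1), (2, 71, 7), (3, 42, 67), (0, 57, 44), (1, 46, 24), (3, 67, 32), (3, 48, 46), (2, 47, 18), (0, 4, 17), (1, 40, 15), (3, 27, 66), (3, 47, 17), (3, 45, 51), (2, 86, 35),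 (0, 60, 43), (2, 33, 0), (3, 73, 67), (0, 79, 3), (3, 56, 56), (3, 36, 6), (3, 31, 8), (2, 61, 40), (3, 49, 42), (2, 63, 69), (0, 5, 58), (1, 76, 23), (0, 89, 47), (2, 26, 31), (0, 74, 10), (2, 13, 4), (0, 2, 15), (2, 22, 11), (0, 62, 18), (3, 63, 37), (0, 14, 66), (0, 90, 8), (0, 39, 69), (0, 9, 40), (0, 65, 48), (2, 6, 23), (2, 48, 35), (0, 22, 27), (0, 29, 54), (2, 3, 16), (2, 91, 44), (2, 52, 14), (1, 77, 4), (3, 30, 69), (3, 40, 48), (2, 23, 57), (1, 4, 25), (3, 83, 65), (1, 61, 35), (3, 20, 23), (0, 68, 7), (1, 53, 6), (1, 46, 63), (3, 89, 48), (1, 71, 31), (1, 73, 7), (0, 34, 26), (2, 39, 36), (2, 40, 46), (2, 48, 68), (1, 74, 64), (3, 1, 2), (3, 49, 3), (3, 51, 61), (2, 11, 64), (1, 24, 10), (3, 24, 30), (0, 56, 61), (2, 42, 33), (1, 23, 12), (0, 54, 12), (0, 90, 25), (2, 21, 13), (1, 60, 27), (0, 70, 21), (0, 37, 20), (1, 48,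 58), (2, 34, 45), (1, 56, 53), (1, 77, 44), (2, 86, 36), (1, 82, 9), (3, 90, 27), (0, 47, 71), (2, 26, 33), (0, 66, 42), (1, 84, 11), (1, 37, 23), (1, 87, 61), (1, 57, 26), (1, 29, 47), (2, 74, 42), (2, 79, 28), (3, 33, 48), (2, 67, 56), (0, 7, 25), (1, 23, 31), (3, 14, 2), (2, 70, 60), (3, 88, 6), (2, 21, 55), (3, 60, 24), (1, 13, 48), (3, 35, 20), (2, 10, 53), (0, 91, 61), (2, 48, 41), (1, 24, 71), (3, 28, 13), (0, 19, 25), (0, 94, 28), (2, 76, 12), (2, 63, 68), (0, 56, 2), (1, 87, 12), (0, 81, 44), (2, 57, 9), (3, 27, 62), (2, 60, 10), (1, 50, 29), (0, 70, 40), (2, 5, 11), (3, 48, 40), (2, 89, 59), (1, 59, 62), (2, 29, 11), (3, 41, 14), (1, 43, 40), (1, 53, 21), (2, 9, 6), (3, 45, 45), (3, 1, 28), (0, 85, 38), (2, 15, 8), (2, 36, 19), (3, 71, 68), (0, 16, 37), (0, 89, 52), (1, 23, 6), (0, 50, 41), (3, 18, 56), (0, 64, 49), (1, 50,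 56), (2, 94, 0), (1, 29, 15), (1, 7, 33), (3, 1, 22), (0, 7, 4), (3, 19, 51), (1, 9, 48), (0, 74, 22), (2, 63, 24), (3, 92, 0), (1, 13, 56), (2, 34, 30), (1, 15, 26), (0, 11, 30), (3, 63, 18), (1, 24, 4), (0, 8, 62), (0, 31, 3), (2, 43, 7), (1, 71, 34), (2, 45, 4), (1, 65, 53), (0, 2, 63), (3, 55, 21), (0, 80, 70), (1, 93, 14), (1, 18, 59), (3, 73, 12), (0, 5, 48), (1, 92, 9), (1, 69, 30), (0, 46, 59), (3, 80, 3), (0, 14, 44), (3, 76, 1), (2, 6, 26), (1, 55, 25), (1, 89, 67), (0, 44, 22), (3, 60, 67), (1, 77, 17), (1, 73, 30), (1, 83, 67), (1, 22, 19), (3, 66, 42), (3, 70, 4), (3, 49, 61), (1, 94, 24), (1, 22, 1), (1, 53, 18), (0, 53, 32), (1, 85, 42), (3, 7, 36), (3, 83, 43), (0, 59, 66), (2, 5, 30), (1, 35, 52), (2, 74, 3), (2, 7, 34), (3, 8, 3), (0, 2, 35), (1, 1, 14), (3, 81, 10), (2, 44, 9), (1, 55, 11), (1, 76, 6), (3, 55, 56),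 (3, 27, 9), (0, 55, 62), (3, 35, 23), (0, 90, 44), (2, 80, 39), (3, 1, 62), (2, 12, 62), (1, 3, 69), (2, 89, 23), (3, 48, 64), (0, 5, 64), (3, 36, 33), (3, 20, 27), (1, 57, 3), (3, 90, 47), (3, 30, 48), (0, 87, 30), (1, 50, 11), (3, 91, 36), (0, 48, 47), (2, 80, 65), (3, 33, 61), (2, 83, 53), (1, 23, 36), (2, 41, 1), (2, 21, 48), (1, 13, 8), (0, 66, 9), (0, 42, 49), (0, 10, 45), (0, 73, 41), (2, 73, 67), (1, 82, 58), (2, 61, 54), (1, 44, 33), (0, 6, 1), (3, 54, 16), (1, 81, 14), (2, 33, 41), (0, 69, 39), (1, 73, 19), (1, 89, 23), (1, 8, 58), (1, 93, 55), (2, 27, 18), (2, 7, 10), (0, 47, 38), (3, 42, 33), (3, 7, 64), (2, 34, 43), (3, 58, 38), (1, 94, 49), (0, 55, 36), (3, 4, 32), (3, 45, 40), (0, 73, 8), (3, 24, 52), (2, 45, 39), (0, 36, 11), (3, 37, 16), (0, 45, 51), (1, 8, 64), (3, 63, 62), (2, 42, 51), (0, 88, 6), (0, 32, 16), (2, 38,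 23), (3, 19, 50), (0, 67, 30), (1, 33, 12), (2, 44, 38)]

/-- Entries. -/
def alphaEnt19 : List (ℕ × ℕ × ℕ) := [(1, 69, 65), (3, 3, 17), (2, 1, 5), (2, 81, 45), (2, 63, 38), (1, 68, 39), (3, 75, 24), (3, 77, 36), (2, 3, 32), (1, 1, 29), (2, 29, 5), (0, 23, 68), (1, 75, 45), (1, 37, 13), (2, 80, 29), (2, 49, 69), (0, 48, 9), (1, 78, 32), (3, 50, 50), (1, 61, 69), (0, 61, 30), (3, 89, 27), (3, 35, 44), (3, 32, 3), (0, 6, 39), (0, 56, 41), (3, 2, 29), (2, 92, 64), (3, 14, 5), (0, 7, 32), (1, 62, 8), (0, 59, 45), (2, 82, 52), (2, 35, 7), (0, 16, 11), (1, 90, 33), (3, 53, 32), (3, 89, 47), (1, 20, 13), (3, 37, 4), (1, 23, 59), (3, 42, 53), (1, 48, 57), (3, 44, 22), (3, 80, 46), (0, 83, 15), (2, 90, 3), (3, 48, 33), (3, 32, 39), (1, 3, 33), (3, 27, 65), (0, 89, 32), (2, 11, 22), (0, 35, 11), (0, 10, 59), (3, 44, 69), (0, 43, 0), (3, 31, 1),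 (1, 72, 31), (2, 87, 40), (2, 86, 4), (3, 47, 30), (1, 2, 60), (3, 58, 12), (0, 28, 6), (0, 82, 0), (0, 19, 61), (2, 93, 62), (0, 44, 36), (3, 14, 25), (0, 7, 52), (1, 11, 11), (2, 12, 30), (1, 73, 31), (1, 24, 53), (1, 31, 60), (0, 67, 70), (1, 2, 42), (3, 35, 68), (3, 23, 2), (2, 79, 33), (1, 32, 28), (2, 35, 43), (2, 7, 6), (3, 72, 61), (1, 55, 42), (3, 5, 50), (1, 26, 4), (1, 44, 48), (3, 15, 20), (0, 59, 6), (2, 71, 68), (3, 9, 47), (3, 60, 3), (0, 40, 39), (2, 21, 39), (2, 74, 17), (0, 7, 51), (0, 18, 6), (0, 53, 61), (1, 55, 15), (1, 46, 22), (0, 24, 49), (3, 82, 63), (3, 31, 53), (0, 37, 4), (3, 63, 23), (2, 57, 15), (0, 86, 11), (2, 48, 60), (0, 85, 49), (3, 38, 52), (2, 18, 57), (2, 73, 19), (1, 7, 7), (0, 61, 34), (1, 24, 27), (1, 4, 14), (3, 56, 70), (1, 55, 70), (3, 69, 21), (2, 21, 11), (1, 40, 25), (0, 50, 49), (1, 70,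 36), (3, 14, 61), (0, 38, 62), (1, 12, 64), (3, 2, 27), (1, 68, 2), (0, 5, 70), (0, 58, 67), (0, 36, 3), (1, 45, 24), (3, 91, 19), (3, 29, 35), (2, 78, 33), (3, 25, 4), (1, 64, 71), (2, 83, 22), (0, 86, 14), (0, 50, 70), (0, 50, 6), (1, 90, 55), (3, 35, 61), (1, 14, 42), (3, 40, 2), (3, 61, 71), (0, 10, 61), (2, 57, 3), (0, 33, 14), (3, 29, 42), (1, 22, 25), (0, 29, 64), (2, 46, 14), (1, 40, 20), (1, 53, 29), (3, 23, 62), (3, 4, 21), (3, 32, 64), (2, 37, 51), (1, 36, 44), (0, 63, 61), (0, 44, 53), (1, 12, 17), (3, 13, 35), (1, 27, 14), (3, 20, 36), (0, 87, 38), (1, 67, 31), (2, 77, 66), (0, 42, 53), (2, 11, 62), (0, 18, 49), (3, 18, 28), (0, 5, 27), (1, 45, 12), (1, 76, 32), (0, 9, 59), (0, 70, 57), (3, 42, 35), (3, 50, 62), (0, 19, 31), (2, 55, 13), (1, 75, 67), (2, 50, 29), (1, 66, 5), (0, 66, 47), (0, 8, 53), (1, 90, 29), (0, 70, 59),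 (2, 2, 61), (2, 50, 58), (3, 19, 71), (2, 61, 29), (1, 8, 33), (1, 74, 20), (0, 85, 15), (3, 32, 5), (2, 14, 14), (2, 15, 4), (1, 5, 44), (3, 92, 35), (1, 23, 63), (2, 45, 19), (2, 21, 56), (3, 48, 36), (3, 67, 35), (2, 69, 31), (2, 27, 41), (1, 23, 54), (0, 46, 13), (3, 10, 38), (0, 66, 46), (0, 24, 19), (1, 86, 3), (3, 51, 55), (2, 80, 67), (1, 66, 24), (0, 27, 27), (1, 16, 15), (0, 85, 68), (2, 50, 69), (0, 80, 56), (2, 46, 69), (1, 84, 21), (2, 29, 40), (3, 64, 20), (1, 71, 19), (2, 34, 33), (1, 72, 10), (1, 30, 60), (0, 30, 64), (2, 55, 20), (3, 4, 50), (1, 66, 33), (0, 66, 17), (2, 12, 45), (3, 58, 56), (1, 24, 25), (0, 95, 4), (1, 85, 58), (0, 7, 68), (0, 25, 0), (3, 23, 17), (0, 45, 64), (0, 56, 29), (3, 92, 11), (1, 13, 7), (1, 23, 22), (0, 45, 62), (3, 92, 32), (1, 85, 54), (1, 80, 27), (2, 64, 8), (3, 40, 6), (2, 13, 29), (0,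 32, 59), (3, 75, 21), (3, 43, 53), (0, 10, 14), (1, 8, 2), (3, 48, 14), (1, 83, 4), (1, 42, 65), (3, 11, 23), (2, 83, 14), (1, 59, 6), (1, 38, 39), (2, 56, 31), (1, 59, 13), (2, 57, 48), (3, 5, 58), (2, 45, 41), (0, 12, 67), (2, 62, 54), (1, 69, 22), (3, 87, 31), (3, 90, 34), (1, 47, 60), (2, 54, 30), (0, 62, 52), (0, 93, 51), (2, 63, 59), (3, 37, 62), (3, 60, 6), (3, 86, 4), (2, 16, 10), (1, 93, 19), (2, 47, 52), (3, 80, 59), (1, 35, 65), (1, 8, 31), (2, 61, 70), (3, 3, 31), (2, 36, 63), (1, 4, 53), (3, 42, 7), (3, 56, 4), (2, 93, 55), (3, 57, 37), (3, 39, 47), (0, 29, 65), (0, 82, 22), (1, 23, 43), (1, 62, 18), (0, 22, 20), (0, 73, 12), (0, 58, 55), (1, 3, 0), (0, 33, 66), (1, 10, 62), (2, 48, 1), (2, 63, 12), (2, 56, 28), (3, 91, 68), (2, 47, 51), (0, 11, 50), (3, 43, 63), (2, 86, 13), (1, 38, 17), (0, 2, 54), (3, 76, 19), (0, 18,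 14), (0, 53, 17), (1, 93, 67), (2, 66, 24), (2, 24, 40), (0, 62, 4), (0, 53, 64), (3, 4, 23), (3, 34, 60), (1, 33, 7), (2, 62, 57), (1, 94, 34), (2, 47, 35), (2, 65, 1), (3, 24, 38), (3, 12, 70), (0, 21, 23), (0, 6, 68), (2, 10, 71), (1, 7, 21), (3, 56, 45), (3, 83, 54), (1, 9, 9), (2, 57, 25), (3, 30, 22), (3, 18, 62), (0, 5, 37), (2, 81, 19), (0, 82, 44), (0, 58, 33), (1, 86, 32), (1, 10, 3), (2, 62, 30), (0, 25, 23), (0, 46, 15), (1, 70, 21), (1, 21, 16), (0, 59, 18), (0, 37, 31), (1, 12, 56), (1, 80, 28), (2, 57, 61), (3, 49, 14), (3, 85, 24), (3, 8, 34), (3, 80, 22), (0, 45, 10), (3, 26, 15), (3, 13, 3), (1, 46, 45), (2, 27, 47), (0, 74, 64), (2, 35, 13), (0, 30, 54), (0, 6, 67), (2, 71, 48), (0, 71, 31), (2, 12, 48), (1, 22, 12), (0, 82, 3), (2, 52, 32), (3, 56, 23), (2, 44, 62), (3, 12, 60), (3, 19, 52), (1, 66, 22), (0, 94, 2),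 (3, 8, 19), (3, 50, 47), (1, 74, 17), (1, 92, 6), (3, 30, 31), (2, 53, 66), (0, 3, 65), (1, 7, 17), (3, 18, 5), (1, 63, 41)]

/-- Entries. -/
def alphaEnt20 : List (ℕ × ℕ × ℕ) := [(0, 23, 65), (0, 23, 28), (2, 36, 5), (3, 39, 15), (3, 19, 45), (0, 87, 66), (3, 73, 55), (1, 43, 47), (2, 77, 65), (3, 8, 8), (3, 9, 65), (3, 26, 40), (1, 8, 37), (1, 73, 46), (2, 32, 47), (2, 14, 7), (3, 83, 29), (2, 83, 40), (2, 64, 37), (2, 65, 22), (3, 77, 7), (1, 19, 1), (2, 94, 21), (3, 39, 32), (3, 33, 15), (2, 81, 56), (0, 4, 3), (0, 5, 44), (2, 73, 56), (2, 6, 38), (3, 49, 26), (2, 85, 23), (2, 64, 58), (2, 87, 42), (2, 47, 31), (2, 83, 26), (2, 34, 44), (1, 10, 9), (2, 19, 26), (3, 3, 9), (3, 92, 59), (1, 50, 14), (0, 87, 31), (0, 43, 3), (3, 11, 47), (0, 32, 65), (2, 19, 42), (0, 24, 37), (1, 9, 2), (3, 74, 66), (0, 53, 55), (0, 36, 32), (2, 35,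 4), (2, 52, 29), (2, 30, 0), (1, 40, 62), (0, 90, 6), (0, 75, 21), (0, 24, 55), (0, 61, 49), (3, 34, 54), (2, 32, 27), (3, 53, 13), (3, 32, 37), (2, 86, 33), (0, 73, 44), (0, 11, 51), (1, 41, 13), (0, 81, 7), (2, 48, 50), (3, 90, 71), (3, 36, 26), (3, 15, 6), (1, 85, 21), (1, 2, 19), (3, 33, 33), (1, 50, 38), (2, 81, 17), (1, 18, 54), (2, 12, 36), (1, 12, 52), (3, 11, 35), (2, 68, 53), (2, 44, 12), (3, 85, 6), (3, 32, 70), (0, 57, 38), (3, 87, 50), (2, 55, 7), (0, 48, 22), (1, 39, 27), (3, 7, 9), (0, 56, 69), (3, 63, 20), (1, 24, 32), (1, 52, 26), (1, 35, 58), (0, 36, 28), (1, 53, 48), (0, 77, 18), (1, 2, 47), (3, 45, 61), (0, 63, 62), (3, 81, 0), (2, 85, 0), (2, 91, 32), (1, 76, 24), (3, 8, 55), (0, 91, 49), (3, 60, 5), (2, 73, 38), (0, 6, 60), (3, 11, 2), (1, 26, 34), (3, 64, 37), (3, 49, 59), (3, 45, 5), (2, 55, 10), (3, 55, 23), (3,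 45, 37), (2, 7, 56), (2, 12, 8), (3, 20, 29), (2, 72, 44), (2, 82, 11), (3, 14, 15), (2, 31, 9), (1, 21, 66), (0, 90, 16), (1, 64, 11), (0, 63, 34), (0, 87, 16), (1, 14, 68), (2, 54, 9), (0, 2, 40), (3, 53, 14), (0, 66, 43), (3, 4, 59), (3, 9, 51), (0, 39, 13), (2, 68, 14), (1, 93, 9), (2, 85, 30), (2, 66, 37), (0, 30, 45), (0, 26, 46), (2, 7, 50), (2, 70, 5), (0, 81, 43), (0, 82, 47), (1, 50, 26), (0, 48, 17), (0, 69, 61), (1, 6, 71), (1, 2, 2), (1, 43, 2), (0, 57, 6), (1, 48, 26), (1, 47, 16), (0, 38, 17), (3, 59, 13), (0, 29, 62), (3, 49, 24), (1, 73, 11), (2, 29, 70), (0, 62, 54), (1, 19, 57), (3, 89, 52), (3, 80, 47), (1, 62, 52), (3, 85, 16), (0, 85, 61), (1, 47, 27), (3, 85, 68), (2, 6, 34), (1, 82, 24), (0, 37, 0), (1, 93, 17), (0, 26, 28), (3, 64, 13), (1, 86, 26), (1, 73, 27), (1, 13, 53), (0, 82, 43), (2, 51, 20), (0, 61, 4),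 (0, 24, 70), (2, 92, 52), (2, 6, 48), (1, 45, 66), (1, 11, 41), (0, 32, 49), (0, 44, 4), (1, 38, 29), (1, 80, 17), (1, 89, 19), (2, 4, 56), (0, 48, 49), (1, 6, 25), (3, 52, 35), (1, 70, 25), (2, 35, 5), (3, 66, 35), (3, 91, 70), (3, 47, 51), (3, 8, 24), (3, 34, 35), (3, 49, 56), (2, 14, 1), (3, 23, 52), (1, 79, 19), (1, 79, 18), (3, 24, 5), (2, 35, 37), (0, 48, 29), (3, 8, 6), (2, 7, 45), (1, 67, 3), (3, 36, 39), (1, 55, 13), (3, 48, 54), (3, 43, 45), (3, 1, 10), (0, 49, 62), (2, 79, 4), (0, 28, 1), (1, 43, 43), (1, 49, 21), (1, 74, 63), (0, 16, 70), (2, 47, 24), (3, 80, 45), (3, 42, 30), (2, 77, 39), (0, 7, 66), (2, 10, 37), (0, 2, 17), (3, 46, 43), (1, 30, 35), (2, 4, 71), (1, 83, 27), (1, 80, 49), (1, 45, 27), (0, 24, 14), (3, 35, 0), (3, 39, 45), (3, 64, 29), (0, 29, 40), (0, 34, 33), (1, 51, 66), (3, 23, 25), (1, 27, 63), (1, 14,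 59), (0, 30, 43), (2, 77, 4), (2, 30, 17), (0, 66, 33), (1, 18, 46), (2, 72, 11), (3, 61, 33), (2, 23, 3), (0, 85, 29), (1, 89, 17), (3, 24, 61), (2, 50, 45), (2, 2, 13), (0, 23, 18), (2, 29, 43), (2, 1, 39), (3, 56, 66), (0, 91, 25), (2, 65, 3), (1, 55, 68), (0, 12, 22), (3, 2, 31), (2, 23, 22), (1, 63, 29), (3, 60, 23), (0, 71, 61), (3, 6, 27), (3, 5, 59), (3, 32, 40), (0, 74, 20), (1, 69, 53), (2, 33, 30), (3, 71, 52), (0, 14, 18), (1, 39, 68), (1, 14, 38), (2, 42, 29), (1, 2, 49), (0, 24, 69), (2, 27, 19), (0, 23, 53), (1, 42, 35), (0, 70, 7), (2, 26, 47), (0, 87, 51), (2, 8, 69), (2, 66, 6), (3, 85, 31), (1, 40, 28), (2, 87, 68), (0, 8, 16), (2, 95, 0), (1, 21, 69), (2, 67, 71), (1, 41, 15), (1, 87, 38), (2, 94, 56), (3, 3, 40), (2, 55, 8), (2, 38, 65), (3, 43, 34), (0, 32, 68), (3, 72, 33), (3, 76, 24), (3, 21, 37), (3, 49, 71),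 (2, 86, 22), (1, 78, 27), (0, 45, 44), (1, 18, 70), (2, 39, 42), (2, 75, 32), (3, 9, 59), (1, 68, 71), (0, 76, 27), (2, 70, 25), (1, 67, 38), (0, 80, 54), (1, 51, 58), (0, 78, 33), (2, 82, 65), (3, 61, 37), (2, 37, 0), (0, 60, 55), (0, 79, 7), (1, 14, 62), (2, 71, 17), (3, 10, 61), (0, 39, 48), (0, 45, 60), (2, 7, 61), (2, 89, 64), (0, 18, 71), (0, 85, 62), (1, 42, 8), (3, 64, 43), (0, 83, 62), (2, 65, 43), (1, 65, 14), (1, 15, 23), (1, 65, 42), (3, 55, 42), (3, 64, 18), (0, 87, 18), (3, 34, 40), (1, 55, 29), (0, 10, 18), (1, 11, 33), (1, 91, 38), (1, 63, 30), (3, 32, 36), (1, 37, 34), (3, 73, 71), (1, 72, 42), (3, 48, 48), (2, 43, 67), (0, 6, 30), (2, 53, 48), (2, 90, 19), (0, 87, 23), (3, 2, 35), (0, 87, 50), (0, 41, 21), (0, 47, 24), (1, 61, 27), (0, 49, 21), (3, 18, 57), (2, 78, 29), (1, 64, 47), (0, 4, 16), (1, 33, 41), (1, 85, 36),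 (0, 65, 2), (1, 14, 56), (1, 73, 15), (0, 6, 29), (2, 69, 17), (2, 70, 61), (3, 69, 68), (2, 72, 43), (2, 70, 24), (0, 19, 48), (0, 39, 49), (2, 18, 8), (0, 59, 71), (1, 45, 58), (3, 67, 25)]

/-- Entries. -/
def alphaEnt21 : List (ℕ × ℕ × ℕ) := [(0, 82, 46), (0, 51, 32), (3, 12, 38), (1, 59, 43), (2, 10, 25), (0, 33, 51), (0, 93, 47), (1, 37, 41), (3, 19, 61), (1, 82, 12), (3, 7, 25), (0, 89, 51), (3, 47, 59), (0, 36, 25), (2, 64, 57), (2, 58, 2), (2, 15, 24), (1, 64, 55), (2, 64, 10), (2, 3, 12), (2, 59, 44), (3, 16, 17), (3, 65, 59), (3, 16, 7), (3, 54, 71), (0, 64, 63), (0, 19, 5), (3, 57, 18), (3, 51, 23), (1, 21, 40), (3, 70, 36), (3, 78, 13), (3, 79, 12), (3, 27, 15), (1, 74, 43), (1, 52, 25), (1, 26, 36), (0, 91, 7), (1, 75, 39), (0, 67, 53), (1, 16, 53), (1, 30, 25), (3, 47, 26), (2, 11, 69), (1, 70, 8), (2, 64, 33), (2, 10,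 34), (2, 60, 34), (0, 31, 18), (3, 91, 0), (3, 64, 27), (2, 37, 60), (1, 44, 27), (1, 2, 37), (2, 59, 63), (0, 76, 21), (2, 79, 9), (3, 85, 53), (0, 65, 17), (0, 77, 59), (1, 34, 41), (0, 45, 69), (1, 50, 13), (1, 66, 65), (1, 48, 32), (0, 25, 3), (1, 74, 0), (3, 73, 13), (0, 62, 44), (3, 63, 1), (1, 54, 23), (2, 32, 34), (0, 29, 30), (2, 62, 10), (2, 85, 10), (3, 1, 16), (0, 93, 42), (1, 43, 60), (0, 56, 1), (0, 37, 5), (2, 9, 57), (3, 74, 23), (1, 23, 51), (0, 36, 20), (0, 81, 10), (2, 90, 55), (3, 19, 67), (2, 33, 31), (3, 35, 42), (1, 82, 39), (3, 72, 53), (1, 67, 27), (0, 53, 40), (3, 54, 18), (1, 70, 52), (0, 45, 45), (1, 66, 7), (1, 77, 37), (1, 66, 50), (1, 40, 39), (1, 83, 58), (2, 55, 9), (2, 27, 2), (0, 49, 35), (2, 40, 43), (0, 78, 3), (2, 9, 20), (1, 24, 18), (0, 94, 20), (3, 67, 5), (3, 45, 68), (1, 34, 2), (3, 8, 63), (1,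 93, 2), (2, 81, 55), (3, 92, 33), (1, 64, 60), (1, 89, 21), (1, 42, 50), (2, 21, 50), (0, 11, 15), (1, 85, 45), (1, 73, 64), (2, 42, 1), (2, 75, 50), (0, 68, 31), (1, 45, 11), (0, 45, 30), (1, 3, 57), (1, 90, 26), (2, 63, 47), (1, 2, 14), (0, 71, 52), (2, 65, 61), (2, 87, 52), (2, 7, 46), (3, 38, 3), (2, 94, 27), (3, 9, 8), (3, 27, 31), (3, 71, 22), (3, 91, 65), (2, 49, 29), (3, 40, 35), (1, 78, 22), (0, 24, 38), (0, 75, 12), (1, 21, 14), (3, 84, 22), (3, 75, 1), (1, 24, 54), (0, 2, 6), (3, 86, 23), (0, 53, 34), (0, 68, 47), (0, 93, 30), (3, 43, 54), (2, 18, 64), (1, 55, 67), (3, 46, 33), (1, 93, 32), (1, 69, 19), (0, 58, 28), (2, 46, 38), (3, 19, 59), (3, 27, 11), (3, 29, 39), (2, 34, 5), (3, 71, 33), (2, 73, 1), (0, 16, 20), (2, 56, 26), (0, 67, 31), (0, 69, 34), (3, 78, 21), (3, 40, 51), (2, 36, 52), (2, 1, 6), (3, 62, 42), (2, 40,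 19), (0, 57, 64), (0, 51, 55), (3, 82, 15), (2, 50, 31), (3, 71, 58), (2, 49, 17), (0, 8, 60), (1, 43, 27), (0, 29, 66), (2, 61, 43), (2, 66, 47), (0, 94, 14), (2, 11, 52), (2, 61, 25), (2, 49, 57), (3, 2, 15), (1, 68, 25), (0, 11, 37), (1, 78, 15), (0, 61, 29), (0, 56, 67), (2, 24, 25), (0, 43, 36), (2, 21, 22), (1, 36, 18), (1, 10, 67), (0, 27, 3), (3, 39, 69), (3, 32, 43), (0, 71, 22), (3, 51, 40), (1, 93, 45), (2, 26, 8), (0, 40, 63), (1, 51, 65), (3, 82, 51), (1, 90, 46), (3, 18, 71), (0, 45, 46), (0, 8, 21), (1, 64, 0), (1, 63, 64), (0, 71, 58), (1, 82, 1), (3, 84, 17), (0, 23, 50), (2, 42, 66), (2, 12, 40), (1, 57, 62), (2, 75, 2), (0, 34, 35), (1, 29, 23), (2, 19, 3), (1, 47, 11), (3, 37, 41), (0, 52, 31), (3, 62, 31), (3, 34, 28), (0, 66, 35), (3, 15, 24), (3, 8, 35), (2, 30, 30), (0, 77, 6), (0, 74, 61), (2, 44, 66), (3, 94,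 66), (2, 38, 7), (1, 80, 2), (1, 19, 20), (2, 22, 31), (2, 13, 56), (1, 8, 52), (0, 84, 5), (0, 13, 29), (1, 51, 11), (3, 15, 31), (2, 43, 70), (3, 27, 59), (1, 32, 9), (3, 27, 20), (0, 81, 15), (2, 91, 54), (3, 23, 47), (0, 65, 16), (0, 60, 13), (0, 3, 62), (1, 12, 67), (2, 30, 59), (1, 12, 61), (2, 76, 32), (1, 71, 1), (1, 55, 58), (0, 10, 48), (2, 31, 55), (2, 94, 48), (0, 76, 36), (2, 60, 22), (1, 68, 32), (0, 59, 54), (3, 77, 26), (1, 60, 68), (3, 10, 22), (1, 4, 33), (3, 76, 9), (2, 68, 67), (0, 75, 18), (1, 27, 6), (3, 78, 12), (0, 44, 6), (3, 9, 46), (3, 81, 68), (0, 4, 29), (2, 90, 53), (2, 76, 14), (3, 68, 8), (0, 81, 42), (3, 90, 64), (2, 50, 52), (1, 32, 12), (1, 1, 17), (1, 93, 46), (0, 19, 60), (2, 9, 14), (2, 26, 38), (0, 19, 17), (3, 29, 45), (0, 85, 43), (0, 32, 33), (0, 38, 71), (3, 26, 29), (0, 50, 43), (1, 17, 7),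 (2, 77, 7), (3, 93, 41), (1, 24, 56), (1, 51, 21), (1, 34, 9), (0, 29, 71), (0, 62, 6), (1, 42, 14), (0, 36, 68), (2, 12, 37), (0, 10, 15), (2, 1, 27), (2, 69, 35), (3, 30, 43), (1, 11, 0), (2, 26, 7), (1, 75, 15), (3, 2, 32), (2, 72, 45), (1, 66, 23), (2, 57, 64), (3, 67, 20), (2, 89, 54), (1, 69, 47), (1, 10, 42), (2, 16, 54), (3, 19, 41), (1, 71, 8), (0, 50, 31), (1, 6, 20), (3, 49, 57), (0, 74, 9), (1, 67, 1), (1, 94, 14), (3, 43, 27), (1, 82, 6), (2, 31, 62), (2, 2, 51), (0, 33, 46), (2, 80, 63), (0, 10, 67), (0, 6, 49), (0, 78, 15), (0, 13, 1), (0, 55, 39), (1, 27, 55), (2, 19, 21), (1, 49, 7), (1, 46, 51), (0, 21, 49), (0, 93, 32), (2, 23, 35), (2, 69, 8), (2, 50, 47), (3, 7, 13), (3, 16, 42), (2, 13, 15), (0, 27, 29), (2, 64, 71), (1, 61, 21), (0, 2, 68), (0, 56, 56), (3, 26, 23), (0, 2, 38), (0, 54, 0), (2, 41, 14), (1, 10, 12),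 (3, 34, 21), (2, 87, 10), (0, 44, 50), (3, 3, 37), (3, 93, 10), (2, 61, 10), (3, 65, 19), (2, 3, 52), (3, 9, 11), (3, 57, 6), (3, 4, 28), (3, 18, 13), (0, 37, 71), (3, 68, 12), (2, 26, 29), (2, 69, 62), (2, 14, 27), (1, 60, 12), (1, 38, 71), (2, 92, 57), (2, 40, 29)]

/-- Entries. -/
def alphaEnt22 : List (ℕ × ℕ × ℕ) := [(2, 81, 44), (0, 24, 56), (1, 34, 37), (3, 88, 1), (2, 95, 7), (3, 81, 53), (2, 33, 9), (0, 92, 41), (0, 84, 22), (2, 62, 27), (3, 21, 61), (0, 18, 38), (3, 31, 21), (3, 13, 48), (2, 60, 24), (0, 53, 35), (0, 23, 10), (2, 7, 22), (3, 22, 28), (2, 87, 16), (1, 16, 10), (0, 74, 42), (0, 27, 24), (2, 21, 26), (0, 69, 35), (2, 8, 17), (0, 3, 37), (3, 24, 65), (3, 63, 46), (0, 65, 38), (1, 45, 13), (3, 43, 52), (2, 9, 51), (2, 94, 7), (1, 22, 26), (1, 46, 25), (3, 30, 36), (0, 19, 50), (2, 7, 55), (3, 74, 21), (2, 72, 27),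 (2, 52, 16), (0, 16, 54), (0, 11, 60), (3, 43, 14), (1, 37, 17), (3, 11, 4), (1, 67, 41), (1, 94, 6), (1, 9, 57), (1, 14, 65), (0, 86, 18), (1, 20, 25), (3, 63, 53), (1, 5, 34), (1, 33, 46), (0, 80, 63), (3, 35, 64), (2, 3, 35), (3, 81, 22), (0, 52, 23), (0, 56, 47), (3, 16, 26), (3, 48, 68), (1, 29, 68), (1, 75, 48), (0, 19, 16), (2, 30, 67), (0, 73, 58), (3, 7, 26), (1, 57, 70), (2, 38, 48), (0, 74, 8), (3, 1, 46), (3, 23, 24), (3, 18, 54), (3, 61, 35), (1, 31, 24), (0, 36, 10), (0, 26, 54), (1, 59, 25), (0, 24, 44), (1, 31, 9), (3, 92, 2), (3, 3, 19), (0, 54, 41), (3, 58, 71), (3, 49, 1), (1, 51, 40), (0, 93, 66), (0, 72, 39), (3, 74, 41), (1, 35, 34), (3, 81, 59), (0, 8, 63), (0, 33, 25), (2, 59, 7), (2, 32, 24), (1, 38, 7), (1, 90, 30), (2, 47, 21), (0, 35, 69), (0, 62, 17), (2, 33, 3), (2, 92, 62), (0, 9, 19), (1, 26, 61), (0, 57,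 62), (3, 70, 68), (0, 82, 17), (1, 49, 60), (3, 79, 28), (0, 67, 56), (3, 3, 1), (1, 89, 7), (0, 46, 64), (3, 55, 63), (0, 6, 19), (3, 23, 30), (1, 81, 27), (1, 62, 30), (2, 51, 7), (0, 7, 57), (2, 30, 51), (1, 86, 0), (1, 86, 6), (2, 3, 0), (2, 50, 71), (3, 74, 63), (1, 47, 29), (3, 2, 45), (2, 49, 67), (3, 44, 64), (3, 45, 56), (3, 77, 39), (2, 54, 42), (2, 56, 0), (2, 69, 43), (0, 24, 1), (3, 89, 49), (1, 48, 17), (1, 40, 9), (0, 89, 22), (3, 14, 13), (1, 45, 15), (1, 40, 19), (3, 1, 60), (0, 9, 37), (1, 33, 17), (1, 4, 36), (2, 12, 29), (3, 3, 51), (3, 14, 21), (1, 49, 52), (3, 14, 69), (1, 92, 18), (1, 5, 7), (1, 30, 23), (2, 90, 33), (1, 12, 19), (2, 42, 38), (2, 11, 36), (2, 8, 26), (3, 51, 32), (2, 57, 0), (2, 81, 66), (3, 74, 27), (0, 42, 66), (2, 82, 12), (0, 90, 17), (0, 92, 3), (2, 94, 37), (1, 13, 41), (1, 62, 11), (3, 61,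 47), (3, 26, 8), (2, 81, 68), (1, 80, 66), (2, 4, 24), (2, 31, 54), (1, 80, 21), (1, 14, 34), (2, 44, 21), (2, 48, 33), (1, 81, 56), (0, 73, 68), (1, 92, 46), (1, 30, 6), (3, 64, 32), (3, 34, 2), (3, 71, 15), (1, 50, 48), (2, 3, 61), (0, 19, 6), (1, 74, 40), (0, 83, 49), (1, 46, 2), (1, 6, 50), (2, 47, 27), (2, 2, 62), (0, 47, 49), (1, 19, 55), (1, 9, 32), (3, 31, 26), (3, 16, 0), (2, 75, 9), (0, 28, 12), (3, 46, 54), (3, 87, 52), (3, 27, 1), (1, 45, 48), (0, 65, 40), (0, 71, 15), (2, 9, 36), (1, 56, 0), (1, 30, 48), (2, 68, 61), (1, 26, 62), (2, 45, 7), (2, 80, 21), (3, 5, 43), (2, 72, 71), (3, 93, 21), (2, 2, 23), (1, 66, 56), (2, 59, 69), (3, 54, 68), (3, 75, 51), (1, 52, 36), (2, 46, 3), (0, 40, 50), (0, 46, 53), (1, 44, 19), (1, 7, 54), (3, 72, 52), (0, 62, 16), (3, 62, 33), (0, 30, 68), (0, 3, 32), (2, 23, 67), (3, 40, 69), (3,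 40, 18), (1, 94, 22), (3, 72, 11), (0, 65, 5), (0, 68, 22), (2, 1, 42), (1, 33, 11), (1, 47, 13), (1, 54, 9), (3, 76, 31), (0, 90, 35), (0, 16, 5), (1, 78, 16), (3, 72, 48), (2, 45, 30), (2, 70, 44), (3, 43, 10), (1, 37, 30), (1, 85, 10), (2, 80, 70), (0, 88, 1), (1, 37, 35), (3, 2, 57), (1, 21, 41), (2, 94, 20), (3, 45, 3), (1, 39, 0), (0, 14, 10), (2, 14, 5), (0, 57, 53), (3, 9, 44), (0, 78, 1), (2, 89, 60), (0, 62, 8), (2, 4, 1), (1, 6, 64), (3, 23, 60), (0, 51, 6), (0, 81, 1), (3, 21, 48), (1, 13, 31), (2, 53, 5), (1, 60, 39), (2, 6, 36), (1, 40, 41), (2, 57, 18), (2, 65, 4), (3, 29, 60), (0, 18, 17), (3, 50, 66), (0, 46, 17), (1, 93, 66), (3, 4, 70), (3, 74, 36), (0, 44, 9), (0, 38, 44), (0, 62, 61), (2, 77, 25), (2, 28, 19), (3, 10, 23), (3, 72, 43), (1, 92, 67), (0, 24, 39), (1, 58, 58), (1, 85, 56), (1, 10, 39), (3, 84, 31), (2,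 15, 32), (1, 19, 43), (0, 80, 34), (0, 51, 37), (1, 58, 37), (0, 58, 15), (0, 23, 16), (2, 87, 34), (0, 54, 50), (0, 38, 45), (1, 82, 17), (3, 10, 1), (1, 11, 68), (3, 12, 59), (0, 1, 4), (1, 70, 4), (2, 61, 59), (3, 8, 66), (3, 9, 31), (3, 62, 4), (3, 51, 68), (3, 18, 43), (2, 72, 23), (0, 44, 27), (0, 11, 29), (2, 71, 66), (3, 5, 28), (2, 44, 55), (0, 83, 18), (2, 32, 23), (3, 82, 62), (3, 73, 60), (3, 16, 53), (3, 90, 61), (2, 91, 35), (2, 83, 30), (2, 92, 65), (0, 23, 51), (0, 43, 60), (3, 70, 70), (1, 56, 1), (1, 52, 27), (3, 3, 22), (0, 29, 21), (1, 59, 65), (0, 51, 13), (1, 60, 57), (2, 44, 37), (3, 32, 10), (0, 66, 4), (1, 26, 57), (3, 73, 42), (0, 60, 32), (2, 13, 59), (3, 54, 19), (0, 9, 58), (3, 91, 40), (1, 75, 57), (3, 69, 65), (3, 36, 14), (2, 42, 36), (0, 34, 70), (0, 77, 38), (2, 75, 44), (0, 56, 63), (3, 33, 25), (0,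 83, 33), (0, 8, 47), (2, 82, 20), (1, 2, 23), (1, 65, 59), (0, 26, 60), (1, 16, 17), (3, 82, 43), (0, 13, 24), (2, 45, 44), (3, 67, 42), (3, 54, 57), (0, 60, 26), (1, 57, 16), (1, 24, 35), (1, 80, 31), (1, 58, 25), (3, 66, 6), (1, 43, 1), (0, 62, 9), (0, 20, 3), (1, 32, 70), (3, 37, 25), (0, 37, 41), (0, 67, 71), (0, 37, 34)]

/-- Entries. -/
def alphaEnt23 : List (ℕ × ℕ × ℕ) := [(0, 21, 66), (0, 64, 5), (2, 19, 61), (1, 39, 59), (1, 33, 51), (2, 69, 63), (1, 11, 63), (0, 70, 8), (2, 40, 39), (0, 18, 44), (1, 52, 3), (0, 21, 58), (0, 37, 6), (2, 36, 49), (3, 61, 63), (2, 19, 40), (2, 66, 69), (1, 77, 34), (1, 56, 61), (2, 90, 62), (0, 64, 43), (3, 87, 7), (1, 34, 69), (3, 46, 0), (3, 7, 68), (0, 46, 67), (2, 24, 6), (3, 49, 4), (2, 32, 42), (3, 18, 48), (1, 11, 70), (3, 20, 26), (1, 65, 54), (0, 65, 65), (0, 68, 6), (0, 19, 63), (2, 34,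 13), (2, 16, 36), (2, 14, 34), (0, 70, 51), (1, 87, 8), (1, 36, 26), (0, 64, 8), (3, 91, 37), (1, 54, 49), (2, 42, 23), (1, 2, 55), (3, 33, 55), (3, 14, 62), (2, 77, 27), (0, 14, 13), (0, 92, 23), (2, 8, 64), (0, 64, 38), (0, 69, 60), (2, 35, 51), (0, 23, 31), (0, 24, 29), (1, 12, 3), (2, 67, 43), (2, 19, 49), (2, 39, 39), (2, 45, 45), (0, 55, 30), (0, 57, 49), (0, 66, 7), (0, 84, 21), (1, 7, 35), (2, 82, 4), (0, 29, 45), (0, 50, 17), (2, 54, 18), (2, 33, 11), (0, 7, 28), (3, 83, 38), (0, 52, 19), (2, 95, 13), (1, 64, 1), (0, 50, 2), (2, 60, 5), (2, 67, 29), (3, 71, 3), (2, 75, 66), (0, 21, 11), (0, 48, 63), (2, 10, 38), (3, 36, 37), (1, 66, 66), (1, 55, 48), (2, 5, 26), (2, 93, 42), (3, 12, 64), (1, 68, 40), (0, 11, 56), (1, 89, 2), (0, 87, 20), (3, 12, 32), (2, 59, 42), (1, 41, 7), (0, 45, 11), (1, 23, 53), (1, 32, 13), (1, 8, 49),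 (0, 35, 27), (1, 39, 8), (2, 32, 67), (3, 63, 54), (1, 78, 5), (1, 58, 29), (1, 22, 14), (2, 26, 28), (1, 1, 58), (1, 31, 37), (1, 11, 67), (3, 68, 60), (0, 6, 28), (0, 59, 11), (1, 90, 18), (2, 16, 25), (3, 22, 7), (2, 92, 61), (0, 64, 47), (1, 40, 7), (0, 50, 26), (3, 40, 27), (1, 47, 12), (1, 50, 53), (2, 60, 20), (1, 89, 36), (0, 94, 27), (3, 19, 11), (2, 24, 21), (1, 8, 61), (3, 54, 66), (1, 68, 41), (3, 4, 65), (0, 92, 24), (2, 58, 64), (3, 40, 30), (3, 87, 66), (0, 44, 44), (3, 10, 16), (1, 12, 20), (1, 85, 68), (0, 18, 5), (2, 62, 60), (0, 31, 7), (0, 15, 31), (3, 13, 53), (1, 54, 24), (0, 26, 40), (3, 75, 58), (3, 92, 10), (1, 51, 71), (0, 19, 65), (2, 70, 30), (2, 37, 13), (3, 24, 25), (2, 39, 69), (1, 57, 39), (3, 11, 51), (3, 92, 52), (3, 38, 59), (1, 12, 69), (1, 23, 26), (3, 1, 45), (1, 74, 49), (2, 10, 0), (0, 18, 68),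 (2, 2, 15), (0, 31, 63), (0, 85, 54), (3, 9, 15), (3, 2, 13), (3, 35, 5), (3, 70, 25), (2, 13, 61), (3, 26, 9), (3, 1, 47), (0, 13, 42), (1, 73, 28), (2, 81, 4), (3, 39, 25), (2, 2, 40), (2, 14, 54), (2, 56, 65), (2, 35, 46), (1, 61, 2), (2, 21, 34), (1, 23, 50), (1, 1, 68), (0, 1, 13), (2, 71, 37), (3, 90, 69), (0, 63, 35), (0, 8, 11), (3, 77, 0), (3, 73, 10), (1, 63, 25), (0, 7, 70), (0, 60, 8), (0, 55, 10), (2, 89, 28), (2, 10, 29), (3, 7, 19), (0, 48, 25), (1, 13, 12), (1, 44, 4), (1, 57, 7), (1, 48, 59), (3, 82, 20), (3, 21, 29), (3, 50, 61), (2, 75, 28), (3, 1, 0), (3, 42, 36), (2, 39, 67), (1, 38, 26), (0, 61, 5), (2, 69, 27), (2, 76, 4), (3, 35, 14), (3, 61, 22), (3, 11, 39), (3, 53, 19), (2, 90, 49), (3, 18, 46), (2, 37, 41), (3, 62, 56), (2, 2, 34), (0, 2, 3), (0, 5, 46), (1, 16, 58), (2, 5, 18), (1, 89, 38), (2, 83, 13), (3,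 89, 17), (1, 94, 35), (0, 89, 65), (1, 75, 69), (1, 61, 33), (1, 65, 67), (0, 14, 23), (3, 32, 71), (1, 68, 33), (0, 47, 16), (2, 24, 16), (3, 23, 43), (0, 48, 28), (3, 64, 1), (0, 33, 50), (3, 55, 4), (0, 55, 35), (3, 18, 70), (0, 46, 18), (3, 76, 30), (2, 35, 0), (1, 15, 7), (1, 34, 15), (1, 89, 32), (1, 68, 6), (0, 44, 64), (1, 93, 35), (2, 7, 8), (1, 35, 62), (1, 2, 65), (1, 85, 69), (0, 67, 64), (3, 60, 33), (3, 58, 63), (2, 33, 36), (0, 31, 46), (1, 38, 23), (3, 66, 13), (1, 70, 44), (0, 26, 56), (3, 40, 64), (0, 70, 16), (0, 36, 9), (3, 6, 21), (2, 57, 69), (2, 22, 30), (0, 60, 58), (0, 21, 65), (1, 68, 1), (1, 91, 66), (2, 46, 9), (2, 71, 27), (0, 93, 16), (1, 37, 18), (3, 59, 41), (0, 18, 8), (2, 68, 4), (0, 54, 30), (1, 87, 25), (3, 9, 55), (1, 91, 39), (0, 70, 25), (2, 39, 13), (3, 49, 44), (1, 14, 57), (0, 81, 57), (0, 48,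 6), (2, 72, 22), (3, 22, 35), (3, 65, 27), (1, 38, 22), (0, 70, 0), (0, 84, 4), (2, 64, 16), (3, 20, 31), (0, 89, 67), (3, 1, 34), (3, 22, 13), (1, 62, 6), (3, 35, 31), (0, 87, 32), (2, 65, 20), (1, 49, 19), (0, 93, 50), (1, 10, 14), (0, 28, 2), (2, 53, 13), (1, 81, 12), (2, 64, 13), (2, 14, 36), (1, 40, 66), (1, 79, 17), (1, 16, 48), (3, 82, 70), (2, 77, 64), (0, 52, 8), (3, 48, 21), (2, 74, 18), (0, 62, 32), (0, 52, 29), (1, 18, 37), (1, 14, 53), (3, 37, 22), (3, 50, 59), (0, 73, 28), (0, 65, 23), (0, 55, 40), (2, 91, 68), (0, 47, 51), (2, 23, 42), (0, 89, 30), (1, 75, 47), (3, 86, 13), (0, 26, 16), (2, 47, 62), (2, 12, 63), (0, 80, 61), (1, 62, 54), (3, 77, 58), (0, 42, 59), (3, 48, 0), (2, 13, 7), (0, 31, 66), (3, 61, 27), (0, 66, 14), (0, 6, 35), (1, 64, 65), (2, 92, 68), (3, 56, 29), (2, 39, 32), (2, 90, 6), (3, 37, 12), (2, 62,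 58), (3, 40, 62), (3, 33, 9), (2, 91, 13), (1, 89, 34), (2, 5, 10), (1, 18, 42), (3, 56, 41), (1, 53, 27), (3, 42, 44), (2, 32, 37), (2, 48, 10), (3, 3, 52), (2, 83, 55), (0, 53, 25), (1, 80, 58), (1, 5, 33), (3, 14, 64), (3, 28, 14), (0, 8, 50), (0, 19, 42), (0, 3, 17), (1, 33, 37), (2, 62, 34), (0, 47, 14), (3, 62, 45), (2, 19, 27), (2, 33, 12), (3, 14, 53), (1, 11, 35), (1, 1, 24), (1, 90, 10)]

/-- Entries. -/
def alphaEnt24 : List (ℕ × ℕ × ℕ) := [(1, 31, 35), (1, 82, 71), (3, 43, 2), (2, 89, 13), (1, 82, 37), (0, 14, 37), (3, 64, 24), (1, 33, 23), (3, 50, 12), (0, 73, 56), (3, 34, 3), (2, 31, 69), (1, 16, 38), (0, 16, 46), (2, 1, 34), (3, 45, 0), (2, 31, 70), (2, 93, 69), (2, 10, 17), (3, 9, 70), (2, 16, 60), (3, 60, 30), (0, 34, 59), (2, 1, 54), (1, 84, 29), (3, 37, 27), (3, 84, 8), (0, 67, 24), (1, 70, 37), (2, 89, 26), (3, 47,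 41), (0, 5, 8), (3, 12, 21), (2, 64, 54), (3, 63, 59), (0, 31, 9), (2, 53, 61), (3, 65, 58), (1, 59, 70), (1, 47, 51), (0, 74, 17), (0, 44, 16), (0, 8, 29), (3, 62, 54), (3, 83, 56), (2, 8, 19), (0, 54, 53), (2, 58, 59), (3, 11, 21), (1, 15, 11), (3, 5, 13), (1, 3, 56), (0, 68, 4), (0, 47, 15), (2, 7, 26), (3, 54, 51), (1, 40, 59), (1, 47, 2), (0, 45, 8), (0, 43, 10), (3, 45, 35), (0, 42, 25), (3, 3, 43), (0, 77, 13), (0, 32, 25), (0, 90, 68), (2, 16, 61), (2, 34, 29), (0, 45, 34), (2, 50, 48), (2, 5, 34), (3, 54, 22), (2, 72, 2), (2, 81, 14), (0, 14, 54), (1, 61, 54), (1, 38, 25), (2, 7, 40), (0, 26, 61), (0, 30, 70), (0, 91, 40), (2, 58, 63), (2, 62, 17), (2, 63, 35), (3, 66, 9), (1, 1, 13), (2, 46, 61), (1, 18, 67), (2, 15, 6), (1, 43, 61), (2, 91, 31), (0, 43, 28), (0, 83, 26), (2, 82, 8), (3, 3, 54), (3, 11, 65), (3, 5, 24), (3,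 7, 8), (1, 94, 40), (0, 39, 71), (1, 39, 11), (3, 14, 41), (1, 49, 12), (3, 44, 11), (0, 2, 9), (2, 46, 18), (0, 70, 45), (2, 85, 68), (3, 21, 54), (0, 30, 51), (0, 64, 25), (0, 50, 62), (3, 15, 22), (1, 51, 62), (3, 66, 24), (0, 27, 14), (1, 16, 34), (3, 6, 62), (3, 76, 4), (2, 66, 50), (1, 76, 7), (0, 91, 17), (2, 67, 27), (1, 7, 53), (0, 85, 50), (1, 63, 8), (1, 65, 46), (3, 29, 2), (0, 61, 24), (0, 75, 69), (3, 94, 42), (3, 3, 27), (3, 83, 14), (1, 85, 20), (1, 18, 66), (0, 6, 11), (1, 52, 18), (1, 31, 19), (3, 3, 53), (0, 68, 60), (3, 52, 13), (2, 15, 0), (1, 57, 30), (0, 16, 7), (3, 11, 61), (3, 33, 45), (2, 92, 35), (1, 81, 64), (0, 43, 14), (3, 87, 3), (3, 87, 28), (3, 80, 66), (2, 45, 10), (1, 18, 51), (0, 8, 51), (3, 5, 16), (3, 21, 62), (1, 53, 8), (3, 73, 38), (3, 29, 26), (0, 85, 27), (3, 57, 36), (0, 3, 45), (3, 65, 62),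 (1, 69, 54), (3, 56, 65), (3, 37, 44), (0, 42, 38), (1, 21, 43), (1, 31, 46), (0, 46, 69), (1, 57, 52), (0, 94, 57), (0, 66, 24), (2, 83, 49), (3, 44, 40), (2, 11, 57), (0, 12, 31), (0, 8, 49), (1, 63, 36), (1, 3, 31), (3, 32, 58), (0, 60, 31), (3, 74, 58), (3, 26, 27), (2, 66, 52), (2, 9, 34), (0, 4, 71), (0, 75, 6), (1, 64, 24), (1, 48, 7), (3, 5, 10), (0, 1, 39), (1, 9, 61), (3, 55, 34), (1, 37, 12), (3, 71, 61), (0, 58, 34), (0, 33, 45), (2, 54, 47), (2, 69, 4), (2, 75, 58), (1, 66, 39), (3, 51, 71), (2, 13, 38), (3, 82, 65), (3, 6, 56), (1, 85, 29), (2, 57, 41), (1, 41, 12), (2, 6, 18), (2, 63, 66), (3, 10, 51), (1, 24, 61), (2, 62, 43), (2, 23, 18), (0, 6, 8), (1, 80, 71), (2, 61, 21), (0, 47, 22), (2, 5, 13), (1, 11, 55), (2, 93, 38), (1, 85, 48), (0, 81, 26), (2, 40, 56), (0, 19, 39), (2, 49, 27), (3, 47, 2), (0, 49, 38), (1,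 47, 21), (2, 38, 55), (1, 86, 10), (0, 39, 26), (3, 60, 56), (2, 35, 50), (3, 14, 33), (0, 46, 0), (3, 5, 6), (3, 40, 37), (1, 32, 68), (2, 93, 20), (1, 12, 68), (2, 70, 3), (0, 70, 31), (0, 75, 67), (2, 49, 45), (3, 78, 29), (1, 61, 41), (0, 8, 69), (2, 85, 31), (3, 24, 50), (1, 74, 53), (3, 74, 69), (0, 47, 13), (3, 11, 31), (2, 27, 61), (2, 1, 47), (0, 43, 13), (3, 5, 49), (1, 43, 51), (2, 54, 57), (0, 68, 23), (1, 62, 9), (1, 13, 40), (3, 86, 2), (1, 95, 8), (3, 66, 12), (0, 67, 11), (2, 55, 30), (1, 57, 49), (1, 64, 5), (1, 84, 2), (2, 66, 57), (2, 92, 60), (0, 70, 20), (2, 52, 19), (3, 74, 17), (3, 49, 33), (3, 77, 65), (0, 56, 54), (0, 37, 29), (2, 45, 29), (0, 58, 37), (2, 37, 49), (3, 12, 10), (2, 69, 60), (1, 80, 56), (3, 82, 3), (2, 24, 35), (2, 68, 41), (0, 61, 42), (1, 14, 58), (0, 21, 16), (2, 69, 56), (0, 74, 30), (3, 16,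 36), (2, 23, 27), (1, 22, 31), (2, 67, 67), (1, 40, 57), (2, 87, 57), (2, 75, 19), (1, 94, 68), (0, 71, 71), (3, 2, 55), (1, 78, 28), (0, 75, 55), (0, 39, 58), (1, 10, 68), (2, 19, 71), (3, 24, 6), (0, 60, 53), (1, 43, 34), (1, 35, 35), (3, 52, 31), (1, 36, 51), (1, 54, 34), (1, 57, 36), (2, 57, 46), (0, 23, 24), (3, 43, 42), (1, 70, 57), (1, 59, 16), (0, 33, 6), (1, 30, 30), (1, 92, 59), (0, 62, 31), (1, 93, 64), (3, 61, 14), (0, 27, 53), (0, 12, 56), (3, 37, 51), (1, 91, 17), (2, 82, 44), (2, 60, 65), (1, 34, 20), (1, 74, 71), (3, 64, 46), (3, 32, 22), (0, 12, 12), (0, 67, 5), (0, 67, 29), (1, 75, 10), (3, 66, 29), (3, 81, 37), (1, 65, 26), (3, 69, 58), (0, 81, 33), (0, 62, 35), (2, 9, 43), (0, 72, 19), (1, 55, 17), (2, 84, 22), (1, 75, 1), (2, 78, 2), (3, 4, 3), (2, 52, 15), (1, 83, 2), (2, 91, 65), (2, 66, 21), (2, 62, 59), (0, 24,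 31), (1, 43, 66), (3, 76, 22), (1, 19, 61), (3, 35, 51), (0, 4, 68), (0, 39, 21), (3, 51, 70), (2, 92, 23), (3, 30, 34), (3, 45, 30), (1, 57, 48), (3, 10, 49), (0, 11, 69), (3, 42, 1), (2, 85, 5), (1, 74, 21), (0, 93, 2), (3, 13, 59), (2, 1, 12), (3, 58, 13), (3, 25, 1), (3, 44, 37), (1, 93, 62), (1, 16, 69), (3, 95, 13), (3, 51, 56), (1, 70, 56), (3, 55, 9), (1, 49, 35), (1, 70, 24), (0, 31, 65), (2, 24, 58), (0, 65, 49), (3, 79, 33), (2, 47, 38), (0, 68, 70), (3, 61, 61)]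

/-- Entries. -/
def alphaEnt25 : List (ℕ × ℕ × ℕ) := [(0, 68, 25), (3, 32, 69), (1, 13, 46), (2, 56, 20), (2, 13, 24), (1, 66, 20), (2, 26, 60), (0, 54, 35), (0, 83, 34), (3, 46, 19), (3, 39, 31), (1, 38, 67), (1, 6, 13), (3, 10, 2), (2, 85, 53), (2, 89, 53), (0, 44, 26), (1, 21, 5), (1, 37, 4), (3, 37, 26), (3, 30, 58), (0, 23, 21), (3, 20, 18), (0, 53, 31), (0, 61, 10), (1, 59, 0), (1, 23, 16), (2, 44, 50), (0, 31, 15), (0, 36, 49), (0, 66, 54), (2, 30, 20), (3, 9, 35), (3, 40, 39), (0, 9, 57), (1, 50, 64), (0, 75, 13), (1, 11, 60), (1, 19, 67), (1, 6, 39), (1, 38, 24), (2, 43, 47), (0, 82, 58), (0, 72, 47), (0, 45, 61), (1, 6, 1), (0, 4, 6), (1, 14, 35), (3, 5, 41), (0, 59, 41), (0, 38, 0), (1, 31, 44), (0, 7, 54), (0, 58, 11), (3, 77, 57), (3, 85, 64), (3, 91, 51), (1, 5, 48), (2, 12, 11), (2, 53, 23), (1, 51, 28), (1, 5, 28), (1,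 74, 41), (1, 93, 48), (1, 24, 43), (2, 20, 27), (2, 67, 58), (2, 16, 53), (1, 26, 47), (1, 62, 34), (0, 64, 10), (2, 38, 38), (2, 23, 23), (2, 82, 16), (2, 5, 69), (3, 89, 7), (1, 42, 3), (0, 1, 8), (3, 60, 7), (0, 94, 24), (2, 89, 1), (1, 9, 49), (2, 12, 32), (1, 75, 11), (1, 92, 3), (1, 90, 17), (2, 70, 50), (2, 74, 36), (1, 61, 47), (1, 14, 60), (3, 34, 8), (1, 56, 43), (1, 73, 2), (1, 61, 18), (1, 78, 20), (1, 43, 71), (2, 18, 9), (3, 35, 2), (1, 21, 46), (0, 80, 7), (2, 77, 42), (0, 49, 14), (2, 58, 32), (1, 81, 1), (2, 45, 25), (0, 40, 7), (0, 51, 69), (3, 6, 68), (3, 80, 33), (2, 33, 16), (2, 92, 5), (1, 33, 2), (3, 77, 13), (1, 60, 47), (0, 24, 25), (2, 59, 20), (1, 3, 4), (3, 72, 63), (0, 40, 19), (3, 34, 4), (0, 92, 62), (0, 30, 60), (2, 36, 65), (0, 29, 27), (1, 39, 7), (2, 32, 13), (0, 25, 17), (3, 21, 20), (1, 66, 61), (0,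 90, 66), (1, 77, 41), (1, 44, 5), (0, 3, 36), (3, 18, 7), (0, 60, 45), (3, 87, 36), (1, 4, 64), (0, 87, 5), (3, 67, 21), (2, 16, 38), (3, 5, 37), (0, 18, 39), (3, 72, 71), (2, 93, 41), (0, 34, 15), (1, 60, 49), (0, 87, 27), (2, 46, 48), (2, 72, 52), (0, 46, 63), (2, 14, 26), (3, 43, 66), (2, 7, 20), (1, 87, 57), (2, 36, 54), (3, 83, 69), (3, 66, 56), (2, 50, 43), (0, 23, 32), (2, 79, 30), (0, 19, 3), (2, 40, 71), (2, 24, 11), (0, 51, 29), (2, 42, 39), (0, 31, 23), (1, 8, 35), (3, 8, 17), (1, 50, 7), (1, 22, 28), (0, 72, 15), (0, 37, 58), (1, 39, 70), (3, 33, 3), (3, 21, 60), (3, 72, 8), (2, 54, 38), (0, 77, 71), (2, 8, 20), (3, 7, 69), (0, 58, 57), (3, 50, 64), (2, 40, 70), (3, 75, 49), (2, 45, 27), (3, 30, 71), (3, 70, 12), (0, 26, 55), (2, 59, 67), (2, 61, 58), (0, 67, 62), (2, 13, 34), (1, 9, 1), (1, 91, 61), (2, 56, 45), (3, 28, 21),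 (3, 69, 62), (2, 21, 29), (3, 25, 0), (2, 45, 56), (0, 57, 11), (0, 67, 50), (2, 68, 40), (3, 71, 5), (2, 20, 23), (0, 76, 12), (0, 63, 37), (1, 16, 41), (2, 71, 44), (3, 19, 53), (2, 72, 65), (2, 71, 29), (2, 18, 40), (3, 87, 51), (0, 20, 2), (0, 29, 16), (0, 66, 30), (0, 23, 14), (3, 53, 26), (0, 11, 59), (0, 9, 42), (3, 74, 16), (1, 75, 8), (1, 86, 9), (2, 45, 18), (2, 67, 22), (0, 34, 14), (1, 10, 21), (3, 65, 7), (0, 73, 10), (0, 19, 69), (2, 85, 69), (2, 23, 1), (0, 87, 34), (2, 47, 40), (0, 36, 7), (0, 67, 20), (1, 12, 71), (1, 26, 54), (3, 72, 23), (0, 35, 33), (1, 75, 3), (3, 72, 15), (3, 70, 26), (1, 83, 7), (0, 30, 23), (3, 5, 70), (2, 37, 18), (3, 79, 15), (0, 89, 60), (3, 49, 39), (3, 69, 33), (0, 94, 46), (2, 74, 1), (1, 75, 70), (3, 74, 2), (2, 74, 34), (3, 60, 52), (1, 44, 67), (3, 57, 29), (3, 57, 51), (3, 36, 15), (1,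 80, 42), (0, 61, 36), (2, 54, 4), (0, 92, 67), (1, 93, 70), (3, 68, 3), (0, 65, 22), (3, 83, 40), (2, 31, 2), (0, 60, 57), (1, 36, 54), (1, 75, 5), (1, 89, 26), (0, 75, 17), (2, 9, 12), (3, 10, 43), (1, 39, 15), (2, 75, 47), (2, 54, 21), (2, 83, 67), (3, 87, 10), (2, 37, 55), (2, 54, 8), (2, 22, 1), (1, 19, 64), (1, 26, 48), (2, 58, 25), (3, 55, 33), (3, 58, 67), (2, 60, 27), (3, 44, 16), (1, 26, 51), (3, 57, 71), (0, 77, 67), (3, 4, 42), (3, 19, 26), (2, 11, 71), (3, 21, 25), (0, 60, 46), (1, 3, 44), (1, 41, 5), (2, 42, 67), (2, 72, 39), (2, 39, 62), (0, 53, 5), (3, 18, 65), (2, 89, 24), (3, 43, 71), (0, 1, 56), (2, 1, 32), (0, 23, 35), (3, 81, 32), (3, 35, 56), (0, 16, 51), (2, 40, 11), (0, 4, 33), (0, 3, 26), (0, 76, 5), (2, 61, 48), (0, 39, 40), (0, 65, 68), (2, 66, 70), (2, 62, 3), (3, 7, 51), (1, 9, 11), (1, 62, 5), (0, 68, 53),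 (3, 39, 24), (3, 74, 0), (2, 2, 65), (1, 6, 19), (3, 44, 58), (2, 42, 32), (1, 72, 27), (0, 34, 41), (3, 93, 70), (2, 80, 27), (1, 55, 37), (2, 82, 56), (1, 35, 24), (1, 54, 70), (3, 51, 1), (2, 55, 39), (2, 43, 43), (0, 72, 0), (3, 19, 48), (1, 63, 33), (2, 57, 45), (3, 9, 57), (0, 1, 38), (1, 41, 0), (3, 22, 0), (2, 15, 30), (0, 47, 11), (1, 56, 55), (3, 79, 7), (2, 26, 65), (3, 6, 30), (2, 59, 70), (2, 34, 58), (1, 60, 69), (0, 80, 68), (0, 19, 33), (0, 57, 0), (3, 8, 32), (3, 13, 23), (0, 55, 60), (0, 40, 55), (1, 66, 43), (2, 73, 20), (2, 65, 7), (1, 59, 4), (3, 31, 24), (0, 90, 10), (1, 47, 1), (3, 24, 0), (0, 59, 14), (3, 31, 9), (0, 46, 11), (0, 75, 16), (0, 72, 12), (2, 36, 48), (2, 50, 5), (3, 21, 3), (3, 35, 66), (0, 29, 68), (2, 34, 57), (2, 87, 17), (1, 45, 5), (2, 58, 70), (2, 65, 31), (2, 2, 22), (3, 51, 26), (3, 35, 53),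 (2, 71, 51), (0, 11, 19), (3, 79, 26), (3, 57, 38)]

/-- Entries. -/
def alphaEnt26 : List (ℕ × ℕ × ℕ) := [(1, 82, 15), (0, 38, 4), (2, 79, 19), (2, 61, 24), (1, 65, 16), (3, 18, 58), (3, 73, 11), (2, 26, 59), (1, 56, 28), (3, 77, 41), (2, 93, 17), (1, 53, 37), (0, 83, 31), (0, 84, 18), (0, 34, 61), (3, 65, 24), (3, 55, 31), (1, 84, 22), (3, 43, 18), (3, 56, 40), (1, 51, 15), (1, 36, 71), (2, 22, 23), (2, 19, 10), (3, 31, 62), (2, 43, 27), (2, 55, 11), (3, 94, 14), (2, 72, 67), (3, 4, 54), (1, 22, 30), (2, 55, 27), (1, 75, 27), (0, 42, 41), (1, 77, 2), (2, 64, 41), (3, 56, 27), (0, 18, 55), (1, 6, 63), (1, 75, 36), (3, 62, 37), (3, 31, 12), (0, 35, 26), (0, 44, 58), (0, 10, 47), (0, 23, 66), (0, 16, 1), (2, 83, 0), (0, 2, 27), (3, 58, 50), (0, 85, 57), (0, 80, 12), (3, 40, 19), (1, 34, 16), (2, 73, 22), (0, 59, 25), (0, 60, 71), (1, 29,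 69), (1, 8, 56), (1, 71, 58), (2, 4, 31), (3, 69, 15), (0, 30, 5), (0, 26, 2), (1, 93, 22), (1, 29, 44), (2, 2, 67), (1, 87, 37), (1, 72, 4), (0, 86, 23), (2, 56, 67), (1, 71, 22), (2, 83, 69), (1, 3, 54), (3, 27, 50), (1, 50, 22), (1, 58, 24), (3, 46, 55), (3, 58, 47), (0, 27, 15), (1, 44, 60), (0, 16, 41), (2, 81, 69), (3, 27, 2), (2, 1, 25), (0, 7, 45), (2, 67, 23), (0, 89, 63), (0, 27, 32), (1, 27, 52), (3, 13, 17), (2, 93, 57), (1, 81, 42), (3, 23, 49), (0, 32, 11), (3, 54, 1), (0, 26, 66), (1, 57, 47), (3, 36, 21), (2, 73, 34), (3, 43, 22), (0, 55, 57), (0, 18, 58), (1, 26, 21), (3, 59, 45), (0, 10, 39), (3, 40, 56), (3, 87, 20), (0, 10, 2), (2, 77, 45), (0, 14, 40), (1, 9, 26), (3, 82, 56), (1, 46, 61), (3, 58, 32), (3, 62, 50), (3, 40, 14), (2, 6, 71), (3, 32, 48), (1, 87, 33), (0, 35, 49), (1, 13, 2), (2, 23, 38), (1, 40, 63),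 (0, 32, 1), (1, 31, 6), (1, 2, 5), (3, 23, 32), (3, 73, 44), (3, 71, 47), (0, 42, 24), (0, 67, 58), (1, 70, 48), (0, 83, 29), (3, 39, 35), (3, 53, 54), (3, 64, 59), (2, 21, 70), (1, 45, 69), (2, 3, 10), (1, 31, 26), (2, 71, 58), (0, 16, 30), (3, 2, 48), (1, 13, 69), (1, 41, 16), (2, 11, 31), (2, 38, 35), (3, 85, 2), (1, 31, 18), (1, 47, 25), (3, 32, 66), (0, 14, 38), (3, 71, 54), (3, 59, 10), (3, 70, 50), (3, 47, 1), (2, 71, 28), (3, 51, 28), (0, 51, 61), (3, 38, 31), (2, 49, 7), (3, 43, 13), (2, 51, 48), (2, 49, 6), (3, 84, 5), (1, 31, 68), (0, 16, 53), (3, 18, 53), (3, 92, 41), (1, 34, 65), (3, 68, 42), (3, 67, 59), (0, 46, 33), (1, 9, 34), (3, 87, 29), (2, 71, 22), (2, 60, 15), (1, 80, 33), (3, 33, 16), (3, 29, 17), (3, 30, 37), (3, 6, 54), (3, 78, 11), (3, 56, 49), (2, 65, 56), (0, 69, 64), (2, 81, 15), (2, 93, 47), (0, 14, 35), (1,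 47, 58), (3, 20, 0), (1, 64, 52), (0, 78, 2), (0, 91, 21), (3, 62, 10), (0, 53, 70), (2, 94, 14), (3, 7, 61), (2, 49, 48), (0, 43, 27), (2, 13, 2), (2, 79, 10), (3, 75, 36), (1, 51, 63), (0, 24, 22), (0, 58, 42), (1, 37, 10), (2, 77, 29), (0, 38, 61), (1, 71, 56), (2, 85, 20), (0, 27, 55), (1, 83, 52), (3, 27, 60), (1, 42, 13), (3, 31, 31), (3, 66, 17), (1, 26, 23), (3, 70, 41), (2, 6, 47), (2, 89, 39), (2, 57, 52), (2, 72, 10), (1, 33, 54), (2, 57, 26), (2, 71, 33), (0, 80, 37), (3, 83, 44), (2, 93, 9), (0, 89, 54), (0, 30, 14), (3, 89, 4), (0, 46, 2), (0, 6, 50), (1, 12, 59), (1, 12, 11), (0, 73, 50), (2, 37, 68), (0, 57, 2), (2, 85, 40), (1, 37, 38), (0, 54, 48), (1, 87, 41), (3, 40, 0), (1, 3, 24), (0, 77, 35), (2, 21, 64), (1, 9, 13), (3, 18, 64), (0, 27, 17), (3, 37, 42), (0, 16, 69), (3, 7, 3), (2, 92, 8), (0, 52, 20), (0, 2, 41),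 (0, 59, 44), (3, 5, 32), (0, 82, 49), (0, 87, 71), (2, 85, 60), (0, 13, 11), (3, 94, 57), (2, 87, 67), (1, 86, 2), (0, 33, 4), (3, 55, 51), (3, 1, 12), (1, 89, 51), (2, 82, 24), (3, 71, 69), (0, 39, 25), (3, 42, 50), (2, 89, 69), (1, 30, 34), (2, 40, 42), (3, 47, 37), (1, 45, 30), (0, 90, 56), (1, 94, 58), (2, 72, 20), (1, 71, 11), (0, 30, 25), (1, 92, 30), (2, 73, 6), (2, 91, 2), (3, 83, 2), (1, 69, 68), (1, 54, 68), (2, 27, 70), (0, 61, 23), (1, 14, 16), (1, 37, 33), (2, 38, 22), (2, 70, 65), (0, 45, 32), (1, 6, 47), (0, 12, 28), (2, 90, 1), (1, 64, 68), (2, 17, 2), (1, 24, 29), (2, 71, 16), (1, 1, 40), (2, 34, 36), (0, 33, 38), (2, 32, 19), (1, 21, 17), (0, 87, 8), (0, 29, 8), (2, 48, 51), (2, 55, 42), (2, 9, 0), (0, 23, 4), (0, 27, 50), (2, 48, 59), (3, 51, 35), (3, 54, 42), (0, 68, 63), (0, 37, 48), (0, 52, 28), (1, 67, 39), (2,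 37, 17), (2, 55, 32), (2, 30, 66), (3, 52, 6), (2, 19, 46), (0, 75, 32), (3, 50, 37), (1, 14, 52), (3, 39, 10), (1, 92, 34), (3, 38, 70), (3, 58, 65), (3, 5, 63), (3, 16, 3), (2, 40, 30), (2, 39, 56), (2, 44, 44), (0, 43, 67), (1, 70, 28), (2, 3, 21), (3, 32, 11), (3, 29, 51), (0, 40, 21), (3, 23, 28), (0, 47, 19), (2, 14, 35), (3, 5, 7), (0, 64, 52), (0, 75, 37), (1, 23, 42), (1, 55, 55), (2, 4, 0), (2, 93, 58), (2, 94, 47), (0, 21, 33), (0, 9, 60), (2, 36, 18), (3, 88, 12), (0, 92, 61), (3, 32, 59), (1, 64, 21), (0, 5, 43), (2, 79, 24), (2, 21, 41), (0, 54, 20), (2, 34, 9), (1, 64, 43), (3, 61, 20), (0, 90, 18), (1, 26, 39), (1, 66, 53), (2, 73, 26), (1, 55, 6), (3, 37, 34), (2, 73, 71), (1, 72, 45), (3, 95, 1), (2, 19, 30), (3, 70, 33), (2, 24, 68), (2, 64, 23), (0, 46, 16), (0, 85, 32), (0, 24, 2), (3, 41, 19), (0, 48, 5), (0, 92,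 54), (0, 47, 25), (0, 90, 4), (0, 62, 60), (2, 4, 26), (3, 90, 70), (1, 34, 42), (0, 30, 8), (0, 51, 36), (0, 7, 69), (1, 63, 40)]

/-- Entries. -/
def alphaEnt27 : List (ℕ × ℕ × ℕ) := [(1, 12, 30), (2, 70, 11), (0, 49, 28), (1, 19, 68), (1, 48, 56), (0, 45, 0), (0, 82, 66), (1, 34, 24), (1, 61, 62), (1, 89, 54), (0, 2, 24), (2, 46, 2), (0, 94, 33), (0, 39, 34), (0, 65, 62), (2, 80, 37), (0, 33, 54), (0, 9, 25), (0, 70, 71), (1, 10, 54), (3, 45, 33), (3, 94, 11), (3, 89, 11), (2, 93, 71), (3, 81, 40), (2, 65, 38), (0, 42, 35), (1, 68, 55), (0, 74, 31), (1, 39, 17), (2, 29, 20), (0, 26, 23), (1, 84, 32), (0, 16, 24), (0, 7, 22), (1, 55, 59), (2, 55, 70), (0, 34, 8), (0, 14, 41), (3, 64, 53), (0, 44, 47), (2, 5, 65), (1, 33, 39), (1, 63, 38), (0, 66, 29), (0, 4, 34), (0, 49, 2), (0, 3, 58), (1, 1, 43), (0, 38, 16), (1, 91, 25), (1, 87,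 7), (2, 18, 44), (1, 27, 43), (2, 83, 32), (3, 51, 41), (3, 8, 12), (0, 40, 22), (0, 8, 23), (1, 27, 10), (0, 36, 6), (2, 32, 21), (0, 57, 17), (0, 52, 11), (2, 19, 11), (0, 45, 2), (1, 60, 28), (0, 73, 0), (0, 16, 25), (0, 18, 21), (2, 81, 13), (3, 56, 42), (3, 70, 31), (1, 46, 47), (2, 16, 69), (3, 78, 30), (2, 26, 26), (3, 52, 10), (2, 40, 9), (1, 4, 30), (2, 22, 4), (2, 77, 5), (2, 22, 16), (2, 42, 30), (3, 92, 68), (3, 42, 26), (1, 13, 14), (2, 63, 11), (1, 48, 60), (1, 94, 8), (0, 90, 69), (2, 26, 41), (0, 29, 24), (0, 49, 64), (2, 91, 41), (1, 66, 10), (3, 4, 1), (3, 6, 34), (0, 58, 40), (0, 3, 5), (2, 74, 39), (3, 82, 33), (1, 30, 49), (3, 79, 18), (3, 38, 19), (3, 80, 4), (2, 59, 13), (2, 34, 24), (2, 49, 56), (1, 71, 67), (2, 58, 8), (0, 12, 51), (1, 26, 56), (3, 21, 58), (3, 10, 19), (1, 80, 38), (0, 49, 31), (0, 67, 36), (2,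 31, 37), (1, 94, 70), (2, 46, 52), (3, 41, 3), (0, 74, 18), (3, 42, 18), (0, 71, 30), (1, 16, 51), (3, 9, 69), (0, 21, 7), (0, 88, 12), (1, 50, 21), (2, 1, 66), (2, 54, 20), (1, 49, 62), (1, 83, 12), (2, 35, 39), (3, 59, 29), (1, 5, 5), (0, 73, 27), (3, 64, 61), (1, 34, 29), (3, 36, 48), (0, 9, 41), (1, 83, 18), (0, 8, 70), (3, 44, 39), (0, 44, 40), (2, 91, 53), (1, 65, 28), (0, 72, 37), (1, 49, 44), (0, 45, 50), (2, 45, 20), (2, 10, 12), (2, 18, 69), (1, 48, 6), (0, 6, 66), (2, 1, 61), (3, 63, 57), (3, 77, 8), (0, 65, 50), (0, 67, 15), (3, 87, 25), (1, 68, 21), (0, 62, 63), (2, 64, 62), (2, 75, 43), (3, 89, 61), (3, 26, 65), (3, 19, 34), (2, 37, 21), (1, 77, 5), (1, 69, 7), (0, 33, 60), (1, 66, 21), (1, 36, 27), (2, 18, 25), (3, 56, 68), (0, 87, 28), (0, 83, 30), (3, 72, 19), (0, 59, 31), (1, 49, 68), (2, 34, 42), (3, 65, 63), (2, 70,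 70), (3, 19, 31), (3, 81, 28), (3, 93, 71), (3, 46, 37), (1, 26, 41), (2, 8, 28), (0, 74, 40), (1, 58, 27), (3, 68, 53), (3, 57, 53), (0, 81, 18), (0, 36, 67), (0, 27, 34), (2, 2, 2), (2, 30, 4), (1, 69, 36), (1, 38, 6), (3, 82, 11), (1, 7, 50), (0, 11, 42), (0, 32, 50), (3, 87, 65), (1, 75, 62), (2, 49, 59), (1, 52, 8), (2, 94, 71), (2, 65, 26), (0, 87, 0), (0, 9, 4), (2, 55, 69), (2, 55, 28), (1, 66, 14), (3, 67, 28), (2, 62, 40), (3, 90, 28), (3, 60, 31), (0, 37, 56), (2, 29, 58), (3, 89, 25), (0, 27, 0), (1, 37, 11), (0, 58, 46), (2, 61, 8), (1, 45, 59), (0, 69, 14), (2, 53, 22), (0, 60, 44), (1, 2, 28), (0, 32, 38), (0, 79, 6), (3, 60, 59), (2, 59, 33), (3, 54, 7), (2, 43, 29), (0, 67, 23), (3, 9, 58), (2, 61, 38), (0, 75, 60), (3, 40, 34), (1, 12, 25), (2, 29, 67), (3, 68, 28), (0, 69, 55), (3, 28, 4), (3, 73, 57), (3, 21, 68),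 (2, 62, 33), (1, 40, 1), (0, 74, 68), (3, 42, 41), (2, 16, 27), (1, 38, 41), (2, 18, 30), (1, 56, 46), (0, 74, 58), (1, 32, 23), (0, 65, 20), (1, 40, 58), (1, 30, 38), (1, 64, 37), (1, 1, 50), (2, 51, 49), (3, 50, 51), (3, 55, 7), (0, 71, 37), (3, 71, 63), (2, 51, 41), (3, 4, 31), (1, 61, 38), (2, 8, 41), (1, 58, 23), (2, 27, 69), (0, 17, 3), (0, 57, 22), (1, 65, 32), (0, 1, 53), (2, 58, 18), (0, 48, 11), (0, 91, 45), (1, 1, 5), (2, 80, 31), (2, 9, 49), (0, 33, 69), (1, 23, 70), (3, 75, 37), (2, 51, 10), (2, 89, 8), (2, 54, 31), (3, 71, 36), (2, 43, 66), (3, 33, 59), (0, 21, 28), (1, 31, 22), (0, 32, 43), (2, 85, 27), (0, 16, 60), (3, 6, 38), (3, 69, 1), (2, 14, 49), (2, 32, 61), (2, 10, 57), (2, 10, 24), (1, 61, 39), (0, 50, 57), (0, 12, 23), (0, 81, 2), (3, 66, 55), (1, 47, 6), (1, 3, 59), (0, 40, 54), (2, 72, 49), (0, 5, 52), (1, 50,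 33), (2, 18, 33), (1, 26, 25), (1, 65, 58), (1, 2, 64), (2, 85, 50), (0, 45, 59), (0, 92, 15), (3, 61, 8), (3, 16, 1), (2, 89, 35), (1, 57, 56), (0, 5, 41), (1, 47, 15), (2, 53, 26), (3, 79, 3), (0, 48, 30), (1, 59, 63), (2, 76, 23), (3, 61, 26), (3, 49, 0), (1, 94, 2), (1, 87, 35), (0, 29, 14), (3, 59, 36), (1, 44, 8), (2, 49, 26), (1, 44, 49), (1, 60, 61), (0, 64, 18), (0, 10, 40), (0, 36, 36), (2, 10, 28), (0, 53, 51), (0, 82, 8), (2, 30, 71), (3, 32, 52), (1, 39, 69), (0, 77, 53), (3, 6, 11), (1, 31, 59), (2, 64, 24), (2, 42, 12), (3, 92, 47), (1, 81, 39), (3, 8, 20), (0, 64, 37), (1, 2, 15), (0, 57, 51), (3, 36, 70), (0, 59, 23), (0, 6, 62), (1, 66, 60), (3, 5, 66), (1, 39, 64), (2, 54, 17), (0, 87, 63), (0, 39, 2), (1, 2, 8), (0, 24, 52), (2, 33, 60), (3, 60, 62), (2, 36, 15), (2, 66, 64), (0, 46, 46), (0, 55, 54), (0, 31, 19),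 (0, 40, 67), (2, 11, 43), (3, 83, 59), (2, 3, 53), (2, 89, 48), (0, 32, 40), (3, 18, 23), (0, 36, 37), (1, 34, 64), (1, 16, 7), (0, 15, 33), (0, 90, 45), (1, 82, 2), (2, 26, 21), (2, 11, 21), (1, 45, 21)]

/-- Entries. -/
def alphaEnt28 : List (ℕ × ℕ × ℕ) := [(0, 38, 46), (3, 3, 16), (1, 5, 30), (0, 70, 41), (1, 92, 28), (1, 85, 12), (0, 93, 67), (0, 24, 8), (3, 33, 26), (3, 70, 37), (2, 40, 44), (0, 93, 61), (2, 48, 32), (1, 60, 2), (0, 59, 13), (3, 27, 53), (1, 92, 39), (3, 18, 24), (2, 27, 43), (1, 21, 1), (3, 42, 49), (1, 39, 63), (2, 78, 20), (0, 81, 53), (3, 85, 39), (2, 66, 45), (0, 44, 20), (0, 54, 10), (0, 21, 37), (1, 8, 51), (0, 5, 61), (0, 83, 12), (1, 55, 3), (0, 94, 34), (0, 63, 68), (3, 38, 16), (1, 29, 61), (3, 4, 9), (1, 58, 5), (1, 23, 0), (1, 62, 23), (3, 10, 71), (3, 82, 71), (2, 47, 47), (3, 45, 49), (0, 3, 2), (3,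 65, 37), (0, 91, 51), (3, 46, 58), (2, 38, 27), (2, 14, 2), (0, 74, 0), (2, 80, 4), (2, 33, 48), (2, 55, 50), (2, 64, 11), (0, 66, 28), (1, 14, 20), (3, 29, 47), (1, 93, 13), (3, 73, 40), (0, 1, 23), (2, 20, 13), (2, 26, 13), (0, 3, 46), (1, 71, 46), (1, 45, 45), (1, 82, 16), (2, 19, 36), (2, 48, 58), (3, 76, 13), (1, 3, 5), (1, 53, 38), (3, 62, 48), (3, 66, 32), (1, 75, 64), (1, 43, 63), (3, 90, 16), (0, 64, 64), (3, 87, 63), (0, 45, 3), (3, 18, 25), (1, 29, 38), (2, 56, 16), (1, 82, 22), (0, 75, 5), (2, 31, 27), (0, 93, 18), (0, 42, 65), (2, 24, 48), (2, 14, 28), (3, 89, 34), (0, 2, 57), (3, 37, 52), (0, 35, 31), (1, 55, 9), (3, 75, 67), (3, 57, 44), (2, 64, 15), (3, 16, 69), (2, 24, 10), (3, 50, 33), (1, 5, 52), (3, 23, 9), (3, 60, 25), (0, 29, 52), (0, 51, 35), (1, 6, 23), (2, 18, 56), (2, 58, 13), (0, 49, 42), (1, 14, 47), (3, 34,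 62), (0, 17, 11), (0, 89, 70), (1, 12, 57), (2, 72, 17), (3, 79, 31), (3, 46, 69), (2, 81, 6), (2, 49, 36), (2, 11, 10), (1, 77, 33), (1, 4, 68), (2, 10, 15), (2, 20, 36), (1, 71, 28), (3, 45, 71), (0, 65, 71), (2, 50, 70), (1, 54, 40), (3, 90, 68), (3, 77, 53), (0, 43, 66), (1, 39, 54), (3, 93, 14), (2, 29, 6), (3, 64, 50), (3, 15, 4), (1, 50, 15), (2, 60, 19), (2, 10, 41), (3, 28, 16), (1, 19, 18), (0, 76, 22), (0, 29, 13), (0, 16, 71), (0, 27, 21), (2, 24, 46), (0, 64, 24), (0, 62, 64), (0, 87, 39), (2, 31, 56), (0, 64, 48), (3, 44, 53), (3, 33, 56), (3, 4, 19), (3, 44, 50), (0, 51, 67), (3, 59, 71), (0, 77, 0), (1, 59, 32), (2, 16, 8), (2, 8, 3), (2, 42, 35), (3, 3, 49), (0, 54, 17), (3, 32, 14), (0, 62, 56), (2, 76, 25), (2, 1, 21), (0, 35, 55), (0, 38, 3), (3, 73, 29), (0, 50, 69), (3, 25, 17), (2, 56, 42), (0, 26, 30), (0, 63,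 31), (1, 58, 34), (3, 82, 38), (3, 10, 28), (0, 27, 59), (3, 14, 46), (2, 61, 61), (3, 94, 44), (0, 69, 5), (0, 69, 21), (2, 67, 63), (2, 89, 20), (2, 86, 31), (2, 5, 50), (0, 83, 28), (0, 5, 69), (1, 77, 28), (1, 86, 14), (0, 35, 25), (2, 27, 63), (0, 71, 60), (2, 30, 28), (1, 52, 5), (2, 38, 12), (0, 34, 43), (1, 69, 52), (1, 64, 10), (2, 87, 26), (2, 90, 67), (2, 48, 26), (3, 31, 47), (3, 29, 30), (1, 36, 63), (0, 55, 42), (2, 56, 10), (1, 82, 13), (1, 5, 36), (0, 24, 42), (3, 9, 45), (1, 37, 28), (2, 59, 5), (1, 12, 66), (1, 23, 37), (0, 73, 31), (3, 24, 34), (3, 43, 19), (3, 4, 29), (3, 49, 31), (2, 34, 27), (3, 14, 35), (2, 51, 25), (1, 39, 10), (1, 93, 59), (3, 29, 23), (1, 66, 27), (2, 26, 25), (0, 12, 10), (3, 93, 39), (1, 80, 62), (1, 72, 41), (3, 79, 5), (2, 86, 25), (2, 35, 19), (0, 21, 20), (0, 16, 67), (0, 71, 1), (2, 67,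 11), (0, 9, 16), (2, 35, 67), (3, 39, 56), (3, 9, 22), (1, 48, 62), (3, 18, 61), (3, 75, 64), (1, 33, 64), (0, 62, 2), (2, 92, 51), (2, 56, 59), (1, 71, 10), (0, 18, 29), (3, 33, 2), (3, 4, 2), (0, 26, 69), (2, 48, 66), (2, 14, 65), (2, 14, 42), (0, 12, 46), (1, 79, 13), (2, 36, 53), (3, 11, 7), (2, 22, 15), (3, 51, 11), (2, 56, 36), (1, 65, 33), (2, 80, 7), (0, 11, 2), (1, 33, 52), (3, 19, 2), (1, 57, 9), (0, 22, 5), (2, 45, 67), (2, 67, 10), (3, 51, 18), (1, 83, 70), (2, 58, 68), (3, 42, 46), (3, 11, 57), (1, 91, 41), (0, 68, 36), (0, 90, 57), (0, 52, 2), (1, 12, 36), (2, 37, 4), (2, 87, 60), (1, 1, 71), (2, 68, 55), (3, 79, 6), (2, 82, 53), (3, 53, 9), (0, 94, 11), (1, 80, 47), (1, 32, 55), (2, 14, 47), (1, 8, 15), (0, 85, 6), (1, 87, 13), (0, 29, 70), (0, 92, 69), (3, 83, 53), (1, 56, 13), (1, 75, 4), (1, 54, 45), (3, 49, 51), (0,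 6, 57), (2, 85, 67), (0, 94, 9), (0, 10, 46), (3, 29, 8), (0, 30, 26), (1, 42, 52), (1, 70, 54), (2, 27, 25), (3, 8, 21), (2, 82, 62), (1, 8, 30), (0, 18, 9), (1, 33, 68), (2, 72, 46), (0, 81, 47), (3, 16, 5), (0, 59, 22), (0, 3, 1), (2, 64, 30), (1, 94, 16), (1, 9, 6), (1, 75, 50), (0, 8, 6), (0, 89, 1), (0, 38, 70), (2, 41, 19), (1, 93, 38), (1, 51, 37), (1, 34, 44), (3, 73, 30), (2, 82, 31), (2, 25, 9), (3, 23, 5), (0, 45, 39), (1, 74, 50), (0, 70, 65), (2, 59, 15), (0, 45, 17), (1, 39, 61), (0, 72, 14), (1, 65, 1), (1, 65, 29), (0, 18, 23), (3, 61, 6), (2, 10, 23), (3, 87, 70), (2, 79, 1), (1, 50, 66), (2, 9, 27), (3, 20, 15), (0, 57, 4), (2, 55, 46), (2, 31, 25), (2, 92, 21), (0, 9, 69), (0, 65, 37), (0, 2, 58), (0, 63, 24), (2, 39, 26), (2, 7, 63), (2, 85, 51), (2, 26, 45), (0, 16, 23), (0, 81, 35), (1, 57, 13), (2, 94, 67), (1,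 26, 42), (2, 32, 29), (2, 64, 28), (3, 36, 19), (0, 82, 48), (0, 64, 69), (1, 48, 12), (1, 40, 21), (3, 32, 62), (1, 23, 1), (0, 93, 65), (1, 3, 42), (0, 29, 36), (1, 6, 48), (3, 69, 46), (1, 69, 16), (3, 14, 60), (1, 29, 50), (0, 46, 40), (2, 49, 2), (1, 63, 7), (0, 47, 50)]

/-- Entries. -/
def alphaEnt29 : List (ℕ × ℕ × ℕ) := [(0, 13, 50), (0, 67, 52), (1, 26, 24), (1, 21, 32), (0, 42, 4), (1, 7, 5), (3, 58, 61), (0, 76, 3), (0, 77, 42), (0, 90, 64), (3, 9, 67), (1, 84, 30), (3, 14, 23), (3, 14, 10), (3, 82, 9), (0, 78, 16), (1, 81, 4), (2, 83, 43), (3, 48, 35), (2, 60, 14), (2, 33, 1), (2, 11, 33), (0, 60, 28), (1, 7, 32), (1, 34, 26), (1, 55, 69), (2, 18, 27), (0, 30, 52), (2, 58, 7), (1, 33, 8), (1, 31, 64), (2, 4, 27), (3, 37, 64), (2, 5, 5), (0, 65, 53), (2, 62, 35), (1, 31, 3), (0, 31, 44), (2, 11, 38), (2, 61, 39), (3, 87, 12),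 (2, 13, 58), (2, 9, 33), (2, 30, 1), (0, 51, 23), (3, 54, 46), (1, 14, 8), (3, 64, 63), (3, 70, 56), (3, 8, 7), (2, 10, 20), (3, 2, 47), (2, 77, 18), (3, 6, 8), (0, 63, 54), (3, 56, 34), (2, 83, 21), (1, 45, 61), (2, 58, 20), (3, 39, 27), (0, 59, 19), (1, 72, 17), (1, 11, 8), (2, 60, 69), (2, 64, 17), (1, 91, 63), (2, 40, 48), (1, 6, 14), (3, 64, 51), (2, 66, 42), (0, 91, 44), (2, 45, 52), (1, 8, 18), (3, 74, 56), (3, 49, 25), (0, 15, 10), (2, 83, 10), (0, 73, 43), (0, 72, 44), (2, 69, 39), (3, 2, 71), (3, 18, 55), (2, 69, 25), (3, 10, 52), (0, 7, 10), (1, 73, 68), (1, 68, 35), (2, 35, 6), (1, 56, 2), (0, 7, 61), (1, 18, 65), (1, 40, 33), (1, 81, 32), (0, 74, 6), (0, 42, 44), (3, 3, 44), (2, 74, 15), (2, 46, 50), (2, 78, 0), (1, 42, 66), (2, 41, 10), (1, 84, 14), (2, 74, 62), (1, 22, 32), (3, 51, 7), (3, 94, 37), (3, 26, 51), (1, 66,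 42), (2, 10, 54), (1, 76, 27), (2, 61, 51), (0, 60, 35), (0, 72, 65), (0, 60, 37), (3, 81, 29), (1, 83, 11), (2, 89, 68), (1, 46, 64), (2, 48, 57), (0, 18, 48), (3, 65, 45), (2, 29, 53), (2, 48, 70), (1, 9, 7), (3, 62, 58), (2, 47, 23), (3, 65, 14), (1, 67, 32), (3, 46, 24), (1, 91, 36), (3, 15, 25), (0, 59, 37), (0, 48, 61), (0, 34, 66), (1, 11, 25), (1, 47, 64), (1, 50, 40), (0, 50, 71), (0, 80, 6), (0, 45, 14), (3, 26, 2), (2, 91, 6), (0, 30, 19), (2, 8, 4), (3, 57, 20), (2, 49, 66), (1, 1, 18), (1, 44, 7), (3, 7, 70), (1, 83, 56), (0, 86, 0), (1, 93, 65), (2, 5, 33), (3, 72, 70), (2, 36, 7), (2, 51, 57), (1, 49, 34), (0, 54, 5), (1, 70, 26), (2, 38, 5), (0, 49, 60), (0, 25, 9), (2, 20, 24), (1, 77, 20), (2, 73, 30), (1, 92, 36), (0, 50, 56), (1, 50, 41), (1, 13, 61), (0, 42, 39), (3, 19, 32), (0, 56, 23), (0, 64, 35), (3, 53, 63),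 (3, 59, 15), (3, 9, 30), (3, 20, 17), (1, 39, 49), (3, 86, 9), (2, 70, 48), (0, 51, 40), (1, 65, 4), (2, 77, 68), (3, 63, 21), (3, 22, 3), (2, 35, 22), (3, 11, 15), (1, 9, 42), (2, 83, 25), (3, 87, 14), (1, 14, 55), (3, 71, 20), (3, 94, 7), (3, 30, 35), (1, 15, 29), (2, 82, 10), (3, 23, 69), (3, 89, 9), (3, 29, 19), (0, 83, 59), (2, 81, 38), (1, 6, 55), (2, 21, 0), (3, 40, 70), (2, 73, 4), (0, 36, 29), (3, 37, 61), (0, 63, 69), (2, 12, 34), (0, 72, 2), (1, 93, 58), (1, 16, 12), (0, 41, 6), (2, 54, 44), (0, 3, 39), (3, 36, 3), (2, 85, 45), (3, 50, 39), (0, 6, 14), (2, 45, 21), (0, 60, 4), (2, 34, 14), (1, 71, 35), (2, 46, 29), (2, 14, 22), (0, 69, 54), (1, 70, 63), (0, 36, 23), (0, 4, 66), (2, 16, 2), (0, 4, 39), (3, 85, 22), (2, 49, 25), (3, 33, 50), (0, 35, 9), (1, 42, 57), (3, 57, 70), (3, 70, 51), (3, 45, 18), (1, 69, 33), (0, 39,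 53), (1, 77, 62), (0, 62, 12), (2, 48, 69), (2, 43, 34), (2, 90, 28), (3, 52, 20), (2, 67, 21), (3, 36, 23), (0, 52, 18), (1, 83, 64), (1, 91, 47), (2, 46, 20), (0, 24, 7), (0, 52, 12), (2, 83, 52), (0, 2, 48), (2, 91, 48), (0, 83, 7), (1, 59, 19), (0, 39, 35), (0, 72, 63), (0, 34, 4), (0, 86, 29), (3, 26, 17), (1, 73, 69), (1, 64, 2), (3, 87, 35), (1, 89, 53), (2, 93, 59), (1, 30, 20), (0, 79, 25), (0, 74, 52), (1, 32, 46), (3, 84, 24), (0, 7, 2), (1, 90, 52), (3, 84, 1), (1, 8, 57), (1, 5, 47), (3, 63, 33), (2, 68, 24), (0, 4, 2), (0, 50, 22), (2, 80, 60), (2, 7, 59), (1, 18, 1), (0, 24, 9), (1, 29, 19), (1, 8, 46), (2, 11, 11), (1, 63, 56), (2, 64, 56), (3, 47, 53), (1, 91, 1), (3, 23, 64), (2, 38, 66), (1, 38, 36), (0, 73, 7), (1, 89, 41), (2, 80, 2), (0, 76, 14), (3, 24, 63), (1, 60, 40), (3, 24, 39), (0, 62, 68), (1, 31, 71), (0,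 16, 12), (0, 67, 45), (0, 79, 21), (2, 48, 52), (2, 62, 14), (0, 32, 10), (1, 82, 45), (2, 1, 69), (2, 48, 55), (1, 5, 18), (0, 14, 22), (2, 93, 29), (2, 21, 44), (1, 55, 39), (1, 22, 4), (2, 60, 47), (1, 71, 36), (1, 56, 27), (2, 16, 43), (2, 9, 50), (3, 37, 36), (1, 14, 30), (1, 70, 5), (2, 42, 54), (2, 81, 2), (3, 69, 3), (2, 9, 21), (3, 77, 31), (0, 62, 67), (0, 80, 27), (0, 60, 60), (1, 92, 26), (2, 8, 68), (3, 4, 66), (2, 58, 56), (3, 21, 51), (2, 4, 46), (0, 13, 63), (3, 81, 18), (3, 36, 67), (3, 65, 67), (2, 65, 28), (1, 93, 56), (2, 64, 20), (2, 68, 8), (0, 89, 11), (0, 72, 8), (0, 49, 16), (1, 6, 69), (0, 12, 39), (0, 18, 60), (1, 24, 15), (2, 30, 64), (3, 85, 47), (2, 43, 1), (0, 45, 43), (2, 8, 0), (0, 66, 3), (0, 57, 24), (1, 6, 53), (3, 58, 48), (2, 34, 51), (1, 16, 50), (1, 74, 1), (3, 67, 69), (3, 50, 5), (1, 3, 66), (0,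 77, 63), (2, 39, 60), (2, 3, 2), (1, 79, 14), (1, 26, 70), (1, 55, 44), (1, 58, 54), (0, 2, 32), (2, 54, 39), (1, 9, 17), (1, 22, 35), (3, 38, 45), (0, 48, 35), (1, 29, 54), (0, 40, 61), (3, 84, 0), (0, 31, 53), (2, 69, 47), (0, 39, 45), (0, 56, 60), (2, 89, 50), (1, 46, 8), (3, 64, 0), (1, 58, 9), (0, 37, 65), (3, 48, 58)]

/-- Entries. -/
def alphaEnt30 : List (ℕ × ℕ × ℕ) := [(1, 47, 62), (3, 61, 51), (3, 71, 46), (3, 61, 56), (2, 65, 57), (3, 91, 54), (0, 79, 32), (1, 81, 52), (1, 66, 32), (1, 63, 58), (1, 35, 38), (3, 34, 58), (0, 29, 60), (0, 90, 7), (1, 34, 0), (1, 72, 26), (3, 14, 37), (3, 67, 7), (2, 30, 10), (2, 18, 1), (1, 24, 30), (3, 23, 12), (3, 70, 35), (0, 43, 70), (1, 1, 37), (2, 83, 48), (1, 1, 67), (1, 27, 68), (1, 77, 32), (0, 37, 8), (2, 65, 45), (0, 94, 69), (3, 37, 71), (3, 19, 9), (2, 56, 18), (2, 19, 25), (2, 32,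 28), (1, 16, 45), (3, 29, 3), (0, 35, 24), (2, 56, 32), (1, 90, 9), (0, 35, 71), (1, 34, 45), (0, 44, 7), (2, 67, 3), (3, 94, 55), (3, 93, 16), (2, 62, 29), (3, 36, 4), (3, 85, 12), (0, 74, 32), (1, 72, 70), (1, 32, 51), (3, 54, 41), (3, 42, 66), (2, 73, 28), (0, 72, 58), (0, 40, 69), (2, 2, 27), (0, 45, 24), (1, 71, 16), (2, 27, 52), (0, 70, 53), (2, 63, 26), (1, 8, 42), (3, 42, 47), (3, 1, 30), (0, 61, 48), (1, 74, 6), (2, 44, 20), (2, 51, 40), (3, 40, 67), (2, 54, 40), (3, 29, 50), (1, 1, 15), (2, 43, 36), (0, 14, 3), (3, 80, 8), (2, 69, 46), (0, 69, 16), (3, 35, 41), (0, 92, 56), (0, 49, 40), (3, 73, 58), (0, 48, 21), (1, 49, 8), (3, 62, 36), (2, 73, 49), (3, 39, 59), (2, 55, 15), (2, 87, 19), (1, 1, 22), (0, 73, 69), (3, 7, 43), (0, 8, 1), (2, 79, 25), (0, 93, 7), (3, 64, 2), (2, 41, 4), (1, 59, 24), (2, 46, 33), (1, 36, 8), (0,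 5, 47), (0, 85, 17), (3, 81, 43), (2, 58, 36), (0, 46, 26), (0, 90, 48), (1, 68, 47), (0, 37, 59), (1, 31, 27), (0, 14, 63), (1, 69, 59), (3, 53, 60), (3, 89, 15), (1, 58, 31), (1, 1, 62), (0, 92, 37), (1, 13, 71), (3, 49, 29), (0, 35, 12), (2, 12, 13), (3, 93, 18), (0, 9, 45), (0, 14, 7), (3, 53, 7), (2, 37, 64), (0, 10, 11), (3, 59, 26), (3, 16, 13), (2, 43, 22), (0, 33, 27), (0, 89, 5), (3, 27, 23), (0, 75, 59), (3, 49, 17), (3, 13, 10), (0, 73, 64), (3, 70, 53), (3, 46, 57), (1, 35, 36), (0, 87, 6), (2, 79, 21), (2, 81, 49), (2, 66, 23), (2, 63, 58), (1, 75, 38), (2, 53, 15), (2, 74, 56), (1, 53, 22), (0, 47, 30), (0, 18, 12), (0, 27, 5), (1, 56, 52), (3, 2, 1), (1, 54, 2), (3, 49, 46), (2, 40, 25), (3, 71, 56), (2, 12, 53), (3, 47, 31), (1, 93, 30), (3, 37, 47), (3, 74, 9), (1, 13, 50), (0, 50, 15), (0, 5, 4), (1, 1, 31), (1, 78,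 3), (2, 4, 61), (3, 14, 45), (0, 75, 61), (1, 10, 58), (2, 63, 48), (0, 56, 59), (0, 8, 15), (1, 72, 13), (2, 29, 59), (2, 78, 13), (3, 4, 67), (1, 83, 53), (2, 4, 14), (1, 20, 8), (2, 67, 13), (3, 8, 58), (0, 54, 67), (0, 80, 51), (0, 27, 18), (0, 69, 38), (0, 9, 23), (0, 57, 13), (1, 58, 70), (2, 30, 39), (1, 23, 41), (3, 64, 36), (1, 59, 68), (1, 36, 41), (2, 59, 11), (1, 20, 6), (0, 57, 5), (0, 13, 44), (0, 71, 32), (2, 37, 62), (0, 20, 22), (3, 43, 39), (3, 83, 39), (3, 15, 8), (1, 89, 43), (0, 84, 27), (1, 43, 55), (1, 54, 18), (3, 73, 28), (3, 3, 55), (1, 46, 21), (1, 45, 17), (3, 11, 19), (2, 29, 4), (1, 10, 45), (3, 36, 60), (1, 63, 17), (2, 37, 5), (0, 21, 2), (1, 67, 67), (1, 40, 29), (3, 72, 21), (2, 91, 36), (1, 48, 24), (0, 70, 43), (1, 33, 49), (3, 1, 38), (3, 50, 24), (1, 67, 46), (2, 19, 66), (0, 85, 63), (1, 19, 65),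 (1, 46, 3), (0, 94, 67), (1, 92, 31), (3, 76, 6), (3, 59, 44), (0, 92, 43), (0, 70, 49), (2, 12, 19), (2, 92, 50), (3, 64, 64), (0, 26, 49), (2, 25, 3), (1, 44, 12), (0, 89, 61), (0, 46, 54), (3, 24, 40), (1, 63, 10), (3, 84, 4), (0, 23, 34), (0, 42, 37), (1, 39, 40), (2, 66, 55), (2, 62, 16), (3, 29, 56), (3, 80, 40), (0, 72, 49), (0, 81, 61), (3, 53, 1), (1, 49, 10), (1, 2, 7), (3, 27, 55), (0, 80, 30), (3, 88, 2), (2, 1, 53), (2, 2, 3), (2, 78, 25), (0, 6, 13), (2, 10, 2), (3, 27, 40), (0, 38, 49), (2, 75, 61), (3, 89, 35), (1, 11, 20), (0, 19, 70), (1, 67, 60), (1, 19, 41), (0, 63, 70), (1, 63, 35), (3, 27, 10), (1, 46, 29), (0, 71, 55), (1, 6, 29), (0, 73, 65), (3, 81, 61), (2, 40, 2), (3, 38, 41), (1, 51, 60), (0, 80, 8), (1, 57, 15), (0, 31, 62), (1, 39, 4), (0, 10, 52), (2, 6, 0), (3, 16, 29), (0, 63, 42), (1, 21, 68), (3, 94,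 50), (0, 91, 42), (1, 6, 49), (1, 82, 20), (3, 75, 56), (3, 26, 50), (2, 32, 53), (2, 87, 56), (2, 61, 50), (1, 12, 48), (2, 79, 13), (0, 53, 2), (3, 59, 51), (3, 91, 45), (2, 13, 23), (0, 85, 11), (1, 74, 13), (3, 33, 36), (0, 16, 32), (0, 77, 69), (2, 90, 21), (1, 54, 44), (3, 39, 38), (2, 11, 68), (2, 79, 7), (1, 61, 1), (1, 78, 33), (2, 92, 53), (3, 43, 55), (2, 77, 17), (1, 81, 48), (2, 70, 6), (1, 65, 40), (1, 47, 56), (2, 27, 12), (0, 9, 14), (0, 55, 29), (0, 48, 23), (1, 58, 45), (2, 3, 49), (1, 46, 54), (3, 15, 35), (0, 4, 21), (2, 77, 0), (2, 9, 25), (2, 91, 3), (0, 32, 12), (2, 89, 29), (0, 47, 58), (2, 35, 1), (3, 85, 14), (1, 59, 36), (0, 89, 28), (1, 38, 58), (2, 27, 34), (2, 72, 26), (0, 63, 28), (3, 9, 53), (1, 64, 18), (1, 40, 47), (2, 49, 15), (3, 72, 3), (2, 84, 17), (2, 50, 68), (1, 55, 18), (3, 46, 56), (3, 30, 70),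 (0, 69, 6), (2, 9, 47), (3, 16, 19), (2, 60, 3), (2, 90, 4), (2, 18, 24), (2, 4, 29), (1, 11, 38), (3, 87, 27), (3, 73, 24), (3, 27, 6), (0, 78, 20), (0, 92, 68), (0, 73, 2), (0, 47, 32), (3, 4, 33), (1, 78, 0), (2, 72, 61), (1, 67, 17), (3, 59, 20), (3, 4, 39), (0, 32, 9), (0, 13, 47), (2, 81, 70), (1, 60, 10), (0, 59, 24), (3, 22, 30), (0, 53, 39), (0, 78, 27), (3, 86, 22), (1, 36, 56)]

/-- Entries. -/
def alphaEnt31 : List (ℕ × ℕ × ℕ) := [(2, 39, 41), (1, 36, 64), (2, 19, 35), (1, 8, 22), (3, 51, 67), (3, 57, 8), (2, 80, 71), (0, 75, 2), (3, 71, 26), (1, 91, 27), (0, 86, 16), (1, 83, 41), (3, 11, 50), (3, 46, 5), (0, 8, 56), (1, 16, 49), (1, 16, 55), (3, 92, 29), (2, 59, 25), (2, 34, 48), (2, 29, 51), (3, 72, 22), (3, 36, 13), (0, 95, 14), (0, 3, 54), (2, 77, 16), (2, 93, 18), (1, 60, 1), (0, 81, 60), (3, 13, 9), (1, 81, 54), (1,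 9, 36), (2, 12, 69), (1, 71, 41), (2, 70, 14), (3, 49, 58), (0, 26, 67), (1, 59, 46), (3, 16, 62), (2, 87, 32), (2, 21, 59), (1, 22, 11), (3, 1, 25), (3, 72, 18), (1, 75, 46), (2, 61, 64), (0, 62, 23), (2, 82, 41), (3, 47, 43), (2, 4, 13), (3, 48, 60), (2, 36, 9), (0, 1, 0), (2, 91, 12), (1, 42, 64), (2, 46, 17), (1, 3, 3), (2, 58, 47), (3, 81, 21), (1, 44, 17), (3, 73, 39), (0, 37, 67), (1, 47, 31), (0, 95, 1), (1, 26, 66), (1, 59, 54), (1, 12, 58), (2, 58, 40), (0, 14, 2), (0, 58, 44), (3, 53, 67), (3, 36, 47), (1, 64, 26), (3, 92, 54), (3, 94, 19), (3, 44, 61), (0, 20, 17), (3, 81, 20), (2, 84, 0), (0, 52, 16), (3, 1, 50), (1, 59, 59), (2, 89, 45), (0, 64, 7), (0, 8, 41), (3, 74, 22), (1, 45, 65), (3, 50, 7), (0, 58, 18), (3, 80, 23), (1, 31, 4), (2, 19, 38), (0, 14, 43), (2, 11, 37), (3, 80, 57), (2, 17, 7), (2, 39, 11), (2, 12, 64),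 (2, 64, 22), (1, 90, 5), (2, 34, 46), (3, 6, 0), (1, 29, 66), (2, 2, 18), (3, 55, 35), (2, 75, 12), (1, 67, 42), (2, 78, 36), (2, 80, 49), (1, 16, 65), (3, 77, 70), (0, 1, 19), (1, 7, 59), (3, 2, 5), (1, 68, 43), (0, 80, 18), (3, 89, 8), (3, 93, 61), (2, 31, 40), (2, 39, 24), (2, 14, 59), (3, 32, 21), (0, 31, 24), (2, 16, 30), (3, 38, 43), (1, 20, 2), (2, 28, 0), (0, 80, 31), (2, 29, 39), (0, 12, 3), (1, 19, 59), (1, 65, 19), (1, 38, 3), (1, 33, 20), (3, 90, 40), (1, 69, 44), (3, 93, 52), (0, 4, 4), (1, 32, 38), (3, 73, 1), (0, 9, 30), (1, 33, 28), (2, 40, 33), (3, 21, 14), (2, 72, 0), (1, 83, 19), (1, 67, 44), (0, 81, 3), (0, 38, 32), (2, 80, 36), (3, 73, 3), (3, 14, 27), (2, 27, 0), (3, 29, 58), (1, 37, 71), (2, 18, 13), (2, 74, 11), (2, 57, 6), (3, 83, 15), (0, 82, 20), (2, 15, 36), (0, 43, 12), (0, 17, 1), (3, 80, 44), (2, 46, 62),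 (0, 86, 26), (1, 73, 32), (2, 13, 0), (2, 21, 6), (2, 87, 29), (3, 51, 20), (0, 40, 43), (0, 14, 9), (1, 23, 45), (1, 82, 43), (2, 13, 68), (2, 2, 49), (3, 2, 0), (0, 54, 62), (3, 86, 17), (3, 58, 27), (0, 88, 2), (0, 79, 30), (2, 50, 22), (2, 40, 4), (1, 19, 34), (2, 33, 32), (0, 89, 36), (2, 85, 54), (1, 56, 4), (2, 63, 19), (3, 68, 24), (2, 90, 18), (1, 54, 71), (3, 93, 59), (2, 9, 15), (3, 42, 20), (2, 10, 43), (3, 33, 17), (1, 6, 31), (0, 76, 11), (1, 54, 15), (2, 21, 36), (1, 82, 21), (0, 50, 68), (2, 82, 40), (1, 65, 18), (0, 93, 9), (3, 10, 34), (1, 1, 16), (0, 1, 66), (3, 75, 39), (3, 28, 10), (2, 32, 59), (1, 94, 21), (3, 61, 67), (2, 73, 46), (0, 30, 2), (2, 7, 31), (1, 29, 30), (0, 58, 29), (1, 24, 24), (2, 8, 70), (0, 53, 42), (3, 92, 61), (3, 43, 57), (3, 54, 23), (3, 26, 6), (1, 56, 45), (3, 74, 28), (2, 21, 7), (0, 42,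 64), (1, 86, 21), (0, 40, 30), (3, 76, 0), (3, 83, 70), (3, 14, 12), (3, 71, 49), (2, 61, 52), (2, 51, 27), (3, 30, 24), (2, 52, 2), (1, 26, 32), (3, 1, 63), (2, 24, 45), (2, 37, 39), (2, 54, 54), (1, 49, 16), (3, 1, 40), (3, 5, 12), (1, 35, 27), (2, 62, 2), (0, 90, 1), (0, 35, 8), (2, 27, 28), (0, 2, 52), (1, 38, 19), (0, 82, 18), (2, 6, 22), (2, 57, 10), (1, 58, 0), (2, 23, 4), (0, 68, 52), (0, 54, 68), (2, 92, 40), (1, 93, 42), (3, 21, 17), (2, 61, 17), (3, 32, 19), (1, 49, 48), (3, 84, 35), (3, 3, 0), (2, 30, 25), (2, 15, 7), (2, 48, 42), (1, 91, 12), (2, 24, 43), (1, 24, 31), (2, 68, 59), (2, 55, 5), (0, 29, 38), (2, 30, 6), (1, 15, 0), (1, 51, 6), (3, 67, 52), (1, 82, 41), (1, 23, 23), (3, 10, 8), (1, 10, 51), (3, 47, 48), (0, 44, 1), (0, 23, 52), (2, 74, 57), (0, 76, 20), (0, 74, 5), (3, 77, 3), (0, 92, 25), (1, 42, 29), (0, 27,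 54), (2, 26, 12), (2, 10, 1), (3, 84, 33), (3, 77, 24), (2, 71, 49), (3, 40, 45), (2, 92, 39), (1, 4, 9), (1, 81, 69), (2, 57, 30), (3, 35, 30), (3, 23, 0), (2, 42, 55), (0, 48, 66), (2, 8, 59), (3, 35, 50), (3, 52, 33), (3, 61, 23), (0, 44, 3), (1, 60, 9), (1, 37, 3), (2, 23, 56), (3, 89, 14), (0, 64, 36), (0, 11, 32), (2, 40, 59), (2, 38, 44), (2, 28, 1), (3, 61, 58), (3, 90, 8), (0, 4, 67), (2, 44, 46), (1, 46, 15), (3, 40, 8), (3, 70, 9), (1, 23, 21), (2, 53, 46), (2, 92, 18), (3, 91, 48), (3, 45, 20), (3, 75, 59), (0, 66, 59), (1, 36, 49), (1, 66, 35), (1, 2, 16), (1, 40, 68), (3, 16, 33), (3, 37, 39), (1, 44, 40), (1, 3, 28), (3, 46, 20), (2, 55, 25), (2, 34, 35), (0, 38, 24), (1, 45, 23), (2, 60, 11), (2, 71, 57), (2, 51, 54), (2, 22, 8), (3, 54, 70), (1, 72, 7), (2, 63, 37), (3, 44, 66), (3, 91, 35), (0, 36, 59), (2, 13, 16),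 (3, 23, 19), (2, 46, 36), (0, 27, 11), (2, 12, 61), (3, 76, 27), (1, 2, 34), (1, 21, 36), (1, 5, 21), (2, 57, 42), (2, 49, 13), (1, 14, 43), (1, 61, 53), (0, 50, 23), (2, 93, 12), (2, 68, 64), (3, 75, 19), (3, 21, 71), (0, 41, 13), (1, 42, 19), (1, 38, 55), (1, 43, 11), (1, 74, 14), (0, 85, 35), (2, 60, 36), (0, 23, 45), (3, 34, 25), (0, 73, 54), (0, 69, 15), (2, 3, 60), (0, 7, 19), (3, 80, 1), (3, 67, 44), (0, 42, 33), (1, 2, 67), (0, 36, 45)]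

/-- Entries. -/
def alphaEnt32 : List (ℕ × ℕ × ℕ) := [(3, 68, 61), (2, 70, 26), (1, 56, 3), (2, 48, 30), (1, 30, 41), (1, 37, 60), (3, 13, 64), (3, 13, 15), (1, 74, 35), (0, 43, 30), (0, 5, 35), (1, 53, 57), (1, 70, 71), (1, 27, 1), (0, 14, 71), (3, 4, 68), (3, 13, 18), (0, 48, 40), (2, 56, 54), (1, 24, 36), (0, 81, 41), (0, 19, 64), (0, 9, 54), (3, 31, 49), (3, 76, 14), (3, 68, 23), (1, 49, 59), (1, 38, 32), (0, 51, 15), (1, 16, 25), (0, 43, 71), (2, 50, 28), (3, 68, 43), (0, 93, 36), (1, 59, 37), (2, 40, 54), (1, 84, 18), (2, 5, 51), (2, 80, 44), (0, 59, 29), (1, 4, 34), (2, 42, 69), (1, 42, 41), (3, 72, 40), (2, 78, 6), (3, 6, 32), (0, 44, 14), (3, 84, 13), (3, 26, 34), (3, 74, 65), (3, 24, 55), (1, 48, 22), (0, 39, 7), (1, 62, 1), (3, 50, 63), (3, 47, 60), (3, 47, 13), (1, 31, 61), (3, 45, 65), (3, 23, 70), (1, 69, 50), (2, 33, 44),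 (1, 37, 62), (0, 92, 2), (0, 58, 13), (1, 81, 0), (1, 79, 28), (1, 94, 56), (0, 40, 51), (3, 91, 38), (3, 65, 53), (2, 61, 9), (1, 91, 57), (1, 72, 18), (0, 75, 1), (1, 56, 39), (1, 69, 27), (3, 51, 48), (3, 4, 13), (1, 52, 4), (2, 24, 62), (3, 36, 45), (1, 39, 67), (1, 79, 35), (3, 94, 63), (2, 81, 21), (2, 32, 25), (0, 4, 64), (0, 67, 48), (0, 78, 31), (0, 83, 63), (3, 51, 34), (2, 45, 6), (0, 67, 61), (2, 61, 53), (2, 13, 9), (0, 81, 54), (1, 34, 31), (3, 48, 17), (2, 71, 11), (2, 48, 7), (2, 90, 5), (2, 34, 15), (1, 19, 42), (0, 29, 55), (1, 45, 26), (0, 94, 18), (2, 86, 21), (3, 48, 62), (0, 83, 41), (1, 1, 69), (2, 34, 52), (3, 55, 20), (1, 93, 6), (3, 29, 10), (1, 10, 2), (1, 90, 59), (0, 82, 7), (3, 74, 37), (1, 38, 69), (3, 48, 23), (1, 83, 43), (0, 57, 3), (1, 9, 20), (2, 36, 33), (1, 51, 23), (1, 54, 46), (2, 7, 21), (2, 2,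 20), (1, 54, 47), (2, 50, 6), (1, 64, 63), (1, 59, 38), (2, 34, 3), (3, 80, 39), (3, 57, 21), (1, 24, 34), (2, 65, 63), (0, 13, 8), (0, 3, 8), (1, 42, 24), (1, 92, 65), (0, 90, 67), (2, 40, 62), (1, 4, 47), (0, 2, 37), (3, 51, 52), (3, 64, 6), (2, 74, 45), (1, 28, 14), (1, 18, 4), (2, 9, 19), (3, 42, 38), (0, 19, 12), (1, 16, 19), (1, 53, 69), (2, 67, 24), (1, 42, 33), (2, 91, 25), (2, 93, 30), (2, 30, 18), (1, 7, 22), (1, 37, 56), (0, 27, 20), (1, 14, 41), (3, 73, 19), (0, 89, 31), (0, 62, 40), (2, 43, 33), (0, 2, 28), (3, 75, 29), (2, 24, 52), (2, 55, 19), (0, 46, 56), (3, 81, 9), (3, 42, 42), (2, 55, 51), (3, 49, 47), (1, 79, 6), (3, 19, 70), (1, 64, 25), (3, 32, 4), (3, 17, 11), (2, 63, 70), (3, 63, 35), (1, 5, 70), (2, 77, 69), (2, 19, 50), (2, 68, 65), (2, 62, 42), (3, 78, 33), (3, 69, 51), (2, 77, 51), (3, 56, 51), (2, 50, 49),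 (3, 93, 48), (1, 34, 57), (0, 39, 50), (1, 43, 37), (0, 67, 59), (3, 12, 7), (3, 66, 40), (1, 2, 12), (3, 68, 39), (1, 50, 55), (1, 12, 1), (3, 65, 13), (3, 85, 1), (3, 60, 16), (2, 12, 23), (1, 43, 14), (3, 39, 4), (2, 84, 13), (2, 8, 57), (1, 18, 21), (0, 94, 6), (3, 78, 6), (2, 16, 35), (3, 62, 32), (0, 9, 51), (0, 42, 16), (0, 11, 10), (1, 50, 63), (0, 8, 17), (1, 71, 40), (2, 73, 66), (1, 47, 68), (3, 65, 23), (1, 82, 48), (2, 64, 69), (1, 30, 27), (1, 4, 37), (3, 7, 46), (1, 71, 52), (3, 49, 22), (0, 58, 45), (1, 24, 45), (0, 2, 14), (3, 46, 6), (2, 50, 1), (0, 64, 28), (3, 38, 68), (0, 91, 16), (2, 43, 71), (1, 56, 22), (1, 68, 28), (3, 42, 48), (3, 27, 5), (0, 94, 39), (3, 85, 27), (2, 3, 27), (1, 83, 10), (2, 21, 28), (3, 54, 58), (3, 68, 47), (0, 41, 1), (2, 4, 18), (1, 53, 52), (2, 16, 14), (1, 1, 49), (0, 18, 40), (0, 8, 35),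 (3, 37, 58), (2, 30, 63), (1, 59, 18), (3, 76, 26), (0, 92, 53), (2, 6, 1), (2, 82, 45), (3, 66, 28), (2, 71, 52), (1, 62, 68), (2, 1, 35), (0, 80, 16), (3, 8, 40), (2, 54, 15), (0, 73, 13), (0, 56, 51), (2, 82, 29), (0, 80, 26), (1, 93, 68), (3, 85, 45), (2, 77, 23), (0, 58, 38), (3, 19, 27), (2, 8, 13), (2, 7, 36), (1, 40, 5), (1, 70, 7), (0, 93, 59), (2, 6, 53), (2, 50, 64), (0, 55, 48), (0, 94, 32), (1, 53, 43), (3, 5, 26), (0, 72, 64), (0, 82, 13), (2, 46, 47), (3, 8, 37), (0, 71, 4), (0, 82, 36), (3, 16, 41), (1, 55, 28), (1, 37, 43), (3, 11, 13), (1, 45, 7), (3, 75, 31), (0, 8, 45), (1, 75, 35), (0, 80, 39), (2, 71, 5), (2, 29, 19), (2, 66, 41), (2, 5, 64), (1, 16, 46), (1, 43, 29), (0, 76, 35), (3, 89, 30), (2, 10, 36), (0, 6, 26), (0, 77, 58), (0, 9, 35), (3, 48, 5), (2, 46, 31), (3, 43, 1), (3, 74, 33), (0, 81, 24), (2, 84,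 31), (1, 38, 64), (2, 67, 45), (1, 18, 7), (1, 14, 22), (2, 8, 5), (1, 90, 66), (0, 42, 20), (3, 18, 19), (0, 77, 41), (1, 46, 62), (3, 85, 43), (1, 64, 67), (2, 34, 7), (3, 90, 65), (1, 50, 4), (2, 46, 0), (0, 18, 53), (2, 45, 35), (2, 75, 62), (3, 21, 32), (3, 15, 26), (2, 32, 46), (2, 2, 21), (0, 57, 65), (3, 70, 8), (2, 66, 2), (3, 48, 15), (0, 56, 14), (1, 16, 63), (0, 6, 23), (1, 29, 36), (0, 36, 21), (1, 75, 51), (0, 33, 41), (2, 93, 53), (3, 81, 54), (3, 92, 69), (2, 3, 54), (1, 45, 36), (0, 31, 32), (0, 36, 41), (3, 85, 51), (0, 1, 67), (2, 13, 32), (2, 74, 2), (1, 79, 23), (1, 57, 35), (2, 31, 0), (3, 81, 45), (1, 9, 21), (0, 54, 25), (1, 16, 36), (0, 8, 4), (0, 36, 70), (2, 50, 18), (2, 6, 39), (0, 69, 17), (0, 47, 52), (3, 92, 66), (0, 1, 29), (3, 11, 25), (1, 27, 57), (3, 10, 11), (2, 2, 55), (0, 37, 13), (3, 94, 20), (0,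 51, 45), (1, 51, 4), (0, 21, 10), (0, 10, 25), (3, 86, 24)]

/-- Entries. -/
def alphaEnt33 : List (ℕ × ℕ × ℕ) := [(2, 49, 23), (0, 48, 1), (3, 60, 27), (0, 35, 7), (3, 94, 38), (1, 40, 65), (2, 67, 55), (1, 88, 6), (3, 70, 52), (0, 67, 27), (3, 23, 39), (0, 80, 52), (0, 44, 28), (2, 81, 36), (1, 7, 47), (1, 90, 34), (1, 48, 52), (3, 7, 57), (3, 66, 50), (0, 44, 35), (3, 1, 32), (3, 8, 30), (1, 29, 63), (1, 5, 71), (2, 68, 60), (1, 12, 0), (2, 22, 9), (3, 46, 26), (0, 46, 70), (2, 81, 67), (3, 1, 41), (2, 75, 26), (0, 62, 7), (0, 50, 27), (3, 87, 69), (0, 84, 10), (0, 60, 10), (2, 1, 3), (2, 64, 47), (3, 21, 30), (2, 12, 44), (1, 65, 10), (0, 42, 63), (1, 11, 14), (2, 38, 57), (1, 54, 66), (2, 34, 23), (0, 23, 59), (3, 36, 64), (3, 66, 65), (0, 69, 2), (2, 57, 36), (2, 73, 29), (1, 71, 2), (2, 63, 65), (0, 54, 7), (0, 15, 8), (2, 7, 9),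 (3, 63, 22), (3, 33, 37), (3, 61, 31), (0, 64, 40), (3, 11, 42), (0, 67, 44), (3, 46, 14), (3, 32, 56), (0, 50, 64), (1, 23, 17), (2, 26, 27), (0, 40, 10), (0, 16, 26), (3, 27, 3), (0, 12, 45), (2, 42, 0), (2, 19, 44), (1, 67, 10), (3, 1, 19), (2, 85, 22), (3, 71, 12), (3, 9, 56), (1, 64, 22), (0, 92, 19), (0, 13, 65), (3, 83, 3), (3, 55, 17), (1, 4, 11), (1, 26, 46), (2, 40, 3), (2, 30, 45), (0, 42, 40), (0, 68, 14), (3, 11, 8), (0, 89, 53), (2, 27, 27), (2, 53, 14), (2, 56, 57), (2, 60, 43), (2, 29, 49), (3, 13, 25), (1, 31, 10), (1, 57, 10), (3, 45, 55), (1, 60, 67), (1, 81, 50), (1, 64, 23), (2, 68, 38), (1, 11, 69), (1, 81, 20), (1, 2, 21), (2, 39, 1), (2, 39, 64), (0, 59, 40), (1, 66, 54), (3, 85, 61), (3, 61, 21), (3, 35, 52), (3, 3, 6), (1, 19, 23), (0, 86, 3), (2, 16, 63), (2, 85, 65), (2, 2, 8), (1, 42, 9), (2, 30, 21), (2,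 81, 71), (3, 91, 58), (3, 57, 7), (3, 18, 36), (1, 35, 23), (0, 47, 21), (3, 69, 12), (1, 75, 31), (3, 37, 43), (1, 24, 47), (1, 63, 60), (3, 37, 67), (2, 94, 17), (1, 93, 18), (2, 20, 8), (3, 5, 18), (2, 39, 19), (1, 53, 31), (3, 32, 17), (2, 65, 58), (2, 80, 20), (0, 3, 56), (1, 44, 26), (1, 39, 31), (3, 12, 9), (3, 71, 8), (3, 85, 32), (1, 72, 57), (1, 68, 10), (3, 56, 38), (2, 82, 70), (1, 74, 28), (1, 70, 22), (0, 30, 10), (0, 12, 24), (2, 14, 51), (0, 8, 38), (1, 34, 35), (3, 84, 27), (2, 51, 2), (2, 22, 27), (0, 63, 63), (1, 51, 45), (2, 66, 35), (2, 9, 64), (0, 53, 44), (2, 30, 69), (1, 70, 39), (0, 36, 65), (1, 41, 14), (3, 90, 2), (3, 82, 1), (1, 50, 30), (1, 31, 53), (0, 57, 40), (1, 43, 6), (2, 75, 15), (0, 56, 53), (1, 5, 41), (2, 22, 12), (2, 64, 70), (0, 18, 50), (0, 58, 21), (3, 8, 23), (2, 82, 18), (2, 88, 6), (2, 49,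 1), (0, 77, 19), (3, 4, 14), (1, 18, 26), (2, 91, 9), (3, 83, 63), (1, 35, 20), (1, 60, 24), (1, 84, 35), (3, 10, 57), (1, 32, 35), (1, 73, 59), (0, 79, 33), (2, 52, 4), (3, 48, 42), (3, 30, 39), (2, 28, 13), (3, 1, 18), (0, 91, 66), (1, 35, 44), (0, 19, 29), (0, 33, 16), (1, 57, 6), (0, 24, 71), (0, 48, 70), (3, 9, 7), (1, 84, 10), (0, 27, 25), (3, 72, 25), (2, 45, 24), (1, 61, 11), (2, 82, 63), (1, 84, 3), (1, 42, 63), (3, 66, 48), (0, 57, 36), (1, 11, 71), (2, 51, 5), (0, 4, 15), (0, 44, 65), (1, 69, 40), (2, 77, 26), (0, 91, 54), (3, 54, 0), (0, 64, 14), (1, 29, 70), (1, 56, 57), (1, 89, 12), (2, 36, 60), (1, 73, 49), (0, 65, 8), (2, 22, 33), (0, 16, 45), (3, 10, 64), (2, 69, 58), (3, 67, 48), (3, 2, 70), (1, 29, 26), (3, 33, 49), (1, 82, 8), (2, 94, 69), (1, 58, 22), (2, 46, 51), (3, 68, 10), (2, 70, 47), (0, 3, 0), (2, 62, 20),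 (1, 23, 61), (2, 66, 63), (1, 62, 58), (3, 94, 71), (3, 67, 37), (3, 60, 15), (1, 81, 34), (3, 19, 65), (3, 59, 14), (1, 92, 64), (0, 6, 17), (2, 23, 34), (3, 29, 41), (0, 6, 20), (0, 21, 13), (3, 86, 0), (1, 62, 14), (1, 40, 3), (1, 53, 44), (2, 51, 12), (3, 36, 49), (3, 89, 10), (1, 40, 48), (3, 21, 35), (1, 35, 69), (1, 65, 35), (2, 79, 6), (1, 41, 4), (2, 13, 40), (3, 26, 61), (1, 51, 7), (2, 8, 65), (0, 32, 51), (0, 49, 7), (1, 1, 2), (3, 7, 71), (1, 81, 59), (1, 66, 63), (3, 73, 59), (2, 29, 3), (1, 61, 43), (1, 74, 34), (3, 16, 31), (0, 35, 29), (3, 15, 10), (1, 33, 16), (2, 77, 15), (3, 83, 4), (1, 19, 29), (0, 8, 2), (0, 25, 27), (1, 67, 26), (0, 28, 3), (0, 35, 41), (2, 59, 8), (0, 60, 70), (3, 70, 48), (2, 42, 57), (3, 26, 45), (2, 73, 57), (1, 70, 23), (0, 43, 52), (1, 38, 12), (3, 28, 7), (2, 75, 60), (0, 50, 52), (3, 64,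 70), (1, 66, 57), (0, 62, 39), (1, 69, 64), (3, 61, 15), (0, 93, 46), (0, 2, 53), (3, 58, 54), (0, 58, 69), (2, 67, 64), (2, 57, 22), (2, 65, 15), (0, 39, 33), (1, 65, 8), (2, 66, 13), (0, 35, 16), (0, 20, 20), (1, 77, 49), (3, 72, 51), (0, 8, 0), (3, 16, 9), (0, 3, 30), (3, 29, 31), (1, 89, 49), (0, 10, 38), (3, 29, 59), (0, 89, 18), (1, 66, 58), (3, 51, 64), (3, 39, 3), (3, 60, 64), (3, 21, 69), (3, 71, 27), (1, 57, 63), (0, 75, 29), (0, 89, 69), (0, 87, 25), (2, 43, 58), (1, 10, 48), (2, 40, 68), (2, 34, 38), (2, 21, 1), (2, 81, 41), (1, 47, 5), (2, 12, 39), (3, 64, 35), (1, 59, 5), (0, 51, 11), (0, 31, 43), (0, 35, 45), (2, 32, 35), (1, 68, 60), (3, 85, 49), (3, 7, 12), (2, 23, 48), (3, 63, 60), (1, 35, 70), (1, 35, 59), (2, 46, 43), (3, 82, 36), (0, 56, 35), (3, 68, 67), (3, 87, 42), (1, 26, 52), (0, 42, 0), (2, 14, 60), (3, 2, 6),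 (1, 83, 3), (0, 94, 70), (2, 45, 54), (3, 65, 20), (1, 5, 1), (1, 27, 45), (0, 50, 45), (2, 80, 32), (0, 13, 13), (1, 37, 44)]

/-- Entries. -/
def alphaEnt34 : List (ℕ × ℕ × ℕ) := [(1, 54, 6), (1, 56, 64), (0, 21, 44), (1, 63, 47), (2, 40, 65), (3, 55, 12), (1, 82, 27), (0, 49, 44), (0, 36, 57), (1, 18, 22), (2, 16, 34), (3, 21, 10), (2, 3, 6), (1, 58, 41), (0, 4, 41), (0, 92, 0), (1, 45, 10), (2, 47, 34), (2, 52, 18), (3, 30, 21), (3, 19, 44), (0, 14, 36), (0, 81, 12), (3, 52, 7), (3, 87, 59), (2, 59, 38), (0, 30, 33), (2, 59, 48), (2, 40, 0), (2, 53, 70), (2, 67, 44), (2, 92, 26), (0, 6, 65), (1, 18, 68), (2, 76, 8), (0, 85, 41), (3, 55, 8), (3, 77, 29), (2, 86, 18), (0, 32, 52), (0, 10, 7), (2, 23, 71), (1, 7, 40), (0, 36, 12), (1, 77, 60), (0, 12, 41), (3, 44, 24), (0, 66, 16), (0, 70, 69), (3, 53, 36), (1, 93, 33), (3, 65, 10),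 (3, 66, 2), (3, 93, 38), (2, 7, 23), (3, 38, 57), (3, 42, 71), (1, 8, 6), (1, 24, 49), (1, 94, 33), (3, 21, 52), (3, 36, 12), (1, 32, 16), (2, 9, 52), (3, 83, 61), (2, 59, 53), (3, 12, 18), (3, 1, 29), (3, 32, 1), (3, 16, 21), (3, 89, 62), (1, 14, 26), (2, 35, 66), (3, 47, 16), (2, 82, 68), (3, 13, 5), (0, 86, 10), (3, 44, 47), (3, 49, 27), (1, 45, 25), (0, 44, 11), (1, 1, 30), (0, 4, 8), (1, 54, 25), (0, 79, 23), (3, 60, 48), (3, 89, 18), (0, 35, 32), (1, 64, 13), (0, 52, 10), (3, 55, 70), (1, 46, 0), (2, 56, 70), (2, 39, 5), (3, 51, 4), (2, 7, 33), (0, 87, 13), (3, 51, 12), (3, 18, 15), (0, 80, 41), (3, 23, 65), (0, 80, 47), (3, 90, 9), (3, 50, 54), (2, 11, 3), (3, 3, 47), (1, 81, 5), (2, 53, 9), (2, 94, 25), (2, 77, 1), (3, 64, 60), (2, 57, 17), (1, 80, 0), (0, 71, 25), (3, 31, 33), (0, 66, 12), (1, 16, 4), (3, 81, 36), (2, 61, 68),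 (1, 67, 40), (0, 64, 51), (3, 70, 18), (3, 23, 41), (3, 26, 67), (3, 31, 0), (0, 34, 13), (0, 16, 36), (2, 65, 65), (1, 29, 37), (2, 46, 70), (2, 29, 68), (0, 65, 36), (0, 16, 68), (0, 2, 55), (3, 60, 29), (3, 22, 9), (1, 94, 20), (2, 81, 54), (2, 64, 67), (3, 85, 13), (3, 10, 37), (2, 48, 9), (3, 34, 15), (2, 48, 17), (3, 43, 43), (1, 41, 9), (3, 60, 60), (1, 50, 20), (0, 30, 24), (1, 51, 25), (1, 2, 11), (2, 55, 60), (2, 9, 31), (2, 31, 57), (0, 57, 41), (3, 9, 17), (1, 62, 26), (3, 51, 37), (1, 22, 0), (0, 58, 56), (3, 4, 18), (2, 27, 57), (0, 33, 8), (0, 33, 5), (0, 22, 30), (2, 30, 52), (2, 36, 2), (2, 80, 56), (3, 85, 30), (2, 76, 21), (1, 9, 51), (3, 24, 15), (3, 37, 33), (1, 68, 65), (2, 44, 63), (3, 50, 13), (1, 87, 45), (0, 50, 59), (0, 37, 69), (2, 95, 2), (3, 57, 63), (2, 57, 38), (2, 35, 38), (0, 82, 39), (1, 19, 51), (3,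 10, 32), (2, 84, 19), (2, 38, 33), (2, 92, 20), (3, 24, 32), (3, 83, 25), (1, 37, 51), (2, 57, 56), (0, 8, 61), (2, 7, 37), (3, 50, 38), (0, 12, 13), (2, 47, 65), (1, 71, 42), (1, 71, 24), (1, 8, 55), (1, 45, 9), (2, 50, 44), (1, 64, 46), (2, 65, 42), (3, 33, 47), (2, 26, 36), (0, 53, 43), (1, 39, 53), (1, 82, 61), (3, 62, 60), (2, 16, 41), (2, 90, 48), (2, 8, 31), (2, 18, 55), (2, 89, 31), (1, 78, 23), (3, 78, 31), (0, 29, 19), (1, 45, 29), (1, 18, 11), (1, 24, 7), (2, 48, 31), (3, 91, 10), (0, 64, 57), (3, 94, 60), (3, 35, 48), (2, 80, 26), (1, 71, 59), (1, 52, 29), (2, 5, 7), (0, 69, 20), (2, 13, 20), (2, 39, 27), (2, 55, 12), (2, 3, 68), (1, 85, 60), (0, 39, 18), (0, 48, 3), (3, 73, 26), (2, 56, 34), (1, 95, 0), (2, 30, 56), (2, 77, 41), (3, 54, 29), (2, 2, 47), (3, 14, 22), (3, 1, 15), (0, 35, 42), (3, 35, 40), (0, 47, 34), (3, 65,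 2), (3, 12, 24), (1, 79, 12), (0, 16, 2), (2, 53, 6), (1, 27, 9), (3, 59, 48), (3, 6, 58), (3, 55, 10), (1, 62, 36), (1, 34, 56), (3, 63, 71), (0, 74, 38), (0, 29, 28), (0, 91, 29), (1, 83, 60), (0, 12, 58), (3, 74, 3), (0, 66, 39), (0, 18, 25), (3, 66, 46), (0, 31, 35), (1, 57, 32), (3, 80, 60), (1, 55, 34), (0, 67, 35), (1, 3, 48), (2, 34, 37), (2, 76, 18), (2, 31, 63), (3, 58, 28), (1, 15, 6), (2, 43, 24), (2, 82, 26), (0, 63, 56), (1, 33, 9), (0, 13, 14), (3, 91, 49), (3, 59, 56), (0, 37, 68), (0, 77, 43), (2, 23, 11), (3, 64, 45), (3, 37, 8), (0, 13, 3), (3, 44, 68), (3, 41, 13), (2, 54, 48), (2, 4, 20), (1, 40, 2), (2, 44, 40), (2, 93, 60), (1, 47, 0), (1, 36, 1), (1, 64, 62), (0, 44, 33), (3, 27, 14), (3, 74, 39), (1, 4, 21), (2, 62, 65), (3, 7, 23), (2, 24, 63), (0, 67, 19), (1, 68, 18), (3, 56, 33), (0, 13, 36), (1, 71, 26),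 (3, 71, 67), (0, 90, 23), (0, 24, 21), (3, 74, 46), (1, 77, 56), (0, 86, 17), (1, 43, 69), (3, 29, 40), (1, 4, 65), (1, 12, 51), (3, 23, 22), (3, 67, 33), (0, 1, 62), (0, 57, 55), (0, 62, 10), (1, 53, 68), (1, 40, 6), (1, 40, 27), (0, 69, 59), (3, 14, 30), (0, 66, 44), (3, 94, 53), (1, 91, 4), (0, 92, 10), (1, 44, 59), (0, 71, 36), (1, 38, 63), (3, 37, 21), (2, 32, 9), (1, 10, 37), (1, 86, 33), (1, 3, 64), (1, 92, 68), (3, 44, 10), (1, 32, 34), (3, 23, 54), (2, 5, 48), (2, 62, 11), (1, 46, 52), (1, 35, 0), (3, 87, 39), (1, 40, 64), (1, 56, 71), (0, 47, 53), (3, 81, 2), (0, 91, 5), (3, 39, 42), (2, 92, 63), (0, 93, 38), (3, 36, 29), (2, 69, 11), (2, 9, 39), (2, 32, 60), (3, 51, 43), (0, 94, 16), (0, 84, 24), (2, 72, 3), (1, 59, 22), (0, 65, 28), (0, 39, 60), (3, 45, 9), (2, 6, 29), (0, 78, 13), (3, 47, 54), (0, 40, 47), (2, 21, 8), (2,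 21, 46), (1, 70, 32), (3, 6, 71), (3, 42, 8), (0, 59, 27), (1, 44, 70), (3, 14, 58), (0, 18, 16), (2, 59, 45), (1, 66, 70), (1, 9, 47), (2, 50, 51), (2, 7, 32), (0, 53, 54), (0, 34, 62), (1, 48, 11)]

/-- Entries. -/
def alphaEnt35 : List (ℕ × ℕ × ℕ) := [(2, 13, 69), (2, 22, 26), (2, 85, 26), (1, 31, 1), (2, 81, 27), (3, 65, 57), (2, 41, 21), (0, 11, 22), (3, 27, 64), (2, 40, 23), (2, 55, 67), (3, 68, 30), (0, 69, 36), (0, 69, 23), (0, 44, 42), (1, 73, 43), (3, 11, 46), (1, 22, 24), (2, 3, 64), (0, 39, 57), (1, 40, 26), (2, 76, 3), (3, 93, 32), (0, 4, 10), (3, 49, 6), (2, 55, 45), (3, 44, 31), (2, 67, 28), (2, 80, 66), (1, 81, 33), (2, 22, 14), (1, 40, 46), (1, 8, 68), (0, 6, 48), (3, 77, 21), (3, 11, 70), (3, 33, 41), (1, 71, 50), (3, 62, 29), (3, 43, 67), (3, 66, 31), (1, 38, 11), (1, 11, 18), (3, 10, 45), (3, 8, 16), (3, 29, 24), (0,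 47, 8), (3, 63, 26), (1, 44, 18), (2, 90, 63), (3, 80, 26), (2, 1, 13), (3, 68, 69), (1, 12, 33), (2, 60, 55), (2, 71, 40), (2, 74, 19), (3, 79, 32), (1, 54, 4), (0, 83, 1), (2, 8, 47), (2, 48, 25), (2, 68, 42), (3, 86, 19), (0, 87, 11), (3, 10, 68), (1, 87, 65), (1, 28, 1), (1, 48, 0), (3, 91, 62), (3, 82, 26), (1, 43, 18), (3, 49, 38), (1, 42, 67), (3, 18, 17), (2, 68, 63), (3, 75, 18), (0, 89, 9), (3, 56, 14), (3, 13, 38), (0, 69, 44), (3, 63, 63), (2, 55, 55), (3, 50, 10), (0, 5, 15), (0, 12, 63), (0, 61, 45), (1, 57, 12), (2, 13, 6), (3, 64, 7), (3, 50, 41), (3, 61, 40), (3, 12, 56), (1, 8, 50), (1, 40, 30), (2, 65, 70), (3, 35, 58), (2, 78, 10), (1, 57, 46), (0, 81, 34), (1, 80, 69), (1, 60, 5), (0, 54, 43), (2, 72, 35), (2, 19, 65), (0, 3, 31), (3, 40, 66), (1, 4, 56), (0, 80, 2), (3, 75, 13), (0, 23, 61), (1, 8, 48), (2, 6, 60),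 (1, 92, 61), (3, 19, 7), (0, 62, 58), (2, 45, 34), (1, 61, 67), (2, 58, 17), (0, 13, 71), (0, 80, 14), (1, 60, 23), (0, 85, 7), (0, 3, 67), (0, 17, 10), (2, 33, 7), (1, 6, 27), (2, 53, 60), (0, 70, 38), (0, 61, 0), (2, 51, 43), (0, 91, 18), (2, 70, 33), (2, 46, 16), (0, 70, 58), (0, 58, 64), (1, 24, 2), (3, 19, 13), (2, 65, 16), (3, 2, 54), (1, 47, 40), (0, 94, 47), (3, 8, 49), (2, 61, 65), (3, 41, 15), (3, 34, 36), (0, 35, 4), (0, 50, 54), (2, 23, 28), (1, 9, 55), (3, 93, 7), (2, 43, 21), (0, 8, 27), (3, 90, 18), (1, 34, 10), (3, 50, 22), (1, 13, 63), (2, 46, 55), (0, 21, 15), (1, 10, 22), (2, 32, 0), (2, 53, 45), (0, 56, 52), (2, 21, 65), (3, 91, 42), (2, 56, 19), (1, 29, 45), (2, 33, 71), (3, 29, 54), (2, 59, 0), (1, 9, 12), (2, 75, 38), (1, 37, 29), (1, 1, 59), (3, 59, 34), (1, 61, 65), (3, 56, 8), (3, 54, 53), (2, 65, 51), (3, 61,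 52), (0, 35, 37), (3, 1, 70), (3, 23, 27), (0, 11, 58), (1, 56, 42), (2, 73, 17), (2, 43, 57), (1, 2, 9), (2, 51, 59), (3, 77, 52), (1, 2, 61), (2, 14, 41), (0, 66, 34), (1, 3, 35), (1, 39, 71), (2, 63, 60), (0, 24, 16), (1, 36, 68), (3, 15, 23), (0, 61, 32), (1, 48, 14), (3, 6, 25), (3, 33, 14), (1, 82, 35), (0, 35, 5), (3, 54, 54), (2, 56, 7), (0, 44, 69), (0, 26, 14), (0, 3, 34), (0, 55, 49), (1, 87, 47), (0, 6, 34), (1, 81, 40), (3, 44, 28), (1, 4, 23), (0, 67, 47), (1, 36, 66), (2, 10, 7), (3, 84, 32), (2, 65, 44), (3, 38, 17), (3, 34, 20), (2, 6, 30), (0, 85, 25), (0, 73, 14), (2, 77, 70), (3, 18, 0), (1, 47, 67), (3, 68, 52), (0, 81, 64), (3, 81, 13), (2, 21, 23), (2, 1, 31), (3, 29, 29), (3, 38, 26), (2, 43, 16), (2, 52, 13), (1, 32, 31), (3, 42, 25), (3, 55, 45), (0, 71, 47), (2, 93, 32), (0, 23, 12), (0, 33, 63), (3, 24, 14),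 (3, 52, 18), (3, 58, 19), (2, 9, 1), (3, 19, 66), (0, 51, 47), (0, 59, 4), (0, 65, 46), (2, 53, 11), (0, 32, 70), (1, 39, 19), (1, 80, 13), (0, 13, 33), (2, 62, 24), (2, 14, 31), (1, 11, 3), (3, 16, 58), (0, 5, 18), (0, 10, 21), (2, 61, 63), (2, 85, 16), (0, 94, 49), (3, 65, 51), (1, 81, 63), (3, 62, 24), (3, 29, 28), (0, 36, 69), (0, 73, 17), (2, 32, 39), (0, 56, 42), (3, 75, 28), (2, 12, 12), (1, 59, 69), (1, 66, 34), (0, 56, 13), (0, 75, 4), (3, 84, 15), (0, 90, 3), (2, 42, 9), (2, 83, 33), (2, 44, 57), (3, 75, 45), (3, 22, 8), (3, 49, 20), (1, 35, 68), (2, 8, 33), (0, 91, 15), (1, 10, 6), (1, 77, 0), (0, 7, 9), (0, 43, 1), (1, 60, 3), (1, 9, 54), (0, 74, 4), (2, 93, 51), (0, 2, 16), (0, 36, 66), (3, 48, 71), (1, 29, 62), (1, 29, 34), (2, 38, 17), (3, 16, 10), (3, 93, 19), (2, 65, 12), (1, 58, 68), (3, 13, 27), (2, 16, 55), (2, 49,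 41), (2, 93, 28), (0, 54, 8), (1, 48, 54), (2, 55, 33), (0, 38, 23), (1, 11, 24), (1, 19, 50), (2, 91, 50), (1, 53, 20), (0, 70, 26), (1, 44, 1), (1, 23, 52), (2, 75, 17), (2, 7, 0), (3, 64, 14), (0, 63, 60), (2, 61, 55), (0, 19, 14), (2, 86, 30), (2, 44, 30), (3, 49, 69), (3, 87, 1), (3, 58, 51), (3, 51, 50), (1, 70, 62), (2, 63, 29), (0, 49, 4), (2, 48, 39), (2, 18, 36), (1, 38, 2), (2, 24, 70), (2, 25, 4), (0, 19, 23), (3, 8, 64), (2, 94, 64), (1, 59, 34), (1, 53, 56), (3, 47, 36), (3, 82, 7), (3, 94, 35), (3, 59, 32), (0, 79, 26), (0, 62, 45), (0, 92, 44), (1, 58, 20), (0, 6, 38), (3, 16, 25), (0, 43, 7), (3, 40, 31), (0, 59, 7), (3, 16, 68), (0, 39, 65), (2, 22, 13), (1, 55, 63), (2, 67, 49), (2, 8, 29), (2, 33, 10), (1, 3, 68), (0, 12, 36), (2, 70, 64), (2, 2, 11), (0, 33, 1), (1, 7, 48), (0, 86, 25), (0, 40, 56), (2, 45, 11), (0,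 29, 17), (0, 11, 5), (3, 33, 44), (3, 24, 44), (3, 79, 11), (1, 94, 52), (3, 92, 55), (3, 68, 15), (2, 51, 63), (0, 72, 35), (1, 48, 64), (0, 90, 65), (1, 27, 42), (0, 12, 62), (2, 54, 14), (2, 90, 44), (0, 93, 14), (0, 1, 54), (3, 81, 38), (3, 24, 17), (2, 24, 55)]

/-- Entries. -/
def alphaEnt36 : List (ℕ × ℕ × ℕ) := [(1, 1, 44), (3, 70, 30), (1, 57, 50), (2, 57, 70), (3, 65, 22), (2, 57, 24), (3, 92, 71), (3, 65, 17), (3, 63, 41), (3, 1, 24), (3, 21, 66), (1, 55, 14), (0, 55, 44), (1, 25, 23), (0, 33, 64), (2, 87, 4), (0, 48, 10), (0, 45, 52), (2, 8, 49), (0, 64, 39), (1, 12, 65), (3, 23, 6), (1, 61, 45), (2, 57, 16), (1, 77, 55), (0, 14, 50), (2, 48, 22), (2, 11, 18), (1, 73, 41), (3, 24, 4), (0, 81, 11), (2, 50, 53), (0, 45, 68), (0, 54, 24), (3, 39, 30), (1, 25, 0), (2, 57, 11), (3, 87, 64), (1, 33, 32), (2, 90, 32), (1, 65, 41),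 (2, 32, 22), (1, 85, 27), (2, 64, 32), (1, 21, 62), (2, 46, 67), (2, 27, 38), (3, 72, 56), (0, 57, 23), (0, 70, 54), (3, 2, 69), (2, 57, 21), (0, 13, 27), (1, 80, 26), (2, 5, 41), (1, 29, 10), (3, 21, 43), (3, 64, 12), (2, 53, 20), (2, 62, 28), (1, 48, 43), (2, 14, 29), (0, 45, 48), (1, 60, 6), (3, 89, 71), (2, 68, 34), (1, 20, 7), (2, 29, 2), (2, 76, 26), (1, 61, 26), (0, 72, 68), (3, 83, 68), (3, 80, 31), (1, 85, 62), (2, 83, 19), (2, 26, 1), (2, 67, 70), (1, 34, 71), (1, 91, 6), (0, 19, 7), (3, 35, 65), (2, 66, 71), (0, 35, 43), (0, 24, 60), (0, 94, 26), (3, 8, 53), (0, 11, 64), (1, 58, 17), (0, 22, 24), (1, 15, 20), (3, 75, 11), (0, 79, 28), (3, 55, 15), (1, 73, 22), (3, 46, 11), (1, 87, 53), (3, 1, 4), (1, 47, 8), (0, 75, 65), (2, 73, 36), (2, 35, 11), (1, 89, 65), (2, 74, 33), (1, 81, 24), (3, 43, 40), (3, 1, 13), (1, 90, 43), (1,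 28, 6), (3, 62, 63), (2, 53, 12), (1, 64, 38), (1, 81, 9), (0, 91, 24), (2, 44, 17), (2, 90, 36), (0, 62, 46), (0, 34, 32), (2, 65, 6), (2, 6, 68), (2, 84, 12), (2, 56, 37), (3, 45, 22), (1, 89, 66), (1, 30, 59), (3, 44, 54), (2, 65, 18), (1, 79, 11), (3, 4, 35), (2, 91, 47), (2, 51, 70), (2, 14, 10), (0, 43, 49), (2, 65, 27), (1, 36, 38), (0, 63, 45), (1, 18, 25), (2, 68, 15), (1, 93, 53), (0, 3, 48), (2, 90, 14), (3, 39, 63), (2, 5, 71), (2, 6, 67), (3, 47, 4), (3, 13, 32), (0, 54, 27), (1, 48, 46), (0, 15, 4), (2, 66, 68), (3, 36, 20), (2, 67, 39), (2, 83, 59), (3, 4, 27), (1, 61, 13), (1, 50, 24), (0, 35, 13), (0, 71, 6), (3, 49, 50), (1, 56, 26), (1, 42, 37), (0, 89, 71), (2, 18, 28), (0, 46, 9), (2, 5, 27), (2, 56, 64), (1, 29, 40), (3, 80, 54), (2, 27, 71), (2, 81, 63), (2, 64, 39), (0, 34, 63), (3, 19, 6), (3, 89, 3), (1, 82,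 5), (1, 53, 15), (3, 55, 57), (2, 69, 2), (1, 29, 0), (2, 7, 18), (3, 87, 6), (0, 46, 24), (2, 61, 27), (0, 68, 58), (2, 32, 31), (2, 81, 58), (2, 72, 50), (2, 44, 68), (1, 21, 37), (1, 35, 61), (0, 66, 64), (1, 12, 47), (2, 39, 50), (2, 32, 58), (2, 63, 17), (0, 23, 22), (2, 31, 45), (2, 66, 40), (0, 34, 64), (3, 90, 13), (0, 4, 45), (2, 32, 40), (0, 18, 37), (2, 67, 6), (3, 7, 47), (0, 19, 32), (3, 30, 60), (1, 43, 39), (0, 55, 14), (3, 10, 47), (0, 57, 67), (0, 8, 18), (2, 12, 31), (3, 34, 63), (2, 36, 50), (0, 84, 2), (0, 77, 56), (3, 3, 61), (3, 58, 33), (1, 37, 14), (3, 54, 5), (2, 75, 37), (1, 37, 19), (1, 83, 49), (3, 2, 62), (2, 47, 19), (3, 55, 30), (1, 21, 39), (2, 29, 55), (3, 14, 49), (3, 1, 51), (0, 70, 48), (1, 69, 1), (0, 32, 56), (1, 95, 5), (2, 75, 31), (2, 1, 56), (3, 9, 71), (1, 73, 33), (2, 37, 52), (2, 88, 1), (1,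 13, 49), (0, 31, 22), (2, 90, 60), (2, 92, 16), (1, 44, 23), (2, 71, 36), (2, 27, 39), (2, 45, 66), (0, 94, 68), (1, 48, 61), (0, 62, 53), (2, 45, 71), (2, 91, 5), (1, 81, 2), (3, 81, 3), (1, 42, 12), (1, 62, 20), (0, 11, 39), (0, 38, 64), (0, 77, 45), (3, 44, 7), (0, 92, 27), (1, 10, 36), (3, 83, 24), (3, 18, 33), (0, 26, 44), (2, 93, 6), (2, 53, 63), (0, 48, 44), (3, 73, 9), (2, 67, 38), (1, 64, 48), (3, 53, 4), (2, 2, 37), (0, 1, 6), (3, 77, 20), (1, 13, 55), (1, 18, 6), (0, 23, 7), (3, 56, 5), (1, 35, 64), (1, 61, 34), (0, 73, 19), (2, 47, 12), (3, 7, 39), (3, 45, 1), (0, 72, 32), (0, 11, 52), (2, 75, 35), (1, 16, 39), (3, 93, 34), (2, 85, 64), (1, 26, 30), (1, 21, 8), (1, 81, 30), (0, 81, 39), (1, 13, 62), (1, 55, 22), (2, 80, 53), (1, 69, 21), (2, 39, 52), (2, 37, 48), (1, 92, 5), (0, 80, 24), (0, 74, 15), (2, 14, 46), (2, 37, 9),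 (1, 80, 16), (1, 59, 10), (3, 78, 16), (2, 71, 54), (3, 42, 51), (1, 66, 37), (2, 8, 32), (3, 68, 2), (0, 65, 9), (0, 1, 26), (3, 10, 59), (1, 50, 37), (0, 77, 62), (0, 73, 4), (0, 48, 65), (3, 31, 66), (0, 55, 11), (0, 13, 31), (1, 20, 4), (1, 55, 62), (1, 83, 59), (3, 60, 57), (2, 77, 21), (3, 57, 3), (0, 84, 36), (3, 39, 23), (3, 3, 70), (0, 77, 51), (3, 5, 30), (2, 65, 47), (1, 59, 66), (2, 6, 19), (0, 80, 46), (2, 89, 43), (0, 69, 70), (3, 83, 5), (3, 85, 55), (0, 66, 0), (0, 38, 53), (2, 35, 69), (3, 30, 28), (2, 52, 26), (2, 66, 26), (1, 82, 30), (2, 53, 18), (1, 42, 49), (3, 38, 67), (3, 10, 39), (0, 76, 13), (2, 2, 30), (3, 71, 35), (3, 11, 40), (3, 90, 63), (1, 18, 49), (2, 10, 9), (3, 69, 48), (0, 58, 2), (1, 10, 20), (3, 81, 67), (0, 49, 25), (0, 75, 58), (3, 5, 36), (2, 68, 1), (2, 23, 69), (1, 32, 57), (2, 51, 71), (0, 23,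 2), (3, 22, 23), (2, 72, 29), (2, 73, 31), (3, 1, 3), (2, 40, 20), (3, 71, 66), (0, 91, 69), (2, 71, 4), (3, 45, 19), (3, 43, 68), (2, 67, 18), (3, 29, 61), (1, 42, 48), (1, 72, 64), (2, 24, 47), (3, 28, 19), (3, 61, 59), (3, 85, 5), (1, 7, 45), (2, 31, 23), (3, 42, 16), (0, 36, 34), (0, 7, 43), (0, 30, 27), (1, 82, 66), (2, 73, 25)]

/-- Entries. -/
def alphaEnt37 : List (ℕ × ℕ × ℕ) := [(1, 43, 41), (1, 54, 31), (2, 51, 45), (1, 47, 44), (2, 75, 42), (0, 16, 13), (2, 87, 46), (0, 42, 21), (1, 42, 46), (2, 72, 54), (3, 87, 60), (0, 68, 55), (1, 37, 45), (1, 53, 24), (0, 53, 53), (1, 4, 49), (1, 71, 53), (3, 38, 62), (2, 39, 4), (0, 16, 35), (0, 3, 43), (3, 65, 33), (0, 91, 30), (1, 47, 52), (3, 52, 27), (3, 93, 20), (3, 60, 39), (2, 37, 42), (2, 58, 39), (3, 68, 46), (1, 5, 3), (1, 10, 30), (0, 83, 14), (0, 14, 27), (3, 21, 15), (3, 82,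 8), (3, 47, 50), (3, 10, 53), (0, 85, 1), (2, 33, 59), (0, 37, 3), (0, 92, 38), (3, 4, 60), (0, 7, 1), (0, 29, 42), (1, 77, 14), (0, 74, 70), (1, 17, 10), (3, 10, 12), (1, 29, 27), (1, 26, 37), (2, 64, 59), (2, 77, 44), (2, 77, 37), (2, 21, 12), (2, 91, 18), (3, 56, 31), (3, 6, 50), (0, 48, 12), (1, 21, 25), (2, 18, 47), (0, 16, 10), (3, 74, 50), (1, 65, 66), (2, 44, 65), (0, 65, 58), (3, 78, 8), (3, 37, 14), (2, 14, 40), (3, 58, 60), (0, 61, 14), (0, 68, 21), (1, 91, 11), (1, 28, 12), (3, 7, 14), (0, 75, 31), (0, 77, 22), (0, 62, 27), (1, 67, 18), (3, 90, 11), (3, 46, 18), (3, 31, 34), (0, 68, 59), (0, 54, 45), (3, 9, 27), (0, 31, 2), (1, 32, 33), (2, 23, 26), (0, 11, 23), (0, 4, 63), (1, 13, 54), (1, 70, 27), (0, 26, 42), (2, 52, 1), (1, 55, 27), (2, 33, 40), (1, 46, 7), (0, 60, 24), (3, 70, 2), (0, 92, 22), (0, 63, 65), (2, 90, 39),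 (0, 9, 29), (2, 82, 33), (3, 16, 8), (0, 73, 20), (2, 61, 45), (1, 72, 24), (2, 80, 68), (2, 45, 17), (1, 43, 62), (0, 53, 36), (3, 32, 55), (1, 21, 53), (1, 5, 66), (0, 70, 34), (0, 76, 33), (0, 41, 14), (2, 40, 5), (2, 37, 20), (3, 33, 27), (3, 78, 7), (2, 77, 60), (1, 42, 56), (2, 19, 69), (2, 24, 66), (2, 5, 38), (3, 60, 12), (0, 31, 59), (2, 18, 66), (2, 75, 25), (2, 51, 61), (1, 88, 1), (2, 87, 70), (0, 38, 10), (2, 68, 54), (3, 65, 1), (2, 58, 11), (3, 64, 40), (1, 19, 53), (1, 51, 24), (3, 83, 0), (0, 48, 18), (2, 5, 35), (1, 62, 17), (0, 68, 57), (1, 47, 17), (2, 70, 28), (2, 85, 25), (0, 23, 5), (2, 26, 15), (3, 46, 13), (0, 6, 36), (1, 18, 55), (1, 49, 25), (2, 42, 41), (1, 80, 22), (0, 31, 64), (2, 4, 54), (3, 19, 63), (0, 47, 18), (3, 6, 64), (3, 91, 13), (1, 34, 30), (2, 70, 27), (3, 11, 60), (1, 5, 67), (0, 38, 7), (0,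 72, 67), (3, 92, 48), (0, 44, 29), (1, 73, 56), (3, 91, 16), (0, 26, 24), (1, 2, 70), (0, 7, 29), (3, 69, 16), (2, 71, 41), (2, 4, 53), (1, 55, 5), (2, 26, 20), (1, 51, 5), (0, 82, 67), (1, 89, 40), (0, 48, 38), (0, 15, 32), (2, 84, 20), (2, 1, 60), (1, 8, 5), (3, 57, 19), (0, 51, 2), (3, 45, 15), (1, 58, 13), (1, 40, 17), (2, 13, 55), (2, 79, 20), (0, 55, 50), (1, 30, 56), (3, 51, 45), (3, 93, 11), (0, 1, 46), (2, 13, 17), (1, 79, 29), (0, 3, 47), (3, 37, 45), (3, 16, 11), (2, 87, 15), (3, 19, 54), (1, 33, 10), (0, 93, 8), (0, 10, 64), (3, 26, 53), (2, 44, 34), (0, 24, 58), (2, 56, 38), (2, 34, 71), (2, 94, 34), (0, 10, 30), (0, 16, 21), (3, 34, 68), (0, 8, 37), (1, 66, 71), (3, 35, 34), (3, 45, 67), (3, 23, 44), (0, 18, 26), (2, 40, 26), (3, 47, 10), (1, 40, 10), (3, 56, 16), (3, 8, 52), (1, 80, 64), (1, 39, 36), (0, 9, 43), (1, 4,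 3), (2, 61, 41), (2, 12, 54), (3, 36, 57), (0, 27, 64), (0, 67, 25), (2, 68, 51), (1, 68, 4), (1, 62, 71), (2, 74, 53), (2, 4, 68), (0, 43, 63), (0, 94, 37), (2, 60, 32), (2, 30, 53), (1, 49, 70), (1, 1, 9), (3, 53, 64), (3, 31, 51), (3, 68, 4), (0, 49, 41), (2, 77, 61), (3, 13, 28), (2, 3, 14), (3, 18, 14), (3, 93, 15), (2, 92, 1), (2, 61, 15), (1, 27, 51), (2, 72, 31), (0, 60, 22), (1, 10, 40), (3, 58, 24), (3, 87, 54), (2, 57, 50), (0, 5, 16), (3, 10, 35), (2, 72, 7), (2, 38, 29), (1, 31, 65), (3, 81, 17), (0, 50, 9), (3, 2, 36), (2, 85, 52), (3, 38, 7), (3, 90, 30), (2, 69, 16), (3, 87, 22), (3, 26, 18), (1, 7, 29), (1, 67, 55), (1, 69, 71), (3, 19, 17), (1, 50, 25), (0, 44, 5), (3, 65, 15), (0, 44, 45), (1, 78, 25), (3, 63, 3), (2, 11, 24), (1, 82, 57), (3, 90, 20), (2, 49, 44), (2, 20, 20), (2, 16, 15), (3, 58, 8), (2, 90, 17),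 (2, 46, 23), (0, 30, 50), (1, 18, 10), (3, 67, 68), (2, 69, 28), (1, 75, 37), (3, 11, 5), (3, 18, 69), (1, 15, 24), (2, 45, 50), (2, 29, 9), (0, 64, 29), (2, 72, 37), (1, 22, 6), (3, 71, 29), (2, 12, 25), (1, 58, 50), (1, 17, 5), (2, 2, 42), (0, 30, 42), (2, 27, 42), (1, 7, 6), (3, 91, 69), (2, 49, 10), (0, 36, 30), (1, 18, 12), (3, 12, 27), (2, 67, 62), (2, 47, 55), (1, 49, 20), (0, 94, 50), (3, 92, 14), (1, 90, 60), (2, 46, 66), (2, 38, 61), (1, 16, 52), (2, 49, 40), (1, 39, 20), (0, 34, 25), (0, 26, 35), (1, 5, 20), (0, 83, 66), (0, 66, 20), (3, 55, 26), (2, 87, 25), (3, 34, 38), (0, 14, 68), (2, 69, 50), (2, 5, 31), (2, 34, 17), (2, 38, 4), (1, 27, 60), (0, 59, 1), (1, 63, 43), (3, 19, 60), (2, 9, 37), (1, 93, 52), (3, 34, 70), (0, 57, 57), (1, 57, 5), (0, 74, 41), (2, 37, 7), (3, 66, 58), (0, 47, 47), (1, 50, 44), (3, 75, 25), (0,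 2, 2), (3, 4, 8), (1, 21, 61), (3, 70, 11), (3, 10, 29), (3, 30, 5), (2, 57, 29), (2, 72, 51), (0, 59, 48), (0, 74, 65), (3, 7, 50), (2, 7, 1), (0, 75, 70), (1, 46, 37), (1, 55, 12), (1, 74, 47), (0, 38, 21), (2, 73, 40), (2, 26, 57), (0, 59, 64), (0, 34, 6), (3, 94, 5), (1, 77, 68), (3, 76, 11), (3, 39, 17), (3, 71, 23), (1, 74, 31), (2, 21, 63), (1, 68, 34), (1, 75, 33), (3, 6, 20), (0, 4, 69), (0, 67, 22)]

/-- Entries. -/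
def alphaEnt38 : List (ℕ × ℕ × ℕ) := [(1, 3, 55), (3, 61, 45), (0, 34, 60), (2, 80, 51), (0, 73, 24), (1, 40, 49), (1, 38, 31), (1, 50, 61), (0, 11, 65), (0, 40, 29), (3, 29, 25), (0, 68, 11), (1, 46, 18), (1, 7, 12), (0, 65, 24), (2, 86, 12), (3, 68, 68), (1, 36, 6), (2, 85, 2), (1, 58, 71), (3, 5, 9), (2, 40, 36), (1, 77, 61), (2, 68, 71), (2, 21, 35), (2, 69, 26), (0, 32, 15), (1, 24, 68), (1, 40, 56), (2, 75, 68), (3, 45, 17), (3, 26, 68), (1, 77, 48), (3, 54, 21), (1, 4, 0), (2, 21, 31), (1, 92, 7), (0, 14, 60), (1, 65, 20), (3, 78, 20), (1, 40, 14), (2, 63, 42), (3, 63, 31), (0, 39, 4), (2, 43, 61), (2, 65, 59), (1, 35, 42), (1, 71, 39), (1, 4, 22), (3, 4, 16), (3, 67, 51), (0, 27, 70), (2, 44, 71), (0, 2, 71), (1, 64, 54), (1, 56, 19), (0, 62, 51), (1, 23, 49), (2, 22, 32), (0, 40, 42), (2, 39, 23), (2, 47, 59), (2, 24, 12), (3,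 59, 42), (2, 24, 39), (1, 45, 57), (0, 4, 49), (3, 58, 58), (2, 90, 56), (2, 69, 70), (1, 57, 28), (3, 80, 38), (1, 85, 34), (2, 83, 11), (0, 7, 49), (0, 30, 37), (2, 58, 16), (1, 25, 3), (2, 13, 39), (0, 67, 51), (2, 10, 35), (2, 94, 44), (3, 2, 7), (2, 75, 10), (0, 29, 44), (0, 26, 36), (2, 8, 42), (1, 34, 32), (3, 9, 50), (3, 46, 66), (3, 90, 3), (0, 51, 42), (0, 77, 52), (1, 87, 64), (1, 75, 58), (1, 31, 12), (0, 51, 71), (2, 50, 21), (3, 79, 24), (0, 55, 56), (1, 15, 31), (1, 32, 39), (2, 50, 38), (1, 38, 28), (0, 46, 12), (2, 23, 66), (0, 60, 34), (3, 89, 29), (3, 65, 28), (2, 60, 13), (3, 3, 34), (0, 47, 33), (0, 8, 24), (3, 74, 25), (1, 87, 2), (3, 19, 30), (2, 39, 38), (2, 49, 70), (1, 31, 31), (3, 46, 23), (0, 78, 9), (2, 47, 56), (0, 73, 71), (1, 31, 41), (0, 58, 65), (3, 49, 36), (0, 23, 40), (1, 77, 8), (3, 83, 58), (0, 15,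 24), (3, 89, 53), (1, 19, 46), (3, 33, 62), (2, 50, 50), (2, 61, 20), (2, 82, 50), (1, 27, 38), (3, 92, 13), (1, 89, 27), (1, 58, 57), (0, 26, 1), (1, 17, 0), (3, 78, 27), (0, 59, 67), (2, 24, 18), (3, 60, 68), (2, 58, 42), (2, 24, 54), (0, 66, 53), (2, 91, 22), (0, 87, 22), (0, 81, 52), (2, 59, 43), (0, 47, 36), (1, 72, 58), (1, 24, 0), (3, 82, 5), (1, 38, 20), (0, 71, 59), (3, 21, 18), (3, 75, 33), (0, 73, 51), (3, 18, 59), (3, 94, 26), (1, 62, 60), (1, 21, 3), (3, 19, 14), (1, 10, 17), (1, 23, 7), (2, 48, 2), (3, 81, 47), (0, 56, 18), (0, 5, 56), (2, 2, 46), (2, 86, 1), (2, 20, 26), (0, 12, 47), (0, 3, 66), (1, 72, 46), (0, 78, 26), (1, 62, 57), (1, 27, 44), (2, 36, 17), (1, 59, 48), (0, 75, 8), (1, 3, 29), (1, 26, 44), (0, 29, 41), (3, 68, 55), (2, 44, 7), (2, 75, 53), (1, 42, 70), (3, 67, 6), (0, 55, 12), (3, 19, 55), (2, 19, 33),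 (0, 37, 27), (1, 56, 60), (3, 44, 45), (2, 53, 4), (1, 63, 12), (3, 89, 66), (0, 75, 68), (3, 3, 38), (2, 16, 44), (0, 56, 37), (0, 91, 67), (2, 59, 58), (3, 13, 36), (0, 38, 35), (1, 44, 54), (1, 37, 40), (1, 61, 56), (2, 31, 48), (3, 9, 60), (1, 58, 44), (3, 21, 33), (1, 92, 57), (1, 42, 28), (2, 90, 47), (2, 62, 53), (1, 21, 38), (2, 6, 49), (1, 95, 7), (1, 30, 16), (1, 45, 1), (1, 70, 35), (3, 40, 52), (2, 74, 14), (3, 34, 51), (3, 21, 2), (0, 59, 51), (3, 62, 15), (2, 66, 3), (1, 10, 65), (0, 77, 16), (3, 85, 41), (0, 40, 11), (3, 68, 25), (1, 36, 24), (3, 78, 17), (0, 89, 56), (2, 67, 69), (1, 4, 58), (1, 13, 39), (3, 69, 69), (0, 74, 3), (2, 93, 39), (2, 50, 17), (2, 5, 9), (1, 1, 61), (1, 63, 55), (0, 23, 67), (2, 43, 64), (1, 55, 30), (1, 29, 43), (0, 85, 58), (3, 66, 52), (0, 59, 28), (3, 65, 3), (1, 54, 58), (2, 4, 3), (0,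 58, 31), (2, 89, 46), (2, 63, 18), (2, 51, 11), (2, 1, 51), (2, 7, 12), (1, 54, 38), (2, 74, 48), (2, 62, 1), (0, 90, 42), (1, 69, 45), (3, 86, 25), (1, 19, 11), (3, 70, 0), (3, 7, 18), (2, 74, 31), (2, 49, 22), (2, 12, 49), (3, 83, 49), (3, 23, 3), (3, 56, 12), (2, 28, 14), (1, 12, 40), (2, 89, 3), (1, 21, 50), (3, 36, 43), (3, 61, 62), (2, 83, 24), (0, 3, 23), (1, 94, 0), (1, 8, 8), (0, 80, 35), (1, 26, 59), (2, 92, 6), (3, 30, 0), (1, 66, 62), (1, 74, 48), (3, 11, 67), (2, 32, 5), (3, 82, 60), (1, 87, 1), (0, 56, 40), (3, 73, 4), (0, 44, 30), (0, 86, 30), (3, 93, 30), (0, 69, 4), (3, 58, 29), (1, 60, 56), (0, 40, 35), (3, 1, 58), (1, 9, 18), (0, 27, 41), (2, 1, 62), (2, 91, 15), (3, 44, 43), (1, 40, 70), (2, 72, 32), (3, 44, 9), (1, 60, 30), (1, 38, 59), (1, 94, 39), (0, 13, 46), (1, 52, 7), (3, 38, 65), (2, 77, 30), (1, 81, 51), (2,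 56, 5), (1, 73, 67), (2, 51, 68), (0, 11, 62), (1, 6, 56), (1, 27, 48), (1, 19, 52), (1, 47, 22), (1, 50, 39), (3, 41, 12), (2, 68, 48), (0, 6, 18), (1, 23, 62), (3, 12, 20), (3, 81, 63), (0, 67, 57), (1, 81, 16), (2, 10, 45), (2, 32, 64), (2, 47, 8), (1, 13, 27), (3, 9, 42), (2, 36, 6), (3, 12, 17), (0, 43, 33), (0, 62, 28), (3, 73, 66), (3, 53, 20), (0, 91, 50), (2, 14, 18), (1, 54, 19), (1, 79, 2), (0, 33, 30), (1, 86, 27), (1, 8, 34), (3, 80, 53), (0, 69, 53), (0, 51, 0), (0, 92, 32), (1, 2, 31), (3, 91, 25), (1, 29, 64), (0, 47, 27), (1, 58, 59), (0, 63, 22), (1, 69, 26), (3, 63, 30), (3, 23, 57), (2, 81, 16), (1, 19, 32), (1, 37, 32), (2, 7, 64), (0, 50, 36), (3, 36, 50), (0, 57, 19), (1, 32, 26), (0, 27, 31), (1, 34, 19), (1, 40, 4), (0, 66, 51), (2, 89, 42), (0, 15, 6), (1, 70, 29), (1, 67, 37), (3, 62, 69), (1, 24, 60), (3, 63,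 17), (0, 40, 23), (3, 59, 50), (0, 91, 57), (1, 64, 56)]

/-- Entries. -/
def alphaEnt39 : List (ℕ × ℕ × ℕ) := [(2, 46, 24), (0, 81, 22), (1, 45, 60), (1, 62, 38), (2, 51, 34), (3, 67, 46), (2, 79, 8), (3, 8, 65), (0, 7, 41), (2, 46, 54), (2, 87, 2), (2, 14, 20), (1, 13, 37), (2, 21, 66), (2, 69, 48), (3, 74, 8), (3, 24, 35), (0, 27, 23), (2, 67, 30), (0, 2, 30), (2, 62, 39), (0, 11, 16), (0, 14, 29), (0, 72, 36), (0, 22, 3), (2, 2, 29), (3, 7, 45), (3, 80, 61), (3, 11, 18), (3, 67, 2), (3, 31, 60), (2, 4, 10), (0, 70, 23), (3, 80, 29), (1, 26, 3), (1, 31, 69), (0, 69, 12), (0, 49, 3), (2, 53, 41), (1, 21, 6), (2, 94, 53), (1, 13, 44), (3, 10, 30), (0, 74, 71), (1, 32, 59), (3, 37, 30), (2, 19, 19), (0, 89, 33), (2, 40, 31), (2, 51, 65), (2, 86, 9), (3, 24, 53), (3, 21, 49), (1, 42, 39), (3, 70, 67), (1, 83, 39), (0, 29, 11), (0, 55,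 41), (1, 53, 53), (3, 12, 33), (2, 12, 67), (0, 13, 25), (1, 19, 56), (1, 76, 31), (3, 66, 49), (3, 43, 3), (3, 87, 46), (1, 34, 17), (2, 42, 56), (1, 53, 25), (0, 53, 56), (2, 71, 10), (1, 14, 64), (0, 94, 0), (0, 34, 49), (3, 15, 11), (0, 63, 46), (2, 43, 30), (0, 73, 9), (1, 92, 63), (2, 19, 47), (2, 82, 60), (2, 39, 29), (2, 37, 36), (2, 73, 15), (3, 5, 51), (1, 1, 34), (0, 38, 2), (1, 58, 56), (1, 8, 39), (1, 46, 40), (2, 47, 50), (3, 4, 12), (0, 1, 44), (2, 60, 31), (2, 53, 16), (0, 12, 18), (1, 9, 65), (2, 11, 48), (0, 50, 28), (0, 7, 3), (1, 93, 36), (2, 50, 23), (3, 61, 55), (1, 12, 37), (0, 9, 33), (0, 49, 59), (1, 71, 65), (3, 2, 41), (3, 7, 37), (1, 48, 36), (1, 20, 12), (3, 19, 1), (2, 63, 25), (3, 38, 13), (1, 14, 31), (1, 3, 10), (3, 10, 44), (0, 83, 44), (2, 13, 27), (1, 66, 36), (2, 36, 67), (3, 65, 30), (2, 81, 18),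 (0, 53, 20), (1, 12, 60), (3, 87, 68), (0, 82, 2), (3, 32, 6), (0, 5, 7), (3, 24, 2), (0, 34, 11), (1, 16, 44), (0, 33, 0), (1, 17, 3), (3, 7, 28), (0, 52, 9), (2, 6, 8), (0, 5, 30), (1, 46, 46), (0, 64, 61), (0, 27, 47), (0, 35, 50), (2, 70, 12), (1, 39, 65), (3, 42, 69), (0, 58, 7), (1, 36, 42), (1, 85, 7), (3, 77, 50), (0, 48, 19), (2, 77, 71), (0, 50, 19), (1, 51, 0), (1, 73, 61), (2, 14, 66), (2, 24, 17), (0, 89, 41), (1, 58, 61), (1, 63, 37), (0, 92, 11), (2, 16, 52), (0, 85, 14), (2, 33, 43), (2, 67, 50), (1, 73, 14), (3, 95, 4), (2, 48, 56), (0, 9, 53), (3, 10, 7), (0, 13, 64), (1, 78, 7), (0, 73, 67), (2, 56, 3), (1, 83, 35), (0, 2, 47), (0, 37, 63), (3, 26, 63), (2, 53, 57), (3, 68, 48), (2, 42, 49), (3, 46, 36), (1, 67, 0), (0, 91, 63), (1, 76, 14), (0, 39, 27), (2, 11, 58), (2, 13, 5), (0, 65, 43), (0, 71, 12), (2, 59, 50),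 (3, 9, 9), (2, 19, 9), (0, 85, 13), (2, 37, 71), (2, 68, 12), (2, 64, 18), (2, 9, 69), (2, 44, 60), (0, 83, 42), (2, 37, 16), (0, 90, 49), (3, 23, 1), (2, 29, 54), (3, 63, 16), (0, 37, 57), (0, 10, 55), (3, 62, 17), (1, 14, 50), (3, 56, 32), (2, 80, 47), (1, 90, 53), (2, 50, 36), (3, 5, 57), (1, 90, 69), (1, 6, 62), (0, 27, 40), (0, 85, 47), (3, 13, 22), (3, 7, 49), (3, 34, 11), (3, 30, 3), (0, 84, 12), (3, 66, 10), (2, 55, 44), (1, 94, 36), (3, 71, 21), (2, 68, 32), (1, 65, 56), (3, 2, 59), (3, 75, 20), (0, 31, 25), (2, 6, 11), (3, 55, 5), (2, 57, 51), (0, 15, 0), (0, 87, 21), (0, 44, 67), (0, 48, 60), (2, 78, 23), (0, 50, 24), (2, 60, 53), (1, 49, 50), (2, 10, 30), (1, 63, 52), (1, 90, 32), (3, 55, 46), (2, 29, 29), (2, 1, 10), (1, 2, 26), (3, 44, 34), (0, 57, 30), (3, 45, 58), (0, 46, 25), (1, 55, 41), (0, 81, 63), (2, 69, 45), (2,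 8, 6), (1, 26, 43), (1, 37, 39), (3, 35, 35), (0, 72, 38), (3, 82, 31), (3, 7, 53), (1, 15, 22), (1, 44, 39), (3, 52, 12), (3, 89, 59), (3, 59, 62), (1, 48, 31), (1, 7, 60), (1, 87, 43), (0, 60, 65), (2, 90, 52), (0, 14, 21), (1, 87, 23), (1, 27, 26), (0, 46, 60), (3, 62, 12), (0, 32, 31), (1, 3, 71), (0, 61, 27), (2, 23, 12), (2, 48, 28), (1, 58, 19), (0, 69, 29), (1, 77, 27), (2, 54, 67), (0, 12, 7), (1, 31, 32), (0, 70, 42), (3, 86, 11), (0, 35, 0), (3, 15, 7), (1, 68, 52), (1, 70, 3), (3, 35, 62), (0, 89, 25), (2, 27, 14), (2, 92, 4), (1, 12, 38), (3, 59, 33), (1, 78, 14), (0, 26, 4), (0, 94, 52), (3, 27, 33), (1, 8, 11), (0, 54, 54), (2, 48, 29), (3, 89, 58), (1, 7, 70), (0, 87, 47), (2, 46, 60), (1, 5, 58), (3, 9, 16), (2, 61, 22), (1, 50, 51), (2, 63, 3), (0, 47, 39), (0, 80, 13), (3, 31, 58), (1, 68, 64), (2, 57, 5), (3, 11, 41),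 (2, 3, 33), (3, 2, 26), (3, 59, 11), (3, 50, 34), (0, 3, 13), (2, 39, 51), (1, 21, 0), (2, 37, 35), (0, 66, 19), (0, 22, 6), (0, 37, 39), (1, 26, 19), (1, 35, 14), (2, 65, 64), (0, 65, 70), (0, 82, 21), (3, 82, 0), (3, 36, 1), (0, 35, 51), (1, 82, 18), (0, 36, 55), (2, 22, 0), (3, 39, 21), (3, 27, 24), (0, 47, 1), (1, 76, 0), (1, 56, 33), (0, 40, 38), (3, 37, 31), (2, 10, 55), (3, 37, 63), (0, 34, 56), (2, 5, 42), (2, 31, 28), (3, 59, 23), (0, 7, 14), (3, 19, 57), (2, 74, 38), (1, 83, 57), (2, 62, 7), (0, 2, 22), (3, 58, 70), (3, 62, 18), (1, 42, 10), (3, 37, 11), (0, 4, 14), (1, 57, 59), (1, 39, 47), (0, 94, 63), (3, 61, 36), (2, 54, 62), (0, 72, 16), (3, 54, 50), (0, 44, 13), (2, 69, 54), (3, 65, 16), (3, 1, 35), (2, 35, 27), (1, 33, 34), (2, 66, 18), (2, 33, 58), (1, 9, 64), (3, 71, 51), (0, 45, 12), (0, 84, 11), (3, 14, 66), (2, 6,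 28), (3, 3, 59), (0, 12, 53), (1, 55, 31), (1, 62, 59), (1, 57, 57), (0, 73, 32), (1, 53, 49), (1, 23, 38), (2, 75, 4)]

/-- Entries. -/
def alphaEnt40 : List (ℕ × ℕ × ℕ) := [(3, 44, 70), (1, 32, 24), (1, 26, 10), (1, 93, 7), (0, 10, 8), (1, 33, 0), (0, 59, 62), (3, 5, 11), (0, 83, 64), (3, 12, 52), (2, 19, 43), (2, 8, 1), (2, 59, 26), (2, 74, 67), (0, 30, 58), (1, 52, 9), (3, 57, 68), (2, 53, 51), (1, 51, 54), (0, 58, 36), (3, 11, 32), (1, 3, 12), (3, 81, 39), (0, 21, 30), (2, 15, 31), (3, 73, 51), (1, 37, 47), (2, 78, 12), (0, 8, 48), (1, 47, 35), (1, 44, 31), (2, 51, 50), (0, 23, 63), (1, 6, 21), (0, 1, 34), (0, 8, 39), (3, 80, 24), (2, 60, 58), (2, 36, 36), (3, 75, 38), (1, 23, 25), (1, 11, 47), (1, 49, 0), (2, 10, 19), (2, 64, 7), (0, 11, 18), (0, 24, 35), (2, 81, 25), (2, 18, 22), (0, 35, 46), (1, 62, 29), (3, 48, 43), (1, 44, 41),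 (1, 12, 10), (3, 31, 14), (2, 47, 39), (0, 36, 62), (2, 3, 31), (1, 50, 5), (0, 60, 5), (0, 4, 12), (1, 62, 49), (0, 65, 59), (2, 60, 8), (1, 47, 43), (2, 54, 27), (1, 93, 49), (1, 19, 10), (2, 48, 49), (0, 81, 37), (3, 39, 26), (0, 85, 36), (0, 74, 55), (2, 58, 12), (2, 79, 32), (1, 58, 21), (0, 46, 10), (2, 85, 12), (0, 56, 21), (0, 61, 19), (0, 90, 19), (0, 16, 6), (1, 26, 0), (2, 74, 25), (2, 47, 1), (3, 72, 47), (2, 64, 49), (2, 50, 41), (2, 12, 56), (3, 69, 66), (2, 94, 11), (3, 45, 24), (3, 39, 46), (2, 32, 36), (2, 83, 27), (3, 50, 9), (1, 43, 54), (2, 13, 54), (3, 45, 8), (2, 16, 59), (2, 37, 8), (1, 33, 31), (0, 62, 38), (3, 23, 11), (1, 81, 65), (1, 36, 16), (2, 83, 54), (1, 89, 13), (0, 55, 59), (2, 52, 25), (3, 89, 42), (2, 73, 12), (3, 5, 65), (2, 10, 13), (3, 1, 57), (2, 49, 58), (0, 36, 53), (3, 22, 33), (1, 23, 56), (0,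 59, 46), (1, 68, 58), (1, 13, 30), (2, 70, 58), (1, 60, 33), (2, 60, 26), (2, 31, 53), (2, 89, 21), (2, 40, 61), (1, 65, 57), (0, 84, 32), (3, 64, 30), (3, 47, 33), (3, 29, 70), (3, 83, 60), (2, 64, 63), (1, 73, 65), (2, 51, 23), (3, 13, 52), (1, 21, 51), (0, 18, 41), (1, 83, 17), (0, 30, 1), (3, 64, 21), (3, 34, 18), (3, 9, 61), (0, 53, 33), (3, 92, 56), (3, 89, 46), (1, 62, 10), (2, 58, 34), (2, 85, 56), (3, 72, 17), (0, 90, 2), (2, 38, 8), (1, 35, 5), (3, 44, 62), (2, 61, 31), (2, 13, 33), (3, 63, 65), (2, 63, 54), (1, 36, 61), (3, 53, 66), (0, 53, 11), (0, 20, 7), (2, 36, 46), (1, 26, 20), (3, 56, 21), (1, 64, 27), (0, 48, 55), (3, 81, 19), (2, 36, 43), (2, 24, 69), (1, 63, 27), (0, 3, 25), (0, 13, 45), (1, 56, 8), (0, 84, 28), (1, 47, 53), (1, 35, 31), (0, 80, 28), (0, 3, 24), (0, 87, 41), (1, 4, 27), (3, 83, 9), (1, 90, 71), (0,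 18, 20), (0, 43, 19), (1, 23, 64), (3, 32, 31), (0, 85, 21), (2, 49, 19), (0, 9, 56), (3, 8, 46), (2, 80, 42), (1, 82, 38), (3, 70, 17), (1, 28, 2), (0, 16, 31), (0, 60, 20), (0, 68, 5), (3, 12, 68), (3, 27, 16), (3, 67, 63), (0, 92, 55), (3, 31, 48), (3, 31, 71), (1, 37, 16), (2, 80, 11), (2, 32, 70), (1, 44, 44), (2, 31, 61), (0, 79, 9), (2, 26, 0), (2, 63, 5), (1, 14, 11), (3, 7, 32), (2, 52, 21), (3, 47, 8), (0, 89, 10), (2, 5, 63), (0, 34, 28), (2, 24, 37), (1, 65, 52), (3, 68, 36), (3, 41, 7), (0, 51, 18), (3, 33, 19), (2, 8, 18), (2, 19, 45), (1, 39, 25), (3, 32, 27), (2, 6, 35), (2, 93, 3), (3, 12, 47), (3, 37, 13), (2, 77, 43), (0, 80, 19), (1, 57, 68), (0, 63, 18), (2, 19, 39), (1, 75, 24), (2, 43, 11), (0, 43, 53), (3, 14, 14), (0, 74, 24), (2, 59, 51), (2, 47, 64), (3, 68, 50), (3, 10, 46), (1, 34, 25), (1, 9, 71), (2, 33,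 62), (1, 40, 12), (0, 90, 60), (1, 87, 22), (1, 56, 63), (1, 91, 33), (3, 55, 54), (2, 18, 34), (0, 26, 62), (1, 69, 35), (0, 86, 5), (1, 6, 54), (0, 30, 15), (2, 1, 55), (2, 16, 0), (2, 10, 39), (2, 75, 57), (0, 39, 46), (0, 61, 44), (3, 58, 10), (2, 76, 27), (0, 38, 38), (3, 12, 25), (0, 82, 30), (0, 53, 0), (0, 30, 41), (3, 56, 62), (0, 92, 1), (0, 75, 20), (0, 22, 21), (3, 6, 19), (1, 69, 69), (3, 29, 65), (3, 4, 20), (0, 4, 58), (3, 31, 44), (3, 77, 22), (0, 33, 9), (3, 58, 55), (2, 53, 8), (1, 91, 30), (1, 52, 23), (0, 51, 48), (2, 57, 13), (0, 87, 3), (0, 54, 49), (0, 58, 32), (3, 31, 7), (2, 16, 66), (0, 30, 67), (2, 12, 66), (3, 61, 30), (3, 90, 26), (3, 60, 69), (2, 48, 44), (1, 56, 12), (3, 43, 41), (3, 47, 44), (1, 93, 60), (3, 44, 56), (3, 67, 16), (0, 15, 30), (0, 75, 42), (2, 30, 49), (1, 30, 17), (0, 50, 25), (1, 54, 29),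 (0, 73, 55), (2, 67, 65), (1, 6, 30), (3, 44, 13), (2, 10, 32), (3, 84, 19), (0, 33, 44), (1, 40, 44), (0, 32, 17), (2, 29, 45), (3, 90, 17), (0, 37, 62), (0, 17, 5), (3, 51, 49), (1, 16, 54), (0, 72, 17), (1, 30, 36), (1, 82, 46), (0, 39, 39), (2, 26, 48), (1, 34, 53), (0, 66, 66), (1, 63, 51), (1, 35, 53), (2, 5, 68), (1, 47, 23), (0, 82, 61), (0, 59, 68), (1, 35, 66), (2, 38, 71), (0, 11, 53), (2, 71, 3), (1, 51, 14), (1, 91, 69), (2, 51, 4), (2, 51, 37), (3, 13, 43), (0, 77, 48), (0, 37, 22), (0, 27, 56), (0, 23, 15), (1, 5, 23), (1, 87, 48), (0, 91, 20), (0, 31, 55), (0, 1, 61), (2, 89, 37), (0, 94, 8), (1, 75, 54), (3, 92, 7), (3, 14, 44), (3, 27, 21), (0, 80, 57), (3, 46, 70), (3, 59, 53), (1, 22, 5), (0, 55, 68), (3, 6, 63), (2, 74, 41), (3, 54, 2), (2, 52, 33), (0, 23, 69), (1, 80, 5), (2, 33, 29), (0, 93, 21), (2, 22, 36), (2,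 47, 9), (0, 37, 52), (3, 48, 6), (1, 39, 12), (2, 75, 41), (3, 12, 67), (3, 61, 28), (1, 80, 43), (1, 7, 42), (2, 78, 1), (3, 26, 12), (0, 32, 14), (2, 44, 32), (0, 40, 8), (3, 37, 19), (2, 36, 14)]

/-- Entries. -/
def alphaEnt41 : List (ℕ × ℕ × ℕ) := [(1, 83, 32), (0, 52, 5), (1, 19, 49), (2, 43, 32), (2, 32, 15), (3, 36, 28), (2, 33, 4), (3, 54, 59), (3, 77, 28), (2, 60, 71), (1, 83, 28), (1, 18, 34), (3, 36, 40), (3, 53, 30), (1, 32, 47), (2, 31, 6), (0, 61, 7), (1, 9, 69), (0, 4, 22), (2, 90, 24), (0, 33, 61), (2, 38, 14), (0, 37, 9), (3, 19, 20), (3, 44, 25), (0, 3, 29), (1, 49, 40), (2, 93, 34), (3, 54, 25), (3, 46, 27), (0, 80, 66), (0, 55, 45), (0, 92, 48), (0, 49, 68), (1, 73, 60), (3, 45, 43), (3, 77, 46), (1, 21, 67), (2, 37, 59), (3, 21, 40), (2, 49, 55), (1, 57, 25), (3, 82, 42), (1, 56, 30), (0, 58, 39), (0, 33, 47), (0,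 3, 28), (2, 39, 25), (1, 85, 65), (0, 38, 13), (1, 66, 59), (0, 93, 33), (3, 16, 37), (0, 74, 54), (2, 42, 71), (3, 21, 5), (2, 63, 27), (1, 72, 14), (3, 64, 48), (2, 65, 68), (2, 27, 29), (0, 92, 33), (0, 9, 22), (2, 48, 12), (1, 71, 0), (2, 3, 39), (0, 70, 17), (1, 49, 28), (1, 89, 9), (3, 7, 22), (1, 67, 13), (3, 47, 55), (1, 3, 26), (0, 19, 21), (2, 35, 49), (2, 92, 13), (2, 8, 60), (0, 17, 0), (0, 87, 59), (3, 39, 20), (0, 6, 71), (3, 48, 19), (1, 64, 53), (3, 44, 21), (2, 68, 50), (0, 38, 52), (1, 31, 34), (1, 9, 27), (3, 1, 43), (1, 64, 58), (3, 41, 0), (3, 71, 39), (1, 86, 5), (0, 48, 15), (3, 41, 16), (3, 94, 18), (3, 47, 27), (1, 68, 57), (0, 1, 27), (3, 29, 20), (2, 3, 19), (0, 49, 70), (0, 54, 39), (3, 90, 45), (2, 12, 57), (1, 69, 56), (0, 46, 8), (0, 89, 38), (3, 11, 0), (3, 74, 4), (0, 12, 70), (3, 35, 24), (0, 82, 50),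 (3, 94, 32), (0, 1, 32), (3, 51, 44), (2, 39, 43), (2, 87, 22), (1, 42, 55), (1, 79, 8), (1, 47, 10), (0, 51, 14), (3, 42, 34), (0, 3, 7), (1, 75, 44), (1, 43, 26), (3, 63, 0), (2, 31, 59), (2, 87, 54), (3, 20, 25), (3, 10, 40), (3, 19, 68), (0, 51, 22), (3, 87, 17), (0, 60, 15), (0, 56, 22), (2, 95, 5), (0, 49, 43), (1, 85, 23), (2, 18, 45), (3, 43, 21), (3, 71, 65), (1, 46, 6), (0, 71, 18), (0, 85, 45), (3, 47, 5), (2, 39, 12), (1, 73, 0), (3, 84, 20), (2, 65, 5), (1, 55, 50), (1, 68, 59), (0, 55, 65), (1, 77, 15), (1, 30, 4), (2, 24, 27), (2, 31, 64), (1, 77, 16), (1, 33, 40), (3, 16, 22), (2, 14, 6), (0, 77, 25), (3, 26, 43), (3, 73, 5), (2, 48, 18), (0, 24, 68), (2, 26, 5), (0, 69, 28), (0, 51, 7), (0, 6, 47), (0, 24, 11), (0, 40, 71), (2, 9, 60), (1, 23, 47), (2, 21, 33), (1, 71, 70), (2, 6, 50), (1, 62, 48), (2, 7, 48), (0, 32,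 6), (1, 91, 20), (3, 82, 49), (3, 74, 29), (2, 94, 22), (2, 80, 12), (2, 68, 10), (3, 59, 8), (2, 42, 15), (1, 29, 25), (2, 13, 30), (2, 2, 33), (3, 2, 63), (2, 56, 43), (2, 90, 29), (2, 37, 3), (1, 84, 23), (1, 18, 52), (3, 72, 4), (3, 49, 55), (1, 71, 7), (1, 73, 42), (3, 34, 16), (3, 63, 45), (2, 23, 14), (2, 63, 10), (3, 94, 47), (2, 35, 26), (1, 70, 10), (2, 69, 65), (1, 29, 16), (2, 31, 51), (2, 64, 52), (0, 43, 32), (0, 80, 48), (1, 19, 12), (2, 85, 34), (2, 86, 0), (1, 80, 32), (1, 13, 19), (0, 53, 69), (0, 55, 6), (2, 34, 6), (1, 54, 59), (0, 18, 4), (2, 55, 23), (2, 26, 18), (0, 11, 26), (1, 23, 44), (0, 64, 65), (2, 20, 29), (1, 58, 4), (2, 33, 22), (1, 55, 45), (2, 46, 27), (3, 72, 66), (2, 30, 38), (1, 2, 36), (0, 51, 44), (1, 29, 21), (1, 80, 3), (3, 91, 24), (3, 27, 39), (0, 5, 10), (0, 57, 61), (0, 73, 18), (3, 81, 30),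 (3, 14, 4), (1, 73, 24), (1, 16, 22), (2, 10, 64), (2, 19, 54), (3, 72, 24), (1, 35, 51), (3, 82, 18), (1, 91, 54), (0, 45, 28), (2, 92, 28), (0, 86, 32), (3, 80, 58), (2, 69, 6), (0, 89, 4), (0, 1, 9), (2, 25, 1), (0, 79, 36), (1, 7, 16), (0, 46, 37), (1, 8, 66), (1, 75, 14), (1, 90, 20), (3, 3, 67), (2, 24, 1), (3, 45, 4), (0, 2, 33), (1, 2, 63), (1, 90, 61), (3, 80, 64), (0, 68, 10), (0, 18, 52), (0, 36, 27), (0, 33, 55), (3, 39, 57), (1, 4, 29), (3, 93, 0), (3, 58, 35), (3, 23, 37), (1, 87, 30), (1, 4, 63), (2, 76, 9), (0, 22, 16), (1, 23, 30), (2, 64, 14), (1, 92, 27), (3, 92, 4), (3, 6, 13), (3, 50, 30), (3, 85, 42), (1, 34, 23), (0, 16, 55), (0, 86, 28), (3, 27, 52), (1, 37, 61), (2, 40, 28), (0, 84, 3), (1, 24, 23), (0, 83, 50), (3, 51, 5), (2, 29, 0), (3, 51, 2), (0, 91, 0), (0, 94, 64), (2, 29, 30), (2, 55, 65), (2, 60, 45),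 (3, 90, 60), (0, 47, 31), (1, 23, 60), (0, 75, 46), (3, 13, 56), (3, 73, 56), (2, 14, 70), (1, 21, 48), (3, 10, 18), (0, 38, 48), (2, 64, 26), (0, 78, 25), (3, 79, 0), (3, 43, 4), (3, 69, 13), (3, 43, 49), (2, 38, 3), (0, 49, 34), (2, 47, 20), (0, 5, 12), (3, 41, 5), (2, 19, 16), (3, 42, 14), (1, 62, 21), (3, 91, 1), (1, 35, 56), (1, 62, 66), (0, 64, 15), (0, 13, 51), (3, 32, 49), (2, 77, 34), (2, 64, 40), (2, 93, 14), (1, 76, 29), (1, 64, 50), (2, 38, 42), (3, 93, 55), (3, 10, 41), (3, 40, 49), (0, 39, 43), (0, 47, 61), (3, 51, 60), (1, 68, 15), (2, 60, 57), (2, 65, 54), (3, 44, 42), (2, 91, 58), (1, 36, 11), (3, 54, 26), (1, 3, 70), (1, 26, 17), (3, 10, 69), (3, 13, 11), (0, 34, 12), (3, 45, 11), (0, 57, 8), (0, 66, 26), (1, 4, 19), (2, 66, 0), (1, 70, 45), (1, 36, 67), (0, 45, 38), (1, 81, 18), (0, 81, 48), (2, 2, 68), (0, 10, 62),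 (2, 11, 20), (2, 11, 40), (3, 53, 24), (1, 62, 65), (3, 69, 8), (0, 77, 50), (3, 77, 14), (1, 22, 15), (1, 65, 22), (0, 5, 20), (0, 68, 35), (3, 46, 50), (2, 23, 10), (0, 43, 26), (1, 94, 50), (3, 11, 26), (1, 83, 14), (3, 60, 47), (1, 66, 8), (2, 91, 69), (3, 5, 67)]

/-- Entries. -/
def alphaEnt42 : List (ℕ × ℕ × ℕ) := [(0, 92, 47), (2, 18, 65), (3, 61, 60), (0, 39, 62), (3, 67, 18), (1, 6, 68), (0, 61, 69), (3, 48, 20), (1, 25, 17), (1, 71, 18), (2, 33, 13), (2, 55, 18), (2, 36, 34), (3, 76, 36), (0, 71, 69), (0, 51, 4), (2, 71, 32), (3, 46, 10), (2, 38, 25), (2, 86, 24), (3, 16, 57), (0, 21, 53), (0, 11, 36), (2, 9, 2), (1, 23, 20), (2, 56, 17), (1, 18, 27), (0, 4, 24), (0, 67, 18), (0, 13, 4), (3, 9, 13), (2, 70, 29), (3, 6, 39), (3, 36, 16), (1, 5, 56), (0, 56, 30), (3, 70, 59), (0, 92, 14), (2, 34, 31), (3, 33, 32), (3, 85, 40),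 (3, 81, 23), (2, 11, 29), (1, 70, 2), (1, 61, 7), (1, 30, 2), (1, 34, 22), (0, 50, 58), (0, 70, 56), (1, 94, 13), (1, 46, 70), (3, 60, 49), (3, 80, 6), (2, 84, 23), (1, 48, 50), (1, 5, 10), (2, 72, 68), (3, 7, 42), (2, 63, 55), (0, 64, 17), (1, 7, 27), (0, 63, 64), (0, 12, 29), (2, 93, 56), (3, 18, 16), (3, 38, 28), (0, 63, 71), (0, 84, 30), (2, 94, 38), (0, 80, 43), (3, 85, 11), (3, 44, 41), (2, 58, 15), (3, 1, 8), (0, 48, 48), (2, 45, 32), (3, 72, 5), (1, 87, 62), (3, 14, 16), (2, 82, 71), (2, 68, 25), (2, 78, 17), (2, 85, 39), (3, 57, 35), (1, 10, 13), (2, 50, 27), (2, 54, 25), (1, 3, 60), (3, 19, 46), (3, 45, 14), (3, 87, 21), (0, 55, 32), (0, 72, 25), (1, 62, 46), (2, 75, 5), (1, 62, 44), (2, 25, 0), (2, 71, 38), (0, 48, 24), (2, 28, 21), (2, 14, 33), (1, 19, 30), (3, 59, 58), (0, 85, 12), (0, 13, 35), (1, 66, 38), (2, 58, 65), (2,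 57, 65), (1, 9, 44), (3, 55, 58), (2, 53, 29), (1, 69, 11), (1, 76, 13), (0, 79, 1), (2, 92, 46), (2, 29, 71), (2, 18, 20), (1, 7, 39), (1, 54, 12), (0, 63, 13), (0, 68, 15), (2, 44, 51), (2, 36, 24), (3, 3, 11), (1, 67, 34), (0, 36, 38), (0, 65, 61), (2, 10, 69), (0, 1, 42), (3, 51, 10), (0, 24, 5), (3, 24, 64), (1, 54, 26), (3, 82, 29), (2, 90, 35), (3, 69, 35), (0, 54, 31), (0, 93, 68), (3, 38, 20), (1, 83, 13), (1, 5, 42), (3, 7, 38), (3, 46, 31), (0, 26, 63), (0, 81, 29), (1, 40, 18), (1, 60, 7), (3, 47, 15), (1, 56, 7), (2, 35, 33), (0, 61, 13), (0, 39, 52), (2, 40, 50), (2, 12, 47), (3, 57, 13), (1, 35, 2), (1, 58, 32), (1, 11, 4), (2, 11, 60), (3, 27, 44), (1, 60, 52), (3, 75, 35), (2, 18, 41), (2, 32, 32), (2, 20, 6), (3, 21, 38), (2, 53, 33), (3, 12, 6), (0, 42, 52), (1, 30, 8), (2, 22, 25), (3, 72, 62), (1, 94, 11), (1, 24,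 65), (3, 9, 32), (0, 60, 27), (2, 33, 54), (2, 87, 6), (3, 89, 40), (3, 80, 37), (3, 49, 70), (2, 83, 35), (2, 90, 27), (0, 82, 32), (1, 74, 45), (0, 53, 15), (3, 69, 44), (3, 6, 1), (3, 7, 41), (1, 30, 15), (3, 10, 36), (1, 46, 12), (2, 30, 60), (2, 13, 45), (1, 65, 60), (1, 75, 41), (3, 16, 54), (3, 93, 1), (2, 91, 19), (3, 31, 68), (0, 72, 62), (3, 59, 31), (3, 42, 12), (1, 92, 37), (2, 68, 47), (0, 55, 70), (1, 4, 28), (1, 69, 31), (2, 60, 46), (1, 13, 1), (1, 69, 37), (3, 38, 71), (0, 8, 7), (1, 21, 31), (2, 59, 64), (1, 51, 57), (0, 91, 27), (1, 86, 16), (1, 4, 42), (2, 35, 55), (0, 14, 47), (1, 26, 7), (2, 16, 4), (1, 87, 15), (1, 92, 24), (0, 93, 55), (2, 2, 19), (0, 86, 9), (3, 17, 1), (1, 30, 46), (1, 48, 66), (1, 16, 61), (3, 8, 38), (3, 2, 20), (1, 11, 48), (0, 53, 41), (2, 48, 34), (1, 94, 46), (0, 76, 30), (2, 73, 24), (3,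 26, 3), (3, 32, 41), (3, 45, 13), (2, 29, 69), (0, 58, 66), (3, 70, 20), (1, 9, 62), (2, 46, 22), (2, 74, 5), (3, 3, 45), (1, 72, 36), (0, 74, 57), (1, 85, 26), (3, 76, 35), (3, 57, 49), (0, 19, 28), (0, 69, 10), (1, 59, 45), (3, 82, 52), (2, 94, 19), (0, 19, 11), (2, 13, 42), (2, 57, 67), (3, 12, 71), (2, 56, 12), (3, 76, 25), (0, 5, 14), (3, 52, 36), (2, 74, 12), (2, 73, 39), (3, 75, 5), (3, 32, 53), (1, 30, 68), (2, 28, 16), (1, 2, 43), (1, 47, 4), (2, 33, 23), (0, 7, 12), (0, 31, 39), (2, 62, 64), (0, 65, 1), (3, 50, 57), (1, 15, 4), (3, 50, 19), (1, 83, 37), (1, 21, 64), (1, 16, 23), (1, 83, 48), (1, 60, 25), (0, 44, 46), (0, 7, 63), (0, 34, 34), (1, 94, 17), (0, 34, 7), (3, 89, 20), (2, 2, 58), (0, 3, 42), (2, 93, 65), (2, 69, 51), (0, 23, 1), (0, 27, 12), (3, 38, 46), (3, 59, 25), (0, 54, 1), (2, 37, 29), (2, 46, 5), (0, 37, 66),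 (3, 30, 12), (3, 40, 60), (2, 44, 2), (3, 46, 38), (3, 47, 21), (2, 15, 33), (1, 72, 29), (0, 21, 29), (2, 13, 49), (2, 3, 3), (1, 49, 13), (2, 44, 23), (2, 78, 21), (3, 69, 14), (2, 9, 42), (3, 7, 17), (0, 83, 43), (1, 14, 10), (0, 11, 63), (2, 39, 22), (3, 65, 39), (1, 67, 57), (1, 3, 20), (2, 70, 8), (0, 43, 56), (3, 78, 25), (0, 9, 67), (3, 42, 39), (2, 62, 13), (1, 21, 60), (2, 75, 65), (0, 45, 40), (0, 13, 16), (1, 64, 12), (3, 4, 40), (3, 62, 30), (3, 10, 3), (1, 81, 49), (3, 93, 26), (3, 39, 34), (0, 19, 56), (2, 1, 59), (1, 65, 61), (0, 80, 62), (1, 8, 17), (3, 24, 28), (2, 24, 64), (1, 74, 12), (2, 4, 70), (1, 46, 59), (2, 85, 28), (0, 55, 0), (3, 29, 52), (3, 77, 30), (3, 29, 13), (2, 57, 23), (3, 49, 45), (1, 78, 6), (0, 40, 70), (3, 42, 59), (2, 74, 63), (1, 24, 26), (1, 44, 9), (2, 71, 42), (1, 89, 22), (0, 9, 18), (2, 36,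 45), (2, 75, 6), (2, 50, 46), (2, 87, 24), (0, 94, 65), (0, 56, 39), (0, 71, 48), (2, 65, 53), (0, 31, 30), (1, 49, 5), (3, 72, 41), (0, 63, 50), (3, 57, 52), (0, 4, 36), (0, 67, 8), (3, 64, 38), (3, 92, 6), (0, 36, 4), (1, 53, 28), (2, 35, 25), (1, 3, 21), (3, 75, 16), (0, 77, 54), (2, 43, 6), (0, 45, 26), (1, 23, 28), (0, 40, 45)]

/-- Entries. -/
def alphaEnt43 : List (ℕ × ℕ × ℕ) := [(1, 90, 42), (3, 8, 26), (1, 80, 37), (0, 89, 0), (3, 73, 36), (3, 33, 54), (2, 34, 25), (1, 85, 24), (3, 74, 70), (2, 85, 35), (3, 31, 50), (0, 51, 26), (2, 94, 50), (0, 78, 22), (3, 61, 53), (3, 50, 11), (0, 42, 31), (3, 46, 67), (1, 6, 11), (1, 52, 15), (3, 83, 34), (0, 12, 64), (2, 40, 7), (2, 35, 31), (0, 26, 53), (3, 90, 5), (2, 3, 8), (3, 73, 61), (1, 32, 2), (0, 27, 26), (2, 6, 62), (2, 87, 48), (0, 12, 16), (3, 6, 23), (2, 80, 0), (1, 12, 49),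 (3, 27, 49), (1, 14, 1), (0, 34, 1), (0, 24, 0), (3, 24, 19), (1, 7, 0), (1, 20, 11), (3, 86, 36), (3, 22, 2), (1, 45, 28), (0, 4, 50), (2, 31, 24), (3, 94, 48), (0, 8, 28), (3, 36, 17), (3, 65, 49), (2, 31, 21), (3, 57, 55), (0, 60, 19), (3, 69, 61), (2, 58, 5), (0, 85, 59), (0, 39, 3), (1, 76, 9), (3, 29, 21), (2, 1, 19), (1, 74, 11), (3, 60, 61), (3, 40, 58), (1, 19, 19), (3, 8, 4), (1, 92, 17), (2, 14, 61), (0, 44, 19), (2, 34, 66), (0, 93, 45), (0, 61, 53), (0, 12, 27), (2, 54, 68), (3, 81, 71), (0, 73, 52), (2, 69, 7), (3, 8, 59), (0, 62, 5), (1, 90, 40), (1, 74, 26), (1, 5, 45), (1, 77, 1), (3, 93, 65), (2, 4, 4), (2, 9, 26), (3, 37, 23), (3, 56, 69), (2, 38, 0), (2, 87, 61), (1, 40, 34), (2, 25, 17), (1, 26, 33), (3, 13, 13), (1, 77, 3), (1, 76, 20), (0, 51, 62), (3, 30, 47), (1, 36, 10), (3, 53, 16), (0, 49, 12), (0, 45, 42),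 (2, 12, 14), (1, 36, 45), (0, 57, 70), (1, 6, 38), (1, 74, 44), (3, 71, 19), (0, 79, 0), (2, 31, 15), (0, 10, 42), (0, 69, 66), (3, 40, 55), (1, 52, 21), (0, 64, 54), (1, 18, 47), (1, 55, 71), (1, 12, 43), (1, 63, 21), (2, 49, 53), (0, 49, 47), (1, 47, 61), (0, 40, 13), (1, 55, 0), (0, 83, 9), (3, 86, 20), (2, 95, 4), (2, 49, 20), (0, 50, 55), (3, 85, 54), (1, 89, 37), (2, 92, 11), (3, 83, 62), (2, 62, 19), (1, 8, 10), (2, 55, 66), (0, 78, 6), (3, 21, 56), (1, 2, 45), (1, 10, 60), (3, 1, 20), (2, 70, 62), (3, 13, 12), (3, 9, 68), (1, 79, 33), (3, 31, 13), (3, 65, 36), (2, 63, 8), (2, 91, 34), (2, 90, 69), (0, 59, 59), (0, 24, 36), (0, 53, 37), (1, 83, 42), (3, 60, 2), (2, 31, 17), (3, 86, 35), (2, 32, 26), (1, 75, 53), (3, 23, 66), (0, 35, 19), (2, 79, 26), (0, 94, 54), (1, 9, 39), (1, 17, 2), (0, 35, 67), (3, 37, 54), (2, 36, 0), (2,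 54, 35), (1, 42, 31), (2, 43, 12), (1, 75, 28), (3, 80, 18), (0, 82, 37), (2, 65, 41), (2, 84, 15), (0, 42, 14), (1, 60, 62), (2, 74, 43), (2, 16, 65), (3, 74, 61), (0, 89, 15), (1, 2, 18), (3, 42, 19), (1, 21, 70), (3, 36, 44), (3, 93, 28), (0, 40, 24), (1, 21, 9), (2, 13, 22), (0, 44, 61), (3, 19, 36), (1, 30, 3), (3, 94, 36), (2, 71, 21), (0, 83, 61), (2, 74, 51), (1, 89, 6), (1, 64, 14), (0, 53, 67), (0, 3, 51), (1, 74, 52), (1, 79, 25), (0, 51, 12), (0, 67, 60), (0, 49, 11), (3, 76, 33), (2, 14, 12), (0, 72, 9), (1, 94, 25), (3, 6, 47), (3, 74, 51), (3, 56, 25), (2, 21, 37), (0, 32, 69), (3, 37, 10), (0, 48, 8), (1, 3, 40), (1, 21, 59), (0, 21, 68), (1, 3, 13), (3, 69, 49), (3, 85, 70), (3, 5, 47), (3, 70, 47), (3, 63, 11), (1, 50, 46), (3, 80, 2), (3, 8, 60), (3, 30, 25), (2, 67, 36), (1, 32, 40), (0, 66, 55), (2, 77, 6), (0, 57,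 59), (1, 71, 30), (2, 57, 2), (0, 35, 39), (3, 93, 12), (2, 68, 52), (1, 72, 49), (0, 58, 0), (1, 2, 52), (0, 5, 21), (2, 24, 8), (2, 38, 47), (2, 26, 61), (3, 90, 21), (0, 57, 42), (2, 49, 5), (3, 27, 19), (2, 44, 52), (1, 55, 64), (2, 71, 55), (3, 46, 9), (3, 78, 14), (1, 89, 68), (1, 54, 54), (0, 10, 12), (2, 27, 17), (0, 61, 6), (1, 56, 36), (0, 62, 50), (3, 63, 19), (3, 36, 0), (3, 67, 26), (2, 88, 12), (1, 87, 5), (1, 59, 29), (2, 21, 62), (1, 63, 1), (2, 27, 55), (3, 85, 20), (2, 24, 22), (3, 69, 53), (1, 93, 20), (2, 2, 31), (0, 62, 19), (0, 87, 56), (1, 93, 50), (2, 1, 37), (0, 93, 27), (1, 41, 19), (1, 6, 34), (1, 91, 3), (0, 66, 50), (1, 39, 33), (0, 91, 39), (0, 45, 55), (3, 67, 27), (1, 2, 53), (0, 50, 60), (0, 40, 37), (2, 13, 47), (2, 66, 8), (0, 80, 36), (1, 21, 71), (3, 37, 3), (2, 65, 29), (3, 36, 56), (0, 42, 15), (0,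 61, 60), (3, 33, 28), (1, 55, 66), (3, 30, 26), (0, 81, 70), (3, 84, 28), (0, 23, 33), (3, 43, 58), (2, 34, 47), (0, 10, 49), (0, 26, 32), (3, 67, 19), (0, 68, 33), (3, 73, 34), (0, 94, 60), (3, 78, 10), (2, 18, 10), (0, 1, 17), (1, 43, 17), (0, 64, 66), (1, 47, 48), (0, 4, 35), (2, 70, 63), (2, 36, 55), (3, 7, 62), (3, 20, 11), (2, 9, 63), (0, 49, 15), (2, 37, 23), (2, 32, 66), (0, 93, 11), (3, 51, 58), (3, 55, 36), (0, 72, 48), (3, 89, 24), (3, 89, 64), (3, 45, 54), (2, 72, 30), (3, 68, 59), (0, 42, 67), (2, 45, 60), (3, 77, 16), (3, 18, 29), (1, 58, 46), (3, 24, 9), (3, 19, 5), (2, 3, 71), (0, 68, 45), (2, 5, 1), (0, 90, 22), (2, 40, 12), (3, 23, 68), (0, 27, 16), (0, 16, 27), (2, 83, 45), (0, 91, 60), (2, 69, 34), (2, 14, 57), (3, 31, 30), (2, 73, 10), (1, 64, 7), (1, 43, 32), (1, 60, 59), (3, 37, 65), (2, 45, 12), (1, 92, 29), (3,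 60, 28), (1, 91, 18), (2, 20, 0), (3, 64, 52), (1, 30, 63), (1, 95, 14), (1, 57, 64), (0, 12, 38), (1, 30, 47), (2, 78, 11), (1, 5, 15), (1, 61, 37), (3, 65, 32), (3, 47, 40), (0, 67, 17), (2, 27, 68), (3, 55, 22), (0, 73, 62), (3, 78, 15), (2, 34, 69), (2, 45, 42), (2, 63, 7), (3, 82, 19), (1, 29, 32), (3, 16, 39), (3, 49, 67), (1, 32, 45), (3, 90, 25), (2, 32, 48), (2, 91, 62), (1, 66, 69), (0, 70, 14)]

/-- Entries. -/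
def alphaEnt44 : List (ℕ × ℕ × ℕ) := [(0, 86, 6), (2, 46, 49), (1, 16, 62), (2, 10, 68), (3, 85, 17), (2, 74, 24), (0, 40, 57), (3, 38, 9), (2, 38, 37), (3, 43, 37), (1, 57, 38), (2, 12, 10), (0, 58, 53), (1, 14, 24), (2, 61, 42), (2, 10, 16), (1, 89, 0), (0, 95, 8), (1, 49, 11), (2, 34, 39), (1, 51, 12), (0, 89, 45), (3, 79, 25), (3, 19, 42), (0, 4, 44), (1, 45, 41), (3, 92, 60), (2, 36, 31), (2, 67, 8), (3, 11, 59), (3, 55, 19), (3, 44, 44), (1, 43, 67), (1, 68, 22), (2, 42, 42), (1, 24, 57), (0, 52, 25), (1, 78, 13), (1, 34, 54), (3, 44, 36), (3, 18, 35), (1, 88, 12), (1, 29, 67), (1, 41, 3), (2, 5, 47), (1, 4, 26), (3, 87, 24), (1, 44, 29), (0, 90, 5), (2, 20, 9), (2, 81, 7), (0, 61, 3), (1, 92, 8), (2, 45, 37), (3, 45, 64), (0, 62, 49), (1, 93, 27), (1, 31, 62), (3, 12, 36), (1, 85, 57), (0, 50, 1), (1, 89, 5), (3, 1, 71), (2, 6,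 66), (0, 21, 54), (2, 47, 49), (0, 13, 68), (1, 69, 63), (0, 71, 23), (0, 51, 17), (1, 62, 3), (0, 44, 41), (3, 57, 54), (3, 39, 22), (1, 42, 62), (0, 67, 65), (3, 40, 38), (2, 51, 66), (0, 62, 71), (1, 74, 66), (1, 46, 57), (2, 36, 32), (1, 5, 68), (0, 58, 51), (3, 68, 7), (2, 74, 23), (3, 89, 33), (1, 61, 9), (2, 23, 29), (0, 40, 62), (1, 74, 55), (1, 80, 40), (0, 89, 21), (3, 47, 0), (3, 42, 21), (3, 51, 30), (3, 90, 37), (3, 10, 58), (0, 26, 37), (1, 61, 46), (1, 30, 12), (2, 5, 23), (3, 36, 2), (3, 83, 37), (3, 33, 29), (3, 13, 51), (2, 91, 37), (0, 58, 70), (2, 45, 36), (2, 67, 41), (1, 69, 38), (3, 18, 38), (1, 47, 65), (0, 85, 3), (3, 13, 70), (3, 53, 35), (2, 61, 4), (1, 51, 13), (3, 79, 35), (2, 63, 28), (3, 81, 65), (1, 26, 6), (3, 57, 32), (1, 60, 31), (1, 23, 9), (0, 63, 23), (2, 51, 69), (0, 55, 34), (2, 75, 1), (0, 2, 43),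 (2, 53, 42), (1, 46, 48), (2, 82, 6), (3, 68, 0), (0, 65, 52), (2, 57, 49), (1, 52, 32), (0, 53, 58), (1, 91, 29), (0, 65, 66), (0, 67, 68), (3, 4, 48), (0, 30, 31), (2, 73, 42), (0, 34, 48), (2, 33, 19), (3, 43, 69), (2, 60, 44), (3, 70, 6), (3, 82, 4), (2, 61, 19), (3, 46, 21), (1, 4, 6), (2, 51, 52), (1, 64, 6), (1, 63, 65), (3, 57, 64), (1, 74, 69), (0, 4, 7), (0, 92, 40), (1, 72, 21), (2, 78, 15), (1, 64, 45), (1, 44, 71), (0, 5, 24), (2, 78, 28), (3, 5, 48), (3, 39, 53), (0, 43, 43), (3, 48, 49), (0, 57, 45), (3, 58, 34), (2, 28, 4), (2, 82, 43), (1, 38, 10), (1, 16, 29), (0, 4, 30), (0, 50, 5), (2, 4, 33), (0, 30, 46), (2, 27, 30), (2, 34, 34), (1, 23, 34), (2, 2, 38), (0, 61, 21), (1, 91, 60), (0, 67, 2), (0, 31, 56), (1, 7, 13), (3, 43, 32), (1, 33, 38), (0, 77, 9), (2, 8, 35), (2, 74, 54), (3, 52, 29), (0, 1, 40), (3, 80, 34),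 (0, 42, 70), (2, 67, 0), (2, 43, 62), (0, 56, 12), (0, 55, 15), (0, 30, 17), (2, 80, 30), (3, 49, 23), (0, 18, 11), (0, 91, 56), (3, 83, 36), (3, 86, 1), (1, 39, 26), (3, 69, 30), (2, 5, 32), (2, 3, 30), (3, 1, 49), (2, 52, 24), (3, 79, 23), (0, 11, 61), (0, 21, 67), (0, 36, 8), (1, 78, 36), (1, 56, 11), (0, 63, 51), (0, 13, 56), (2, 77, 57), (1, 36, 40), (0, 42, 28), (2, 8, 25), (0, 53, 23), (3, 90, 24), (3, 89, 56), (2, 35, 12), (3, 91, 2), (1, 33, 44), (3, 89, 55), (3, 12, 28), (3, 37, 40), (3, 29, 15), (1, 73, 26), (0, 64, 16), (0, 87, 14), (0, 44, 2), (0, 8, 13), (3, 13, 20), (1, 53, 46), (0, 44, 32), (3, 71, 45), (1, 24, 66), (3, 39, 5), (0, 42, 13), (3, 83, 50), (2, 43, 0), (2, 48, 6), (2, 45, 57), (1, 64, 33), (2, 14, 24), (0, 41, 4), (0, 43, 64), (0, 57, 52), (0, 40, 48), (2, 93, 49), (1, 59, 51), (1, 68, 50), (2, 1, 57), (1,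 11, 13), (2, 10, 6), (3, 49, 43), (0, 10, 65), (3, 61, 50), (0, 60, 47), (1, 29, 22), (2, 89, 18), (0, 64, 13), (0, 73, 3), (2, 89, 62), (2, 63, 14), (2, 31, 44), (1, 35, 41), (2, 64, 68), (1, 27, 56), (3, 77, 55), (3, 93, 9), (1, 7, 55), (3, 6, 69), (1, 32, 41), (2, 63, 34), (0, 7, 34), (2, 33, 70), (3, 49, 7), (1, 51, 61), (1, 82, 36), (3, 6, 53), (1, 55, 10), (1, 39, 58), (1, 75, 55), (3, 85, 19), (2, 51, 36), (3, 38, 23), (3, 82, 46), (1, 12, 41), (3, 25, 3), (0, 71, 45), (2, 21, 10), (1, 80, 67), (3, 80, 35), (1, 27, 71), (2, 31, 11), (1, 43, 25), (1, 38, 56), (1, 44, 52), (3, 40, 65), (2, 10, 60), (3, 30, 42), (1, 33, 43), (3, 44, 57), (3, 83, 17), (1, 31, 70), (2, 31, 4), (0, 18, 35), (0, 80, 17), (2, 51, 21), (2, 47, 16), (3, 91, 22), (0, 57, 68), (3, 26, 52), (1, 21, 29), (2, 56, 35), (3, 50, 4), (2, 32, 62), (2, 53, 0), (2,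 36, 12), (1, 78, 9), (2, 57, 63), (1, 82, 40), (1, 73, 71), (1, 74, 19), (0, 56, 49), (3, 57, 28), (2, 35, 71), (0, 59, 49), (0, 37, 51), (3, 16, 55), (1, 23, 15), (3, 3, 20), (3, 55, 13), (0, 66, 31), (0, 79, 15), (3, 80, 56), (0, 26, 38), (1, 14, 2), (2, 87, 43), (2, 71, 50), (1, 2, 17), (1, 51, 42), (1, 7, 66), (3, 47, 32), (0, 2, 51), (1, 52, 10), (0, 56, 20), (3, 80, 63), (0, 74, 63), (2, 16, 70), (3, 82, 47), (2, 56, 71), (0, 90, 13), (3, 19, 0), (2, 62, 21), (0, 92, 17), (2, 60, 60), (1, 49, 39), (1, 73, 12), (1, 59, 11), (1, 31, 52), (2, 2, 26), (3, 61, 32), (1, 89, 18), (0, 13, 70), (0, 58, 41), (1, 54, 21), (2, 69, 40), (2, 94, 5), (0, 81, 62), (1, 77, 12), (1, 45, 22), (2, 57, 40), (1, 53, 55), (3, 13, 19), (1, 18, 15), (3, 4, 11), (0, 64, 55), (0, 67, 40), (3, 48, 38), (3, 53, 58), (3, 86, 12), (1, 7, 4), (1, 36, 12), (1,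 73, 21), (1, 76, 19), (2, 80, 9), (0, 37, 7), (1, 1, 19)]

/-- Entries. -/
def alphaEnt45 : List (ℕ × ℕ × ℕ) := [(1, 91, 56), (2, 78, 32), (0, 71, 34), (2, 54, 51), (2, 90, 46), (2, 75, 70), (2, 7, 71), (3, 63, 13), (1, 67, 53), (3, 40, 7), (2, 49, 49), (2, 56, 6), (2, 62, 18), (3, 60, 40), (3, 65, 35), (3, 11, 69), (3, 32, 2), (2, 5, 58), (2, 58, 3), (2, 31, 8), (2, 40, 17), (0, 93, 26), (3, 57, 60), (2, 9, 17), (1, 72, 53), (1, 10, 47), (0, 83, 38), (2, 67, 15), (0, 61, 68), (3, 37, 66), (3, 35, 36), (2, 77, 59), (1, 12, 9), (0, 13, 60), (2, 52, 3), (2, 71, 25), (3, 79, 9), (1, 63, 57), (1, 90, 14), (3, 10, 0), (1, 57, 37), (3, 55, 11), (1, 66, 19), (1, 72, 20), (0, 68, 50), (2, 94, 70), (2, 4, 66), (2, 42, 7), (3, 57, 39), (2, 85, 59), (0, 3, 69), (0, 66, 1), (1, 48, 39), (1, 79, 7), (1, 73, 25), (0, 70, 10), (0, 69, 65), (1, 39, 1),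 (1, 42, 40), (3, 71, 60), (0, 82, 57), (2, 54, 3), (0, 7, 50), (0, 89, 14), (2, 2, 69), (1, 12, 2), (1, 12, 14), (3, 42, 0), (0, 33, 32), (2, 12, 24), (0, 79, 14), (0, 26, 70), (3, 2, 2), (3, 73, 52), (1, 87, 36), (1, 30, 21), (1, 5, 16), (0, 18, 51), (3, 45, 10), (0, 58, 4), (0, 80, 1), (2, 18, 39), (2, 35, 24), (3, 26, 35), (1, 87, 0), (0, 33, 15), (1, 15, 8), (3, 50, 14), (2, 66, 60), (0, 33, 56), (1, 83, 68), (2, 68, 31), (2, 37, 6), (0, 74, 51), (0, 8, 64), (3, 57, 22), (3, 89, 6), (3, 18, 3), (3, 69, 54), (1, 48, 3), (1, 37, 55), (0, 92, 20), (1, 13, 6), (2, 65, 60), (2, 63, 15), (0, 23, 25), (3, 35, 38), (3, 95, 2), (1, 36, 31), (0, 49, 20), (0, 82, 42), (2, 38, 58), (0, 56, 45), (1, 86, 20), (0, 44, 43), (3, 70, 38), (0, 83, 3), (1, 42, 47), (3, 93, 42), (0, 67, 33), (2, 50, 2), (1, 53, 45), (3, 70, 61), (2, 57, 68), (1, 80, 45),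 (0, 46, 45), (3, 66, 44), (3, 58, 22), (3, 87, 45), (1, 92, 33), (0, 57, 63), (0, 16, 56), (0, 81, 55), (1, 16, 20), (0, 44, 63), (3, 36, 59), (2, 74, 29), (0, 91, 34), (1, 59, 49), (3, 80, 20), (1, 25, 9), (3, 91, 32), (0, 2, 60), (1, 65, 30), (0, 51, 5), (1, 94, 37), (1, 80, 11), (3, 74, 32), (1, 16, 0), (2, 14, 58), (0, 18, 65), (1, 27, 62), (2, 7, 52), (2, 82, 36), (2, 90, 7), (1, 47, 42), (0, 77, 2), (1, 42, 0), (0, 55, 5), (0, 72, 59), (0, 30, 21), (2, 86, 27), (0, 66, 41), (0, 48, 41), (1, 15, 25), (1, 58, 48), (1, 10, 64), (3, 92, 43), (1, 64, 34), (2, 92, 31), (1, 92, 50), (3, 79, 29), (1, 74, 7), (1, 77, 24), (0, 41, 19), (2, 49, 33), (1, 51, 2), (1, 87, 4), (0, 44, 48), (0, 37, 49), (0, 21, 55), (2, 34, 49), (1, 43, 42), (2, 7, 70), (1, 73, 10), (2, 14, 52), (2, 60, 37), (3, 67, 45), (3, 68, 51), (0, 27, 52), (1, 94, 23), (2,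 89, 63), (1, 27, 32), (2, 76, 31), (3, 22, 21), (0, 80, 23), (2, 43, 63), (1, 74, 51), (1, 10, 7), (2, 18, 3), (3, 63, 15), (1, 56, 25), (1, 7, 20), (2, 83, 3), (2, 73, 18), (2, 71, 53), (1, 13, 65), (0, 23, 27), (0, 76, 8), (3, 14, 9), (3, 54, 3), (1, 57, 51), (3, 94, 34), (2, 29, 31), (3, 71, 57), (0, 49, 51), (0, 54, 4), (2, 46, 53), (3, 75, 3), (1, 87, 19), (1, 24, 52), (3, 52, 11), (2, 39, 2), (3, 36, 62), (0, 79, 20), (0, 51, 24), (3, 4, 25), (0, 82, 27), (2, 5, 70), (1, 75, 9), (1, 50, 8), (1, 68, 69), (1, 75, 49), (0, 12, 6), (0, 77, 64), (0, 21, 48), (3, 16, 48), (3, 59, 67), (2, 9, 40), (3, 6, 48), (3, 23, 36), (2, 92, 66), (2, 42, 62), (0, 27, 7), (2, 45, 38), (3, 77, 12), (2, 57, 47), (2, 2, 59), (2, 91, 70), (1, 24, 50), (1, 24, 39), (0, 21, 18), (0, 55, 13), (3, 40, 15), (0, 85, 48), (3, 11, 55), (3, 1, 14), (2, 6, 14),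 (0, 32, 46), (2, 60, 28), (0, 61, 11), (2, 60, 4), (3, 91, 18), (2, 66, 48), (0, 44, 55), (3, 91, 52), (2, 47, 67), (0, 46, 58), (3, 48, 63), (2, 73, 54), (1, 43, 45), (1, 50, 18), (1, 4, 66), (1, 69, 29), (1, 10, 38), (3, 54, 10), (3, 59, 65), (3, 29, 14), (0, 9, 21), (3, 81, 11), (1, 19, 40), (3, 6, 55), (0, 55, 26), (1, 64, 40), (1, 4, 55), (0, 29, 35), (3, 34, 47), (0, 40, 65), (0, 83, 65), (0, 91, 11), (2, 39, 6), (2, 70, 15), (1, 6, 8), (2, 78, 8), (1, 52, 14), (1, 21, 10), (3, 56, 55), (0, 35, 22), (1, 51, 29), (3, 9, 63), (2, 54, 26), (2, 86, 32), (0, 37, 70), (2, 47, 13), (3, 9, 48), (0, 29, 49), (1, 81, 57), (1, 13, 60), (0, 60, 69), (0, 48, 52), (2, 56, 58), (3, 15, 29), (0, 2, 26), (2, 15, 10), (2, 78, 4), (0, 40, 41), (0, 12, 0), (3, 91, 31), (3, 14, 63), (2, 26, 39), (2, 53, 49), (0, 74, 16), (0, 35, 6), (3, 24, 62), (2,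 5, 59), (3, 64, 34), (3, 73, 31), (3, 69, 10), (3, 53, 65), (3, 14, 47), (1, 80, 52), (2, 44, 41), (0, 41, 10), (1, 77, 11), (1, 21, 52), (2, 27, 51), (0, 9, 52), (0, 71, 9), (3, 25, 9), (0, 4, 61), (0, 2, 0), (2, 60, 35), (1, 62, 43), (3, 80, 48), (2, 39, 70), (0, 69, 22), (2, 29, 32), (2, 9, 23), (2, 67, 61), (2, 32, 3), (2, 49, 71), (0, 32, 32), (2, 79, 2), (0, 85, 20), (3, 47, 42), (2, 59, 2), (3, 92, 30), (1, 85, 63), (3, 29, 68), (0, 29, 37), (0, 75, 48), (3, 29, 5), (1, 16, 71), (0, 37, 42), (2, 81, 23), (0, 5, 3), (2, 68, 46), (3, 53, 40), (3, 21, 26), (3, 81, 50), (0, 84, 33), (1, 32, 67), (3, 23, 33), (1, 31, 33), (2, 26, 19), (0, 47, 70), (1, 42, 38), (1, 4, 32), (3, 29, 4), (0, 87, 67), (3, 51, 33), (0, 83, 22), (1, 53, 17), (3, 10, 50), (0, 42, 3), (3, 71, 2), (2, 84, 14), (3, 40, 29), (2, 69, 21), (1, 80, 63), (2, 6, 57),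 (1, 69, 5), (1, 63, 53), (1, 72, 50), (0, 67, 34), (3, 74, 59), (1, 24, 48), (1, 43, 68), (2, 43, 14), (3, 66, 38)]

/-- Entries. -/
def alphaEnt46 : List (ℕ × ℕ × ℕ) := [(1, 63, 61), (3, 6, 14), (0, 53, 65), (0, 53, 29), (3, 89, 12), (1, 77, 19), (0, 10, 36), (0, 62, 30), (2, 13, 35), (2, 78, 16), (2, 77, 11), (1, 74, 27), (2, 69, 44), (0, 32, 71), (0, 91, 9), (3, 63, 14), (2, 48, 47), (1, 61, 64), (3, 64, 47), (2, 93, 22), (0, 75, 35), (3, 67, 4), (2, 79, 23), (2, 74, 44), (0, 22, 25), (1, 50, 12), (2, 75, 13), (3, 69, 55), (1, 52, 1), (3, 11, 56), (2, 4, 17), (0, 73, 33), (1, 62, 69), (0, 82, 71), (0, 74, 49), (0, 37, 28), (2, 1, 45), (3, 34, 19), (0, 80, 69), (3, 82, 68), (1, 53, 12), (1, 94, 31), (2, 41, 6), (2, 47, 68), (2, 70, 68), (0, 66, 27), (0, 48, 20), (1, 27, 66), (3, 70, 39), (2, 26, 9), (0, 34, 27), (1, 63, 54), (2, 55,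 64), (0, 59, 10), (0, 83, 21), (0, 54, 26), (2, 66, 49), (0, 84, 29), (2, 18, 50), (0, 19, 62), (0, 60, 14), (3, 59, 30), (0, 34, 65), (3, 16, 14), (2, 35, 9), (2, 65, 13), (0, 53, 52), (1, 50, 58), (0, 34, 22), (2, 70, 56), (3, 31, 35), (0, 14, 8), (3, 83, 10), (2, 83, 36), (3, 70, 22), (3, 39, 48), (1, 12, 24), (1, 82, 10), (2, 11, 30), (0, 47, 12), (3, 52, 24), (1, 27, 25), (0, 58, 35), (1, 43, 16), (1, 20, 9), (2, 8, 62), (1, 7, 38), (3, 70, 69), (3, 48, 53), (1, 85, 38), (1, 71, 44), (2, 47, 15), (2, 1, 68), (2, 64, 51), (0, 33, 70), (3, 66, 30), (1, 77, 38), (2, 29, 65), (0, 31, 47), (2, 83, 17), (2, 69, 36), (1, 46, 55), (1, 42, 69), (0, 35, 54), (2, 18, 29), (0, 40, 14), (0, 70, 29), (1, 58, 55), (0, 28, 8), (1, 4, 10), (1, 33, 66), (1, 9, 16), (1, 29, 24), (0, 27, 19), (2, 23, 53), (1, 4, 1), (0, 69, 26), (2, 66, 31), (0, 91,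 48), (3, 78, 19), (0, 47, 48), (0, 71, 50), (0, 58, 71), (3, 74, 19), (0, 85, 2), (0, 83, 8), (1, 27, 33), (0, 35, 47), (0, 83, 35), (0, 1, 55), (2, 39, 16), (1, 29, 9), (0, 5, 57), (3, 34, 14), (1, 60, 4), (1, 21, 58), (0, 31, 37), (3, 80, 10), (0, 69, 9), (0, 72, 51), (2, 30, 5), (3, 2, 25), (0, 8, 9), (1, 2, 66), (2, 66, 58), (2, 5, 37), (3, 35, 10), (2, 83, 1), (2, 30, 54), (3, 34, 13), (0, 34, 3), (3, 68, 20), (0, 65, 63), (2, 18, 63), (0, 57, 9), (1, 91, 37), (2, 91, 66), (0, 38, 50), (2, 67, 17), (1, 78, 35), (3, 48, 69), (1, 44, 57), (3, 27, 63), (3, 86, 14), (1, 32, 17), (2, 31, 10), (0, 39, 8), (1, 80, 15), (3, 91, 47), (3, 12, 34), (2, 73, 9), (2, 92, 34), (3, 84, 12), (1, 18, 16), (3, 93, 6), (0, 84, 6), (1, 16, 67), (2, 64, 6), (1, 68, 68), (3, 61, 24), (3, 77, 68), (2, 65, 24), (2, 80, 22), (3, 14, 65), (1, 51, 8), (0, 55,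 22), (0, 64, 9), (3, 76, 3), (2, 5, 2), (1, 70, 55), (1, 31, 7), (0, 73, 37), (0, 12, 66), (1, 54, 32), (3, 69, 45), (1, 25, 11), (0, 61, 51), (2, 6, 7), (0, 11, 6), (3, 15, 9), (1, 14, 17), (3, 43, 33), (2, 7, 53), (2, 74, 46), (2, 46, 11), (2, 51, 51), (1, 32, 14), (1, 29, 48), (0, 55, 19), (1, 82, 34), (1, 45, 71), (2, 51, 46), (0, 30, 18), (1, 84, 36), (2, 14, 62), (2, 18, 48), (1, 93, 12), (3, 66, 15), (2, 64, 45), (2, 11, 42), (2, 89, 19), (2, 14, 30), (2, 2, 36), (2, 88, 4), (1, 61, 57), (0, 39, 20), (2, 69, 49), (2, 19, 48), (3, 73, 62), (0, 42, 36), (2, 5, 36), (3, 40, 50), (1, 33, 25), (3, 74, 68), (2, 58, 46), (0, 58, 49), (2, 61, 13), (1, 10, 27), (2, 20, 3), (3, 10, 9), (3, 9, 64), (0, 14, 67), (2, 23, 15), (1, 63, 71), (2, 44, 5), (2, 83, 42), (2, 66, 4), (0, 85, 65), (0, 51, 3), (1, 12, 42), (1, 13, 20), (2, 42, 16), (1,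 64, 17), (1, 9, 58), (3, 43, 8), (2, 49, 42), (2, 3, 18), (1, 72, 65), (3, 66, 54), (1, 42, 45), (0, 57, 21), (3, 91, 46), (2, 30, 9), (1, 62, 19), (3, 21, 67), (0, 68, 12), (1, 26, 18), (2, 8, 39), (1, 14, 46), (2, 10, 56), (3, 30, 55), (0, 44, 51), (0, 62, 11), (0, 81, 71), (1, 92, 52), (0, 85, 44), (0, 32, 23), (3, 24, 67), (2, 14, 13), (2, 91, 56), (2, 63, 56), (0, 91, 6), (3, 73, 23), (2, 93, 40), (0, 11, 4), (2, 2, 14), (0, 91, 19), (3, 20, 1), (0, 60, 7), (0, 45, 16), (3, 84, 3), (3, 20, 28), (1, 73, 16), (2, 30, 3), (3, 19, 49), (3, 43, 0), (1, 7, 46), (2, 18, 11), (2, 16, 57), (3, 71, 55), (2, 54, 63), (0, 42, 46), (1, 2, 59), (2, 48, 11), (2, 72, 70), (1, 39, 66), (2, 90, 41), (0, 38, 22), (2, 48, 15), (0, 58, 12), (1, 25, 1), (3, 85, 0), (2, 67, 47), (3, 60, 14), (1, 30, 64), (0, 22, 18), (2, 47, 6), (1, 60, 8), (2, 32, 45),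 (2, 63, 23), (0, 30, 16), (2, 38, 52), (2, 50, 0), (1, 22, 13), (0, 7, 7), (0, 27, 8), (0, 2, 46), (0, 77, 70), (0, 48, 59), (2, 81, 65), (1, 18, 13), (0, 21, 38), (2, 11, 25), (3, 11, 34), (0, 92, 57), (2, 83, 37), (1, 12, 55), (1, 55, 1), (3, 78, 2), (3, 83, 16), (3, 95, 7), (2, 78, 19), (1, 15, 12), (2, 39, 28), (0, 33, 71), (1, 53, 19), (2, 90, 16), (3, 68, 13), (1, 33, 4), (2, 40, 21), (3, 91, 63), (0, 20, 13), (1, 82, 25), (0, 69, 45), (0, 57, 60), (2, 89, 4), (1, 92, 4), (3, 23, 42), (3, 92, 28), (2, 42, 53), (0, 55, 63), (1, 16, 56), (0, 59, 0), (1, 74, 56), (1, 45, 3), (1, 72, 44), (3, 29, 38), (2, 30, 7), (3, 2, 61), (2, 30, 46), (2, 42, 65), (0, 52, 22), (3, 23, 56), (3, 14, 28), (0, 29, 29), (2, 2, 57), (2, 31, 20), (2, 33, 14), (0, 21, 32), (0, 90, 61), (2, 4, 9), (0, 62, 66), (0, 46, 14), (0, 62, 70), (0, 65, 21), (3, 51,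 63), (3, 14, 36), (0, 58, 19), (2, 7, 30), (1, 67, 64), (3, 43, 5), (0, 43, 9), (2, 60, 33), (2, 48, 5), (0, 5, 66), (1, 66, 13), (2, 81, 24), (2, 23, 62), (3, 42, 70), (3, 29, 12)]

/-- Entries. -/
def alphaEnt47 : List (ℕ × ℕ × ℕ) := [(2, 70, 16), (0, 5, 67), (0, 4, 26), (0, 10, 57), (1, 32, 49), (0, 4, 56), (1, 68, 42), (2, 55, 21), (0, 68, 66), (3, 80, 69), (0, 51, 28), (2, 91, 4), (2, 41, 5), (2, 38, 40), (1, 42, 36), (2, 46, 13), (1, 55, 52), (3, 2, 34), (0, 71, 27), (3, 91, 50), (1, 86, 24), (2, 82, 48), (1, 8, 24), (0, 7, 24), (1, 30, 37), (2, 13, 60), (1, 7, 58), (3, 70, 45), (3, 63, 25), (2, 94, 35), (3, 55, 40), (0, 40, 32), (2, 56, 14), (0, 61, 2), (1, 53, 61), (0, 25, 4), (2, 44, 0), (0, 60, 42), (1, 33, 59), (1, 92, 69), (0, 24, 27), (3, 3, 58), (0, 35, 34), (3, 56, 13), (1, 33, 62), (2, 51, 6), (2, 45, 62), (2, 7, 19),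 (0, 10, 29), (3, 53, 43), (1, 92, 47), (0, 15, 26), (3, 35, 57), (2, 28, 2), (3, 91, 56), (2, 11, 26), (3, 81, 12), (1, 67, 51), (3, 58, 4), (3, 28, 9), (0, 31, 60), (1, 11, 9), (1, 50, 27), (1, 77, 50), (0, 57, 37), (0, 71, 5), (3, 12, 44), (0, 6, 37), (2, 20, 28), (1, 81, 41), (3, 85, 34), (1, 43, 31), (0, 81, 66), (1, 77, 10), (2, 5, 15), (1, 57, 19), (1, 30, 40), (0, 77, 12), (0, 42, 17), (0, 31, 61), (0, 24, 41), (1, 31, 48), (1, 49, 18), (1, 34, 12), (1, 60, 54), (0, 16, 22), (1, 88, 4), (1, 14, 4), (2, 67, 12), (2, 55, 56), (2, 33, 57), (1, 5, 64), (3, 4, 30), (0, 40, 9), (2, 67, 51), (3, 34, 7), (1, 80, 25), (0, 40, 1), (3, 74, 60), (3, 59, 3), (0, 43, 45), (1, 67, 54), (2, 7, 5), (0, 44, 66), (0, 57, 50), (3, 47, 67), (0, 39, 11), (1, 56, 41), (3, 33, 30), (1, 29, 52), (2, 46, 34), (1, 69, 67), (1, 14, 18), (0, 3, 19), (3, 59,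 59), (3, 27, 29), (3, 14, 48), (0, 7, 58), (3, 13, 60), (0, 64, 12), (3, 81, 57), (3, 12, 57), (3, 67, 57), (0, 72, 28), (1, 71, 63), (3, 92, 49), (1, 61, 59), (0, 58, 27), (3, 12, 40), (1, 45, 52), (2, 80, 46), (2, 7, 17), (3, 59, 66), (1, 23, 3), (1, 34, 52), (3, 52, 17), (1, 3, 50), (2, 60, 9), (3, 82, 37), (3, 5, 3), (3, 64, 9), (3, 94, 4), (0, 1, 51), (3, 29, 6), (3, 75, 12), (1, 81, 11), (0, 46, 61), (0, 6, 58), (1, 27, 18), (3, 73, 35), (0, 77, 47), (3, 62, 49), (2, 39, 30), (0, 43, 57), (2, 19, 22), (2, 53, 43), (0, 9, 68), (0, 76, 15), (1, 83, 5), (3, 89, 43), (3, 15, 18), (2, 89, 38), (2, 64, 29), (1, 23, 58), (3, 38, 39), (3, 71, 0), (3, 51, 29), (0, 43, 41), (0, 1, 21), (3, 65, 46), (2, 77, 12), (3, 55, 14), (1, 84, 20), (0, 61, 12), (3, 11, 27), (3, 3, 56), (1, 65, 17), (2, 55, 26), (2, 84, 5), (1, 52, 13), (2, 16, 22), (2,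 27, 59), (3, 71, 4), (1, 38, 65), (0, 87, 54), (3, 47, 57), (2, 51, 28), (1, 33, 65), (1, 21, 19), (0, 47, 55), (3, 73, 32), (2, 15, 23), (2, 33, 17), (1, 40, 71), (0, 7, 30), (3, 35, 26), (1, 19, 45), (2, 51, 16), (1, 59, 64), (1, 43, 9), (3, 63, 9), (0, 50, 8), (2, 43, 65), (2, 2, 35), (2, 86, 10), (0, 38, 42), (0, 18, 70), (0, 54, 71), (1, 49, 27), (0, 55, 8), (3, 50, 44), (3, 7, 31), (0, 82, 28), (0, 14, 56), (3, 59, 17), (3, 16, 61), (3, 35, 18), (3, 49, 12), (1, 9, 45), (3, 30, 46), (0, 80, 65), (3, 55, 1), (2, 92, 37), (1, 78, 2), (0, 63, 29), (2, 72, 66), (1, 60, 66), (3, 65, 52), (1, 19, 37), (1, 24, 69), (0, 56, 44), (3, 68, 56), (0, 33, 37), (2, 50, 54), (3, 58, 59), (1, 10, 34), (2, 42, 68), (2, 89, 5), (1, 54, 39), (2, 29, 23), (0, 65, 30), (1, 76, 11), (1, 77, 45), (1, 29, 11), (2, 65, 50), (2, 15, 5), (3, 68, 71), (1, 5,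 13), (0, 13, 15), (0, 74, 56), (1, 51, 51), (2, 58, 33), (0, 65, 64), (3, 80, 16), (2, 52, 22), (1, 48, 41), (3, 30, 57), (3, 63, 44), (0, 91, 14), (2, 74, 28), (0, 46, 28), (0, 83, 37), (0, 27, 9), (1, 31, 20), (0, 69, 1), (1, 21, 49), (0, 47, 2), (0, 39, 32), (2, 9, 71), (0, 30, 35), (3, 31, 69), (0, 92, 35), (1, 53, 60), (0, 33, 23), (1, 11, 26), (3, 13, 71), (3, 83, 33), (1, 72, 1), (0, 58, 68), (1, 3, 61), (1, 39, 21), (1, 61, 66), (2, 21, 4), (1, 82, 49), (1, 8, 19), (3, 33, 24), (0, 11, 40), (1, 61, 51), (1, 45, 16), (1, 62, 31), (2, 15, 13), (3, 30, 30), (3, 73, 16), (1, 61, 42), (3, 60, 34), (2, 90, 26), (1, 38, 13), (0, 54, 34), (3, 75, 2), (3, 60, 32), (2, 52, 31), (0, 57, 34), (3, 79, 20), (3, 56, 63), (2, 31, 13), (3, 81, 58), (0, 62, 69), (0, 33, 39), (3, 11, 30), (1, 85, 49), (2, 39, 63), (3, 62, 19), (2, 54, 32), (3, 68,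 16), (3, 8, 39), (0, 75, 10), (2, 83, 9), (3, 26, 70), (0, 43, 51), (1, 83, 51), (0, 90, 15), (2, 13, 66), (1, 71, 64), (1, 75, 17), (0, 26, 48), (0, 37, 37), (3, 56, 37), (2, 45, 22), (2, 21, 53), (2, 58, 67), (2, 82, 30), (0, 13, 17), (2, 7, 47), (2, 55, 14), (2, 13, 37), (0, 45, 63), (2, 36, 57), (2, 61, 44), (0, 15, 19), (0, 12, 30), (0, 42, 58), (3, 22, 36), (2, 90, 70), (3, 39, 36), (1, 79, 24), (3, 46, 63), (3, 93, 4), (0, 48, 56), (1, 26, 28), (3, 91, 30), (0, 80, 42), (2, 74, 49), (2, 60, 41), (2, 34, 22), (2, 32, 52), (2, 73, 35), (2, 94, 8), (0, 4, 60), (0, 22, 31), (1, 79, 4), (0, 11, 17), (1, 26, 45), (0, 32, 28), (0, 50, 50), (1, 28, 7), (1, 84, 0), (0, 34, 45), (0, 5, 63), (0, 72, 70), (0, 39, 66), (0, 47, 56), (2, 3, 50), (1, 91, 65), (1, 50, 0), (3, 25, 27), (2, 59, 68), (3, 23, 63), (1, 58, 36), (2, 94, 26), (3, 55,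 27), (0, 21, 56), (1, 73, 51), (2, 57, 55), (1, 52, 6), (1, 4, 17), (0, 60, 40), (3, 42, 68), (3, 62, 43), (1, 85, 47), (0, 36, 14), (3, 8, 1), (0, 14, 1), (2, 73, 11), (1, 92, 51), (0, 82, 15), (2, 60, 64), (0, 79, 19), (2, 81, 0), (2, 24, 5), (3, 65, 69)]

/-- Entries. -/
def alphaEnt48 : List (ℕ × ℕ × ℕ) := [(0, 43, 65), (1, 84, 24), (0, 34, 36), (3, 21, 1), (2, 59, 16), (2, 74, 35), (2, 67, 54), (0, 74, 60), (2, 77, 46), (2, 80, 10), (3, 34, 9), (2, 59, 57), (3, 3, 8), (1, 2, 69), (0, 44, 31), (1, 23, 4), (3, 26, 39), (2, 55, 31), (3, 9, 23), (3, 1, 11), (3, 92, 26), (2, 29, 42), (1, 72, 56), (1, 77, 22), (1, 48, 34), (2, 21, 51), (3, 6, 17), (3, 78, 18), (1, 79, 16), (0, 77, 60), (1, 44, 24), (1, 46, 5), (3, 28, 12), (3, 11, 49), (0, 92, 59), (3, 72, 28), (1, 53, 36), (0, 33, 58), (3, 80, 68), (3, 56, 44), (1, 61, 14), (0, 84, 8),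 (0, 5, 13), (1, 81, 26), (0, 19, 36), (3, 63, 66), (3, 57, 41), (2, 47, 66), (0, 10, 50), (2, 60, 38), (3, 44, 65), (1, 50, 65), (3, 55, 53), (3, 73, 22), (1, 16, 18), (1, 35, 28), (2, 8, 53), (1, 32, 22), (1, 86, 23), (3, 26, 22), (2, 62, 23), (0, 1, 10), (0, 77, 14), (2, 47, 2), (0, 14, 61), (0, 51, 20), (1, 34, 55), (0, 23, 41), (1, 54, 28), (0, 68, 26), (3, 73, 2), (2, 80, 19), (0, 90, 38), (3, 9, 18), (3, 82, 54), (2, 40, 53), (1, 81, 15), (3, 94, 52), (2, 89, 7), (2, 17, 3), (3, 9, 38), (3, 11, 12), (3, 76, 10), (2, 10, 70), (1, 31, 55), (1, 45, 40), (2, 10, 48), (2, 94, 23), (3, 70, 64), (1, 66, 0), (0, 10, 33), (0, 85, 5), (2, 14, 50), (3, 60, 26), (0, 39, 12), (2, 90, 42), (2, 29, 27), (3, 54, 60), (1, 81, 28), (1, 61, 24), (3, 62, 62), (0, 31, 5), (2, 74, 40), (3, 65, 47), (0, 85, 46), (1, 27, 39), (0, 12, 26), (1, 70, 30),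 (3, 55, 47), (1, 8, 43), (2, 58, 31), (0, 38, 60), (2, 56, 39), (2, 16, 68), (3, 67, 13), (2, 78, 22), (2, 72, 33), (1, 58, 11), (3, 66, 14), (3, 63, 68), (2, 87, 0), (1, 9, 4), (2, 27, 66), (2, 70, 7), (3, 39, 14), (0, 21, 60), (2, 45, 26), (3, 45, 63), (0, 40, 28), (2, 72, 47), (0, 21, 69), (1, 86, 17), (1, 33, 48), (0, 61, 8), (0, 74, 25), (0, 62, 26), (2, 6, 45), (0, 94, 12), (1, 36, 34), (2, 1, 65), (1, 90, 1), (1, 6, 2), (0, 2, 11), (0, 4, 55), (0, 39, 6), (1, 33, 1), (2, 89, 47), (1, 9, 30), (1, 63, 6), (0, 24, 32), (0, 11, 28), (0, 72, 29), (3, 75, 6), (2, 35, 10), (2, 1, 43), (2, 85, 36), (2, 8, 55), (1, 74, 22), (1, 26, 65), (2, 59, 54), (2, 47, 33), (2, 50, 7), (0, 65, 69), (0, 68, 9), (2, 34, 40), (0, 23, 6), (2, 2, 16), (1, 9, 31), (1, 90, 0), (2, 27, 23), (1, 46, 19), (0, 16, 16), (0, 49, 19), (0, 64, 34), (2, 33, 5), (3,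 25, 20), (3, 57, 33), (1, 90, 31), (0, 50, 21), (1, 66, 41), (1, 49, 29), (1, 6, 42), (2, 77, 2), (3, 40, 4), (0, 55, 23), (1, 78, 4), (0, 71, 17), (2, 87, 41), (2, 68, 30), (0, 67, 42), (0, 69, 32), (3, 82, 50), (2, 43, 35), (1, 6, 44), (2, 65, 9), (0, 55, 16), (2, 63, 2), (1, 23, 57), (0, 35, 36), (1, 83, 25), (3, 47, 19), (3, 31, 38), (2, 19, 4), (3, 73, 45), (2, 29, 62), (2, 4, 38), (0, 82, 65), (0, 6, 9), (2, 13, 10), (2, 36, 66), (1, 11, 6), (2, 62, 45), (2, 77, 8), (3, 19, 56), (0, 87, 19), (3, 92, 3), (1, 33, 35), (3, 21, 55), (2, 78, 35), (1, 66, 15), (3, 40, 41), (2, 91, 61), (1, 54, 11), (3, 82, 34), (3, 66, 21), (0, 16, 39), (3, 61, 57), (1, 92, 56), (1, 42, 43), (0, 40, 31), (2, 72, 19), (3, 49, 68), (2, 9, 61), (0, 31, 50), (3, 69, 59), (2, 68, 70), (3, 6, 10), (1, 51, 56), (0, 31, 67), (1, 4, 70), (1, 17, 1), (0, 45, 66),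 (3, 21, 6), (1, 24, 70), (0, 54, 22), (1, 81, 19), (2, 14, 64), (1, 82, 33), (1, 68, 51), (2, 68, 69), (0, 15, 27), (2, 63, 39), (1, 51, 49), (3, 80, 12), (3, 26, 7), (3, 42, 5), (2, 85, 38), (1, 54, 60), (3, 94, 29), (0, 10, 19), (2, 85, 4), (2, 18, 37), (2, 34, 63), (1, 85, 6), (1, 50, 10), (3, 45, 39), (0, 92, 4), (1, 42, 61), (3, 48, 50), (0, 49, 32), (0, 15, 21), (2, 24, 3), (3, 38, 18), (3, 8, 0), (1, 47, 9), (3, 6, 60), (1, 73, 63), (2, 61, 49), (0, 46, 38), (2, 49, 28), (3, 5, 54), (3, 39, 60), (0, 94, 3), (3, 30, 53), (3, 57, 46), (2, 82, 14), (1, 34, 63), (3, 51, 24), (3, 43, 50), (0, 9, 2), (2, 39, 45), (1, 23, 24), (1, 35, 19), (0, 83, 58), (3, 10, 70), (2, 48, 67), (1, 7, 25), (1, 31, 42), (1, 23, 5), (3, 49, 63), (1, 94, 12), (1, 77, 65), (1, 53, 14), (3, 6, 45), (1, 63, 45), (2, 68, 44), (0, 89, 50), (2, 26, 46), (0, 45,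 18), (1, 85, 14), (1, 19, 25), (0, 57, 29), (0, 60, 1), (2, 26, 55), (2, 9, 53), (0, 61, 58), (1, 61, 36), (2, 91, 42), (2, 37, 15), (2, 87, 30), (3, 33, 53), (0, 3, 33), (1, 31, 21), (2, 11, 41), (3, 54, 49), (2, 85, 11), (3, 54, 61), (3, 74, 13), (3, 62, 9), (1, 55, 33), (1, 94, 55), (1, 16, 11), (3, 40, 21), (0, 35, 58), (3, 61, 1), (2, 55, 6), (2, 27, 24), (3, 49, 10), (0, 46, 43), (3, 52, 0), (3, 50, 35), (0, 24, 4), (0, 84, 7), (2, 83, 23), (2, 90, 54), (0, 83, 57), (0, 38, 15), (1, 8, 28), (1, 90, 4), (1, 7, 14), (3, 74, 38), (2, 27, 40), (2, 34, 56), (3, 39, 70), (3, 81, 41), (1, 94, 27), (3, 36, 10), (3, 61, 12), (1, 59, 1), (0, 12, 71), (3, 58, 52), (1, 35, 33), (3, 62, 28), (2, 18, 60), (0, 18, 24), (1, 6, 28), (0, 81, 45), (0, 65, 6), (0, 31, 54), (1, 38, 34), (2, 6, 25), (1, 54, 65), (2, 40, 58), (2, 64, 34), (1, 55, 21),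 (2, 5, 62), (1, 36, 15), (0, 19, 9), (0, 54, 23), (0, 36, 18), (1, 57, 33), (1, 60, 19), (1, 77, 31), (3, 31, 3), (0, 61, 50), (3, 67, 70), (3, 35, 21), (1, 5, 2), (2, 47, 26), (3, 44, 17), (2, 8, 63), (3, 69, 4), (2, 95, 1), (2, 86, 29), (2, 18, 7), (1, 22, 10), (0, 60, 6), (0, 64, 60), (1, 27, 4), (0, 90, 52)]

/-- Entries. -/
def alphaEnt49 : List (ℕ × ℕ × ℕ) := [(2, 92, 54), (3, 27, 26), (2, 74, 52), (0, 24, 15), (1, 77, 69), (1, 31, 23), (1, 89, 47), (3, 20, 20), (3, 39, 12), (2, 83, 68), (0, 48, 43), (2, 21, 25), (3, 80, 65), (1, 45, 70), (2, 31, 34), (3, 90, 32), (3, 32, 32), (3, 35, 1), (3, 9, 24), (1, 31, 58), (1, 27, 20), (1, 6, 51), (3, 12, 26), (0, 59, 69), (1, 4, 20), (1, 25, 6), (1, 64, 15), (3, 8, 27), (2, 15, 2), (3, 48, 25), (3, 36, 42), (0, 12, 33), (0, 83, 0), (2, 90, 34), (2, 81, 8), (0, 75, 33), (2, 93, 11), (3, 68,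 19), (3, 36, 55), (3, 70, 63), (2, 53, 56), (2, 68, 33), (2, 38, 69), (1, 63, 26), (2, 40, 40), (1, 6, 4), (1, 58, 10), (3, 77, 69), (3, 91, 57), (2, 12, 7), (1, 9, 46), (2, 89, 41), (2, 11, 70), (1, 30, 44), (3, 16, 24), (1, 37, 15), (2, 38, 63), (3, 63, 52), (3, 40, 12), (2, 13, 53), (1, 47, 47), (2, 83, 18), (3, 77, 71), (1, 72, 0), (1, 18, 45), (3, 62, 70), (1, 35, 3), (2, 47, 28), (2, 77, 50), (0, 51, 1), (3, 51, 42), (2, 9, 45), (1, 6, 36), (3, 93, 43), (3, 82, 13), (2, 16, 64), (3, 6, 3), (1, 2, 51), (3, 6, 6), (3, 71, 40), (0, 1, 36), (1, 10, 1), (1, 34, 11), (0, 31, 28), (2, 8, 36), (0, 12, 60), (3, 89, 60), (2, 71, 1), (2, 59, 32), (0, 9, 38), (2, 82, 7), (0, 11, 12), (0, 31, 1), (1, 26, 5), (0, 86, 13), (3, 70, 66), (2, 27, 5), (0, 66, 8), (0, 3, 27), (0, 22, 14), (3, 21, 28), (2, 91, 8), (2, 91, 16), (2, 61, 60), (3, 21, 0),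 (1, 11, 54), (0, 33, 21), (3, 80, 50), (2, 82, 3), (1, 73, 20), (3, 83, 35), (2, 68, 22), (0, 33, 11), (3, 69, 71), (1, 82, 31), (1, 60, 0), (1, 39, 24), (0, 24, 13), (1, 35, 55), (0, 70, 22), (1, 34, 66), (0, 74, 28), (0, 36, 40), (2, 3, 63), (1, 36, 30), (3, 66, 25), (0, 63, 33), (2, 51, 19), (2, 38, 54), (3, 31, 63), (2, 87, 39), (1, 62, 33), (2, 1, 18), (0, 77, 27), (0, 52, 27), (1, 33, 55), (1, 5, 54), (1, 29, 53), (3, 72, 34), (1, 27, 21), (3, 74, 15), (1, 67, 61), (3, 48, 28), (0, 65, 34), (0, 31, 42), (3, 5, 38), (2, 11, 1), (2, 49, 60), (0, 72, 1), (1, 20, 36), (0, 83, 60), (1, 89, 59), (0, 56, 50), (2, 76, 33), (2, 34, 11), (0, 14, 12), (3, 74, 54), (0, 24, 59), (1, 44, 53), (3, 43, 62), (2, 85, 57), (2, 27, 56), (0, 75, 14), (1, 17, 11), (3, 1, 17), (1, 63, 48), (3, 59, 4), (3, 62, 5), (3, 2, 53), (3, 38, 30), (2, 19, 60),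 (3, 82, 44), (3, 45, 48), (3, 41, 10), (1, 10, 44), (0, 49, 36), (2, 93, 68), (3, 39, 33), (2, 43, 50), (0, 81, 6), (2, 38, 13), (0, 68, 44), (1, 34, 38), (0, 82, 26), (3, 64, 8), (3, 14, 39), (3, 57, 50), (0, 89, 20), (0, 68, 61), (1, 64, 41), (2, 23, 17), (2, 1, 64), (1, 32, 7), (0, 65, 4), (1, 80, 60), (1, 7, 68), (0, 90, 24), (1, 1, 38), (1, 4, 5), (1, 66, 46), (0, 44, 59), (0, 32, 47), (0, 93, 63), (1, 33, 57), (0, 23, 54), (0, 67, 32), (1, 30, 19), (0, 23, 60), (0, 53, 68), (1, 67, 35), (1, 29, 71), (3, 94, 30), (2, 43, 25), (2, 49, 11), (1, 81, 29), (0, 30, 62), (2, 62, 9), (3, 32, 15), (0, 16, 15), (3, 67, 23), (0, 1, 70), (0, 57, 16), (0, 36, 5), (0, 19, 43), (0, 70, 66), (1, 32, 18), (0, 89, 68), (1, 83, 50), (1, 24, 40), (0, 93, 25), (3, 25, 23), (2, 17, 15), (2, 30, 50), (2, 74, 27), (3, 48, 32), (0, 65, 44), (3, 62, 68),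 (3, 59, 18), (3, 63, 39), (0, 50, 39), (3, 92, 39), (1, 75, 23), (0, 66, 45), (1, 68, 29), (3, 94, 6), (2, 35, 30), (2, 23, 37), (3, 81, 51), (3, 63, 28), (2, 73, 50), (1, 54, 48), (0, 53, 30), (0, 44, 25), (2, 67, 52), (0, 11, 11), (3, 15, 2), (1, 71, 47), (0, 38, 66), (1, 62, 15), (3, 42, 40), (3, 36, 66), (0, 11, 27), (0, 51, 38), (2, 75, 33), (2, 12, 20), (3, 87, 47), (1, 42, 21), (3, 89, 69), (3, 73, 25), (2, 68, 19), (2, 70, 41), (2, 54, 53), (3, 57, 58), (2, 4, 23), (0, 38, 20), (0, 24, 65), (1, 70, 6), (3, 33, 35), (1, 11, 62), (0, 15, 20), (1, 70, 0), (3, 16, 20), (1, 68, 62), (0, 73, 6), (0, 77, 29), (2, 13, 46), (3, 69, 39), (1, 94, 26), (3, 94, 58), (0, 9, 50), (1, 33, 63), (1, 53, 70), (1, 42, 25), (3, 42, 43), (3, 72, 32), (2, 81, 53), (2, 42, 52), (3, 43, 38), (0, 29, 46), (3, 62, 27), (1, 18, 38), (0, 3, 53), (2, 18, 0),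 (1, 53, 35), (3, 11, 43), (3, 68, 1), (0, 4, 28), (3, 10, 17), (1, 4, 7), (3, 20, 21), (0, 10, 20), (1, 38, 35), (2, 73, 21), (0, 63, 12), (1, 70, 9), (3, 20, 16), (0, 37, 40), (0, 32, 64), (1, 37, 27), (1, 56, 37), (0, 65, 60), (3, 81, 16), (1, 90, 45), (2, 26, 37), (0, 76, 17), (1, 46, 49), (3, 70, 29), (0, 74, 23), (0, 93, 53), (0, 90, 29), (2, 70, 59), (1, 37, 7), (0, 50, 66), (1, 54, 43), (3, 41, 8), (3, 19, 24), (2, 76, 10), (3, 7, 4), (3, 65, 70), (0, 93, 10), (0, 53, 47), (1, 57, 65), (2, 50, 62), (0, 81, 16), (2, 87, 44), (3, 70, 71), (3, 58, 9), (1, 36, 19), (2, 42, 27), (0, 38, 8), (2, 10, 33), (0, 32, 29), (3, 3, 42), (0, 13, 43), (3, 79, 36), (0, 35, 28), (0, 87, 2), (0, 53, 26), (1, 48, 30), (3, 93, 54), (3, 12, 50), (1, 69, 17), (0, 21, 22), (3, 13, 44), (0, 57, 35), (3, 46, 61), (1, 39, 62), (3, 74, 24), (3, 42, 4), (3,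 43, 61), (2, 37, 38), (1, 40, 16), (3, 24, 18), (3, 58, 42), (1, 8, 63), (3, 34, 65), (3, 46, 42), (3, 63, 42), (0, 93, 0), (1, 5, 55), (0, 94, 38), (0, 94, 7), (3, 49, 11), (1, 64, 69), (1, 61, 8), (3, 51, 17), (2, 55, 57), (2, 62, 51), (1, 13, 18), (1, 13, 38), (3, 29, 33), (2, 1, 71), (3, 55, 16), (3, 84, 21), (0, 4, 19), (1, 12, 63), (3, 8, 42), (1, 83, 29), (1, 82, 26), (2, 23, 55)]

/-- Entries. -/
def alphaEnt50 : List (ℕ × ℕ × ℕ) := [(0, 48, 0), (2, 59, 28), (2, 2, 7), (0, 91, 2), (1, 6, 33), (2, 66, 16), (3, 36, 51), (1, 12, 28), (2, 11, 47), (1, 33, 70), (3, 68, 37), (1, 67, 20), (0, 71, 16), (3, 1, 68), (2, 21, 5), (2, 8, 11), (0, 93, 71), (0, 39, 14), (2, 70, 69), (3, 81, 70), (0, 5, 19), (2, 92, 48), (2, 39, 48), (0, 43, 2), (2, 52, 7), (2, 21, 40), (3, 66, 51), (3, 48, 59), (2, 6, 5), (1, 1, 0), (2, 15, 28), (3, 78, 0),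 (1, 92, 0), (3, 46, 47), (2, 47, 43), (1, 91, 46), (0, 63, 40), (2, 34, 10), (3, 85, 21), (1, 91, 16), (3, 93, 8), (2, 21, 67), (1, 45, 33), (3, 10, 54), (1, 45, 2), (0, 12, 52), (1, 85, 8), (0, 62, 55), (0, 84, 14), (1, 2, 24), (2, 88, 5), (3, 53, 17), (2, 39, 34), (1, 69, 6), (1, 87, 50), (2, 53, 36), (2, 94, 1), (2, 62, 47), (2, 71, 46), (2, 20, 17), (2, 64, 35), (1, 6, 26), (3, 93, 25), (3, 53, 48), (1, 46, 56), (3, 77, 60), (1, 30, 65), (0, 66, 32), (2, 42, 2), (2, 50, 56), (1, 75, 29), (2, 53, 10), (0, 85, 0), (1, 73, 47), (0, 63, 44), (1, 91, 31), (3, 85, 63), (1, 31, 43), (3, 44, 67), (1, 26, 53), (3, 22, 11), (2, 35, 56), (0, 1, 37), (2, 20, 4), (2, 68, 39), (3, 50, 55), (2, 75, 7), (1, 8, 9), (1, 57, 20), (1, 74, 59), (3, 21, 47), (3, 12, 62), (3, 3, 2), (3, 53, 51), (3, 14, 56), (2, 48, 64), (0, 59, 55), (0, 85, 69), (0, 29,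 51), (1, 21, 57), (2, 47, 17), (0, 39, 16), (1, 36, 57), (3, 12, 54), (1, 1, 33), (1, 67, 25), (0, 39, 41), (3, 83, 32), (1, 34, 14), (3, 54, 55), (0, 8, 52), (1, 57, 21), (2, 10, 10), (0, 34, 53), (1, 38, 14), (1, 43, 20), (3, 54, 47), (3, 4, 46), (3, 93, 53), (1, 62, 39), (2, 4, 35), (2, 71, 2), (3, 83, 42), (0, 93, 58), (1, 83, 22), (0, 54, 44), (0, 63, 49), (0, 65, 27), (1, 53, 26), (0, 31, 11), (1, 43, 52), (3, 67, 60), (0, 58, 62), (3, 77, 44), (0, 65, 35), (2, 37, 2), (2, 84, 29), (0, 29, 12), (3, 72, 65), (3, 30, 59), (1, 93, 28), (3, 62, 14), (0, 30, 3), (1, 79, 21), (2, 24, 61), (2, 23, 33), (3, 12, 41), (3, 38, 22), (2, 81, 50), (0, 20, 16), (2, 93, 10), (3, 2, 3), (3, 82, 10), (0, 70, 3), (1, 82, 68), (3, 18, 2), (3, 86, 26), (2, 40, 37), (1, 70, 12), (2, 6, 52), (3, 62, 16), (3, 53, 71), (2, 75, 23), (3, 83, 71), (3, 75,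 48), (3, 48, 47), (0, 2, 7), (1, 5, 6), (0, 66, 58), (2, 94, 63), (1, 29, 31), (3, 89, 19), (0, 48, 37), (1, 72, 51), (3, 66, 63), (0, 29, 32), (2, 67, 4), (2, 68, 58), (0, 61, 41), (2, 19, 57), (3, 8, 44), (0, 64, 0), (2, 71, 19), (0, 74, 53), (3, 90, 39), (0, 7, 62), (1, 56, 62), (2, 58, 54), (1, 50, 3), (2, 3, 36), (3, 46, 29), (3, 10, 27), (0, 23, 42), (2, 85, 18), (0, 81, 31), (3, 92, 64), (2, 36, 1), (3, 66, 61), (3, 23, 15), (0, 0, 0), (2, 48, 53), (0, 26, 9), (1, 33, 36), (0, 39, 51), (0, 11, 44), (1, 47, 28), (3, 61, 69), (2, 61, 30), (0, 66, 63), (1, 46, 42), (3, 37, 17), (0, 42, 57), (2, 28, 8), (2, 49, 30), (0, 50, 12), (1, 63, 42), (2, 81, 46), (0, 26, 26), (0, 1, 2), (1, 35, 54), (1, 60, 45), (0, 19, 20), (0, 40, 12), (1, 83, 9), (2, 13, 26), (1, 83, 62), (2, 43, 54), (3, 13, 14), (0, 43, 38), (3, 2, 33), (3, 56, 48), (0,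 29, 67), (1, 65, 31), (3, 67, 58), (3, 6, 24), (2, 80, 28), (2, 53, 69), (3, 52, 2), (2, 10, 42), (1, 30, 51), (0, 53, 18), (0, 60, 54), (2, 18, 4), (2, 83, 70), (0, 84, 16), (2, 12, 65), (3, 81, 31), (2, 54, 7), (0, 56, 34), (2, 56, 55), (2, 57, 53), (3, 1, 6), (3, 57, 10), (3, 62, 2), (0, 49, 56), (3, 45, 31), (1, 73, 5), (1, 93, 71), (3, 82, 53), (0, 77, 10), (3, 75, 52), (2, 35, 48), (2, 21, 58), (0, 19, 40), (1, 85, 64), (3, 50, 32), (2, 6, 32), (1, 14, 0), (2, 33, 8), (0, 30, 4), (1, 70, 43), (2, 49, 51), (3, 90, 48), (3, 54, 35), (1, 46, 39), (0, 59, 21), (3, 94, 67), (3, 13, 65), (3, 30, 38), (2, 87, 65), (2, 58, 51), (1, 51, 50), (3, 43, 11), (0, 59, 65), (1, 60, 42), (0, 92, 5), (3, 90, 7), (3, 61, 54), (0, 68, 13), (1, 88, 5), (0, 81, 14), (3, 71, 70), (3, 72, 38), (1, 10, 5), (2, 23, 31), (3, 82, 66), (1, 66, 9), (3, 12, 3),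 (3, 60, 37), (2, 91, 40), (3, 19, 28), (3, 74, 7), (2, 21, 54), (0, 66, 6), (1, 58, 66), (1, 75, 60), (3, 39, 28), (0, 58, 3), (3, 67, 71), (0, 19, 51), (0, 41, 15), (1, 29, 2), (0, 49, 33), (3, 20, 8), (1, 71, 38), (0, 71, 7), (0, 35, 64), (2, 60, 39), (1, 71, 57), (0, 16, 47), (1, 11, 52), (1, 12, 32), (3, 33, 12), (3, 79, 21), (3, 46, 30), (0, 75, 9), (3, 0, 0), (0, 54, 13), (0, 42, 51), (0, 80, 0), (0, 14, 59), (3, 7, 44), (1, 16, 68), (1, 37, 64), (3, 5, 5), (2, 58, 4), (1, 82, 11), (2, 2, 1), (3, 31, 37), (0, 2, 4), (0, 95, 5), (3, 80, 49), (2, 9, 70), (2, 56, 22), (1, 37, 5), (1, 72, 19), (1, 13, 21), (0, 26, 22), (3, 50, 48), (0, 66, 21), (1, 91, 52), (1, 63, 15), (1, 60, 44), (1, 80, 23), (2, 1, 50), (0, 2, 13), (3, 2, 11), (3, 43, 6), (1, 52, 16), (3, 9, 3), (2, 82, 1), (1, 75, 59), (0, 43, 42), (0, 42, 29), (2, 87, 13), (3,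 14, 38), (1, 91, 44), (0, 6, 6), (1, 54, 62), (2, 41, 16), (3, 58, 2), (0, 58, 6), (1, 79, 30), (0, 53, 48), (3, 81, 5), (0, 53, 9), (1, 67, 23), (3, 91, 64), (2, 87, 50), (3, 2, 49), (3, 18, 42), (2, 11, 9), (2, 60, 48), (1, 77, 64), (1, 43, 10), (1, 45, 35), (2, 3, 43), (2, 59, 46), (3, 53, 27), (0, 69, 7), (1, 83, 15), (1, 35, 32), (2, 11, 34), (3, 35, 49), (2, 16, 46), (3, 79, 22), (0, 89, 13), (3, 42, 55), (0, 93, 69), (1, 77, 70)]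

/-- Entries. -/
def alphaEnt51 : List (ℕ × ℕ × ℕ) := [(0, 81, 65), (3, 66, 37), (0, 26, 33), (0, 73, 49), (2, 31, 33), (2, 57, 27), (1, 45, 50), (3, 87, 61), (1, 19, 58), (0, 50, 37), (0, 85, 53), (0, 65, 19), (2, 47, 41), (1, 1, 27), (1, 63, 59), (2, 85, 8), (2, 14, 17), (0, 14, 20), (2, 81, 52), (0, 72, 22), (2, 27, 67), (0, 12, 59), (3, 55, 49), (1, 14, 71), (1, 16, 64), (2, 93, 36), (2, 79, 22), (1, 46, 26), (1, 38, 37), (2, 62, 49), (3, 62, 6), (3, 66, 8), (3, 35, 29), (0, 54, 56), (1, 43, 57), (0, 92, 30), (1, 19, 15), (1, 61, 60), (2, 92, 17), (3, 28, 3), (3, 61, 39), (2, 85, 71), (2, 35, 68), (0, 49, 48), (1, 62, 7), (1, 30, 54), (2, 3, 69), (2, 1, 41), (3, 33, 65), (0, 5, 51), (3, 59, 55), (1, 70, 41), (1, 66, 4), (2, 5, 12), (2, 8, 7), (0, 63, 15), (2, 12, 4), (2, 24, 23), (1, 18, 8), (3, 36, 32), (0, 49, 8), (2, 23, 19), (2,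 39, 7), (0, 46, 36), (3, 46, 4), (1, 51, 55), (3, 43, 15), (2, 59, 60), (1, 38, 46), (1, 26, 16), (1, 90, 56), (3, 53, 55), (2, 33, 15), (1, 59, 3), (3, 21, 64), (2, 80, 14), (0, 49, 49), (3, 18, 39), (0, 38, 55), (1, 38, 27), (0, 91, 22), (0, 87, 36), (2, 35, 18), (2, 7, 44), (2, 66, 1), (1, 3, 63), (0, 63, 7), (0, 37, 64), (1, 10, 11), (0, 66, 25), (1, 2, 4), (2, 71, 34), (2, 8, 30), (2, 68, 27), (1, 36, 70), (2, 11, 45), (0, 19, 58), (3, 72, 10), (2, 1, 33), (1, 4, 44), (1, 89, 45), (1, 66, 17), (1, 11, 31), (3, 58, 6), (3, 60, 13), (3, 94, 12), (1, 71, 4), (3, 13, 26), (1, 32, 0), (0, 36, 15), (1, 50, 6), (0, 21, 19), (0, 39, 55), (2, 37, 10), (1, 82, 64), (0, 44, 71), (1, 31, 54), (1, 64, 36), (2, 89, 14), (0, 89, 48), (1, 67, 58), (1, 47, 26), (3, 24, 26), (2, 80, 64), (1, 2, 33), (0, 38, 26), (1, 8, 45), (3, 82, 2), (0, 73, 45),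 (3, 59, 63), (3, 35, 47), (3, 56, 19), (2, 5, 46), (2, 91, 0), (1, 20, 22), (0, 1, 59), (2, 80, 16), (3, 74, 57), (1, 47, 59), (3, 2, 38), (3, 63, 50), (0, 39, 61), (2, 16, 33), (3, 70, 44), (2, 21, 18), (0, 66, 60), (0, 7, 13), (1, 32, 48), (1, 18, 53), (3, 89, 32), (0, 16, 14), (0, 49, 6), (3, 46, 28), (2, 9, 28), (3, 46, 62), (2, 86, 8), (1, 77, 47), (0, 14, 0), (2, 84, 26), (2, 50, 40), (1, 94, 67), (2, 51, 0), (1, 49, 66), (0, 45, 70), (0, 19, 71), (3, 30, 6), (2, 36, 27), (2, 47, 0), (3, 21, 34), (3, 71, 14), (2, 80, 15), (2, 66, 28), (1, 33, 69), (2, 63, 9), (2, 67, 57), (1, 47, 49), (3, 50, 69), (2, 33, 66), (0, 37, 61), (2, 67, 40), (0, 94, 29), (2, 92, 49), (0, 19, 55), (0, 46, 21), (2, 65, 52), (1, 29, 35), (0, 78, 24), (1, 13, 33), (0, 15, 18), (1, 81, 8), (2, 73, 13), (3, 53, 11), (0, 23, 30), (2, 18, 51), (3, 53, 52), (1,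 36, 36), (3, 86, 18), (2, 29, 14), (0, 45, 7), (2, 55, 35), (1, 81, 17), (2, 90, 30), (0, 60, 29), (0, 14, 42), (1, 39, 52), (0, 63, 1), (1, 39, 37), (1, 55, 47), (1, 63, 49), (1, 4, 15), (3, 94, 3), (0, 18, 56), (1, 44, 65), (2, 10, 5), (3, 75, 15), (1, 57, 40), (3, 82, 57), (0, 85, 33), (3, 58, 64), (3, 3, 25), (0, 59, 42), (3, 57, 66), (3, 81, 66), (3, 11, 10), (3, 52, 32), (2, 90, 58), (2, 43, 69), (3, 90, 10), (0, 27, 51), (1, 30, 31), (2, 63, 16), (3, 35, 12), (2, 68, 26), (2, 22, 5), (3, 46, 17), (0, 36, 63), (3, 51, 13), (3, 94, 10), (0, 51, 21), (0, 7, 39), (2, 84, 1), (2, 54, 56), (0, 46, 51), (0, 58, 22), (0, 31, 70), (1, 62, 40), (3, 6, 16), (0, 3, 40), (0, 69, 31), (2, 16, 45), (2, 31, 68), (0, 50, 67), (2, 23, 20), (0, 4, 65), (0, 40, 18), (3, 52, 5), (2, 38, 68), (0, 50, 47), (3, 13, 45), (1, 38, 47), (2, 94, 12), (2, 46,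 56), (0, 80, 67), (0, 44, 39), (1, 22, 17), (1, 71, 45), (2, 39, 15), (2, 83, 28), (3, 49, 15), (2, 54, 0), (3, 94, 25), (0, 77, 26), (1, 26, 68), (3, 93, 29), (1, 37, 37), (2, 45, 58), (3, 15, 14), (0, 51, 25), (3, 55, 60), (2, 87, 14), (3, 78, 26), (0, 6, 10), (3, 53, 33), (1, 68, 16), (1, 32, 25), (1, 3, 11), (0, 9, 9), (2, 84, 18), (3, 69, 24), (0, 89, 62), (3, 18, 41), (0, 38, 51), (1, 34, 61), (2, 12, 27), (1, 13, 28), (3, 33, 70), (1, 5, 31), (1, 32, 54), (3, 22, 26), (1, 60, 22), (3, 72, 31), (3, 7, 24), (0, 63, 2), (3, 7, 55), (2, 37, 65), (0, 60, 50), (2, 68, 18), (1, 58, 53), (1, 73, 53), (0, 72, 27), (3, 90, 67), (1, 35, 17), (3, 94, 13), (3, 34, 22), (0, 1, 45), (2, 55, 61), (1, 11, 65), (1, 16, 26), (2, 34, 70), (3, 73, 47), (1, 21, 11), (2, 59, 37), (2, 18, 35), (1, 71, 3), (0, 50, 44), (0, 21, 61), (3, 66, 66), (0, 35,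 15), (3, 45, 44), (0, 85, 39), (1, 16, 16), (0, 59, 61), (0, 26, 65), (0, 9, 11), (2, 42, 61), (2, 71, 45), (0, 61, 37), (2, 11, 8), (3, 35, 67), (3, 7, 35), (3, 53, 10), (2, 94, 60), (3, 18, 10), (3, 13, 47), (0, 49, 10), (2, 78, 31), (1, 53, 23), (0, 87, 17), (2, 19, 18), (2, 92, 19), (0, 77, 57), (2, 60, 49), (0, 54, 69), (3, 56, 61), (3, 51, 0), (1, 49, 26), (2, 5, 19), (3, 3, 30), (1, 92, 14), (3, 34, 31), (0, 32, 42), (1, 65, 71), (3, 67, 10), (3, 7, 21), (0, 27, 60), (3, 62, 41), (0, 5, 29), (0, 20, 31), (0, 55, 58), (1, 60, 51), (1, 34, 50), (2, 13, 11), (2, 50, 63), (0, 71, 46), (0, 7, 47), (2, 90, 66), (2, 30, 14), (0, 56, 19), (3, 13, 66), (0, 82, 24), (2, 8, 8), (0, 26, 17), (2, 66, 32), (2, 72, 40), (1, 59, 35), (0, 92, 8), (2, 61, 3), (1, 20, 32), (3, 37, 68), (0, 37, 50), (3, 30, 1), (2, 61, 16), (0, 72, 33), (0, 83, 51),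 (2, 66, 14), (1, 84, 13), (2, 42, 18), (1, 30, 52), (1, 57, 69), (3, 67, 53)]

/-- Entries. -/
def alphaEnt52 : List (ℕ × ℕ × ℕ) := [(1, 59, 12), (0, 82, 62), (1, 57, 45), (2, 62, 69), (1, 82, 70), (2, 83, 12), (1, 10, 52), (3, 72, 20), (0, 3, 15), (1, 18, 35), (1, 48, 45), (0, 51, 60), (1, 90, 47), (3, 40, 54), (0, 93, 4), (1, 18, 17), (2, 73, 43), (1, 38, 61), (0, 32, 30), (1, 3, 2), (1, 64, 4), (2, 45, 49), (1, 55, 24), (1, 56, 14), (2, 22, 22), (3, 89, 39), (0, 21, 57), (1, 18, 18), (2, 69, 13), (2, 23, 70), (3, 67, 30), (0, 10, 70), (2, 57, 28), (3, 33, 13), (1, 50, 1), (2, 26, 34), (0, 79, 4), (3, 57, 61), (2, 55, 3), (0, 15, 1), (2, 91, 21), (1, 87, 70), (2, 67, 46), (1, 91, 42), (0, 69, 25), (0, 5, 5), (0, 40, 66), (3, 23, 10), (3, 9, 1), (0, 47, 65), (3, 33, 67), (3, 5, 39), (1, 64, 42), (0, 2, 25), (2, 5, 20), (3, 26, 42), (2,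 87, 12), (2, 47, 58), (3, 57, 0), (2, 9, 55), (1, 50, 42), (3, 34, 39), (0, 85, 42), (3, 30, 41), (0, 47, 45), (2, 50, 59), (3, 91, 53), (2, 11, 59), (2, 63, 32), (1, 93, 37), (3, 47, 56), (2, 37, 69), (1, 49, 1), (0, 2, 5), (3, 36, 68), (1, 73, 44), (1, 45, 4), (0, 59, 57), (0, 5, 32), (3, 55, 28), (1, 36, 2), (3, 30, 33), (2, 9, 67), (1, 15, 13), (1, 66, 18), (2, 77, 9), (0, 66, 62), (3, 61, 46), (0, 6, 15), (0, 13, 6), (3, 92, 62), (2, 35, 14), (2, 90, 37), (2, 19, 56), (3, 72, 16), (1, 3, 1), (1, 3, 23), (3, 85, 69), (2, 76, 19), (2, 89, 55), (2, 27, 7), (1, 81, 55), (3, 27, 22), (2, 46, 44), (1, 42, 5), (3, 75, 62), (2, 81, 30), (1, 10, 24), (0, 62, 57), (1, 11, 44), (1, 6, 40), (0, 64, 67), (2, 90, 50), (3, 8, 25), (0, 56, 0), (3, 67, 41), (0, 61, 39), (2, 6, 41), (0, 27, 58), (3, 85, 35), (0, 13, 58), (3, 9, 33), (2, 11, 67), (2,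 5, 52), (2, 50, 61), (1, 80, 53), (2, 12, 0), (1, 46, 32), (3, 87, 33), (3, 59, 6), (2, 83, 50), (0, 34, 40), (0, 61, 56), (0, 45, 41), (3, 2, 16), (2, 40, 45), (3, 90, 42), (0, 8, 44), (1, 8, 26), (1, 45, 20), (0, 71, 49), (3, 11, 36), (1, 50, 54), (1, 54, 37), (3, 94, 16), (0, 1, 5), (1, 58, 16), (0, 43, 29), (2, 4, 36), (0, 89, 3), (2, 72, 13), (1, 92, 25), (2, 1, 1), (1, 16, 5), (2, 59, 52), (2, 54, 11), (3, 91, 12), (0, 67, 69), (2, 9, 18), (1, 18, 2), (1, 22, 29), (1, 43, 24), (2, 1, 11), (3, 82, 41), (2, 35, 3), (0, 89, 46), (3, 75, 46), (3, 66, 3), (1, 53, 71), (1, 45, 18), (3, 56, 36), (1, 67, 12), (3, 29, 32), (2, 9, 24), (2, 62, 37), (2, 31, 12), (1, 32, 32), (1, 69, 51), (1, 60, 65), (0, 78, 11), (2, 30, 29), (3, 48, 27), (1, 3, 39), (0, 20, 0), (1, 85, 4), (0, 54, 61), (2, 14, 48), (3, 81, 42), (3, 64, 68), (0, 51, 58), (0,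 50, 63), (2, 27, 26), (3, 8, 67), (0, 41, 7), (1, 54, 64), (0, 27, 4), (0, 81, 27), (3, 83, 64), (1, 83, 31), (3, 44, 60), (3, 56, 0), (2, 31, 36), (0, 42, 8), (1, 45, 62), (3, 18, 21), (0, 40, 52), (0, 84, 13), (1, 38, 44), (1, 24, 62), (1, 48, 8), (3, 60, 20), (2, 32, 69), (0, 14, 51), (1, 50, 71), (2, 67, 26), (3, 64, 42), (1, 85, 70), (2, 18, 68), (0, 59, 5), (1, 62, 12), (2, 92, 24), (3, 65, 60), (2, 3, 51), (1, 14, 21), (0, 93, 44), (2, 84, 16), (3, 80, 62), (2, 75, 29), (1, 72, 9), (3, 49, 34), (3, 30, 15), (1, 52, 12), (2, 38, 39), (0, 32, 67), (3, 38, 4), (2, 14, 68), (1, 83, 55), (1, 50, 60), (3, 63, 43), (0, 71, 40), (1, 90, 35), (1, 90, 49), (3, 93, 58), (2, 86, 17), (3, 23, 16), (0, 77, 20), (3, 54, 6), (3, 57, 34), (3, 4, 69), (1, 23, 33), (1, 10, 70), (1, 53, 63), (2, 67, 33), (3, 77, 6), (2, 50, 32), (2, 87, 11), (2, 84,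 7), (1, 15, 1), (0, 13, 5), (3, 90, 54), (1, 30, 39), (2, 66, 44), (0, 47, 54), (2, 92, 10), (0, 87, 37), (2, 46, 45), (2, 65, 30), (1, 55, 20), (2, 36, 61), (2, 45, 55), (1, 50, 17), (2, 26, 32), (2, 58, 43), (2, 9, 66), (2, 63, 64), (3, 24, 51), (2, 19, 1), (2, 80, 6), (1, 11, 56), (0, 34, 18), (2, 81, 1), (1, 1, 20), (2, 75, 0), (3, 34, 37), (3, 48, 37), (1, 18, 48), (3, 7, 7), (3, 51, 47), (3, 67, 29), (0, 4, 47), (2, 80, 25), (1, 72, 12), (3, 15, 21), (1, 76, 5), (3, 92, 67), (3, 67, 43), (1, 20, 20), (3, 66, 70), (0, 10, 54), (1, 40, 55), (2, 63, 46), (0, 3, 55), (0, 86, 15), (1, 58, 26), (2, 76, 11), (1, 74, 39), (2, 57, 12), (0, 60, 59), (0, 12, 32), (1, 87, 44), (3, 94, 56), (2, 59, 14), (3, 31, 5), (0, 86, 21), (3, 53, 47), (0, 67, 7), (3, 57, 2), (3, 16, 40), (0, 71, 66), (1, 50, 2), (0, 9, 65), (3, 64, 19), (3, 56, 6), (3,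 7, 54), (2, 68, 11), (3, 3, 15), (1, 76, 18), (2, 49, 32), (3, 6, 41), (2, 90, 25), (1, 10, 0), (0, 72, 18), (1, 82, 19), (0, 46, 32), (0, 81, 21), (1, 44, 10), (1, 30, 57), (1, 61, 16), (3, 5, 52), (3, 46, 46), (3, 72, 30), (3, 24, 10), (3, 6, 22), (0, 57, 10), (3, 77, 48), (1, 93, 31), (3, 91, 43), (0, 93, 5), (2, 59, 6), (1, 90, 27), (0, 38, 56), (3, 92, 63), (0, 60, 17), (1, 72, 48), (3, 9, 39), (2, 69, 18), (2, 19, 62), (1, 42, 53), (1, 53, 67), (3, 93, 31), (2, 29, 15), (1, 5, 27), (3, 74, 26), (2, 76, 20), (1, 34, 1), (3, 36, 38), (0, 17, 15), (1, 90, 21), (1, 44, 61), (2, 10, 8), (0, 10, 51), (0, 78, 19), (0, 69, 18), (1, 27, 35), (2, 61, 66), (1, 2, 35), (1, 36, 47), (1, 68, 8), (3, 9, 26), (0, 82, 41), (2, 55, 62), (2, 83, 16), (2, 72, 18), (1, 93, 41), (3, 56, 18), (1, 90, 24), (1, 67, 29), (1, 29, 5), (1, 81, 21), (1, 67,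 5), (1, 93, 43), (3, 30, 10), (0, 91, 12), (2, 44, 19), (3, 72, 39), (3, 94, 69), (3, 10, 31), (0, 36, 22), (3, 69, 32), (3, 21, 59)]

/-- Entries. -/
def alphaEnt53 : List (ℕ × ℕ × ℕ) := [(1, 60, 21), (1, 22, 18), (2, 1, 30), (3, 43, 59), (3, 68, 17), (1, 19, 35), (2, 8, 22), (0, 34, 38), (0, 11, 31), (1, 36, 13), (3, 31, 18), (1, 74, 54), (3, 89, 65), (3, 81, 24), (0, 47, 5), (2, 16, 37), (3, 75, 32), (2, 77, 67), (1, 77, 59), (3, 27, 56), (0, 69, 47), (0, 78, 8), (3, 11, 1), (1, 44, 15), (1, 12, 4), (1, 2, 32), (2, 56, 50), (1, 9, 5), (0, 44, 17), (1, 74, 16), (2, 10, 67), (0, 75, 45), (3, 77, 40), (3, 11, 53), (3, 71, 17), (1, 53, 5), (1, 85, 71), (3, 92, 17), (0, 63, 38), (2, 75, 24), (1, 57, 24), (1, 45, 43), (0, 93, 34), (2, 24, 51), (2, 60, 52), (2, 29, 66), (1, 83, 40), (0, 69, 30), (3, 77, 32), (2, 60, 61), (3, 51, 54), (2,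 36, 40), (1, 12, 53), (3, 91, 9), (3, 82, 39), (2, 51, 55), (3, 24, 66), (2, 54, 59), (2, 93, 5), (3, 19, 69), (3, 55, 25), (1, 13, 13), (0, 77, 3), (0, 29, 57), (3, 83, 67), (0, 91, 59), (0, 92, 60), (3, 54, 8), (3, 22, 1), (2, 4, 32), (3, 95, 8), (3, 51, 9), (1, 51, 67), (1, 71, 61), (2, 14, 39), (0, 42, 19), (3, 64, 44), (3, 68, 64), (1, 75, 19), (3, 37, 28), (2, 14, 8), (1, 24, 9), (1, 19, 5), (1, 35, 13), (0, 91, 8), (0, 12, 43), (2, 38, 30), (1, 40, 61), (2, 53, 37), (0, 63, 3), (0, 85, 31), (1, 59, 40), (3, 64, 23), (3, 27, 71), (1, 30, 62), (1, 87, 51), (1, 36, 5), (1, 72, 68), (0, 71, 44), (3, 37, 60), (1, 82, 0), (2, 30, 15), (2, 66, 30), (0, 74, 43), (1, 26, 27), (0, 72, 26), (1, 28, 21), (0, 13, 34), (1, 40, 0), (0, 37, 53), (0, 68, 24), (1, 74, 61), (1, 67, 50), (2, 80, 40), (0, 27, 68), (1, 81, 61), (3, 20, 33), (1, 39,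 3), (3, 32, 68), (3, 39, 40), (2, 90, 13), (2, 63, 33), (0, 32, 63), (0, 91, 28), (2, 80, 50), (1, 71, 33), (3, 14, 52), (3, 27, 61), (1, 86, 35), (0, 43, 15), (2, 32, 18), (1, 36, 55), (1, 64, 49), (0, 53, 12), (1, 15, 3), (0, 54, 29), (1, 68, 14), (1, 89, 35), (0, 75, 63), (2, 70, 39), (3, 71, 16), (2, 50, 42), (1, 21, 12), (0, 57, 15), (1, 86, 11), (0, 61, 43), (3, 79, 13), (3, 27, 58), (0, 59, 8), (0, 4, 52), (1, 78, 12), (1, 23, 46), (2, 83, 4), (2, 60, 56), (1, 23, 68), (3, 21, 22), (2, 81, 61), (3, 9, 28), (1, 78, 31), (3, 56, 43), (3, 43, 28), (3, 77, 43), (0, 74, 36), (2, 50, 57), (0, 90, 46), (0, 61, 17), (2, 21, 17), (1, 1, 66), (0, 7, 37), (1, 83, 46), (0, 43, 8), (1, 50, 47), (3, 4, 43), (1, 13, 45), (3, 57, 56), (1, 50, 67), (3, 51, 38), (2, 91, 38), (2, 73, 53), (3, 86, 16), (2, 44, 15), (2, 76, 0), (2, 58, 30), (3, 93,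 2), (0, 10, 3), (3, 86, 15), (3, 86, 21), (1, 92, 55), (1, 39, 18), (1, 78, 19), (1, 71, 49), (2, 29, 46), (2, 69, 55), (1, 53, 33), (2, 85, 17), (0, 75, 26), (1, 3, 53), (2, 49, 14), (0, 83, 17), (3, 21, 7), (3, 16, 27), (1, 18, 41), (2, 12, 68), (0, 19, 34), (0, 70, 55), (2, 46, 41), (1, 74, 24), (0, 62, 0), (3, 19, 39), (1, 41, 2), (2, 1, 38), (3, 48, 39), (3, 12, 13), (1, 80, 9), (3, 51, 8), (0, 74, 12), (1, 26, 49), (1, 91, 59), (1, 90, 58), (0, 94, 42), (1, 48, 55), (0, 43, 5), (2, 82, 58), (1, 82, 7), (0, 54, 59), (0, 93, 6), (3, 36, 65), (1, 85, 9), (1, 82, 52), (2, 19, 41), (2, 19, 59), (2, 16, 28), (0, 85, 55), (0, 48, 54), (2, 43, 39), (2, 90, 10), (0, 87, 4), (1, 2, 56), (1, 10, 25), (2, 30, 65), (3, 75, 34), (0, 75, 11), (0, 31, 8), (3, 24, 13), (0, 73, 46), (2, 18, 12), (2, 30, 2), (0, 60, 68), (3, 10, 67), (0, 33, 53),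 (3, 37, 9), (0, 60, 25), (2, 1, 52), (3, 94, 21), (1, 89, 46), (3, 18, 63), (2, 9, 46), (3, 18, 67), (1, 38, 54), (1, 93, 51), (0, 55, 7), (3, 50, 52), (3, 52, 26), (1, 47, 45), (0, 93, 19), (2, 7, 25), (1, 93, 61), (3, 9, 29), (2, 54, 10), (2, 56, 68), (3, 89, 22), (3, 29, 37), (1, 14, 63), (2, 42, 6), (2, 28, 15), (1, 35, 60), (1, 22, 23), (3, 83, 12), (3, 30, 68), (3, 64, 67), (0, 85, 28), (2, 93, 48), (2, 5, 17), (3, 74, 12), (1, 20, 29), (2, 52, 36), (0, 46, 62), (0, 22, 22), (3, 48, 10), (2, 53, 25), (3, 13, 42), (3, 81, 49), (2, 71, 35), (3, 1, 26), (0, 43, 40), (2, 2, 0), (0, 57, 48), (0, 60, 51), (3, 32, 54), (3, 66, 23), (1, 32, 21), (3, 54, 63), (1, 22, 27), (0, 24, 50), (0, 2, 59), (1, 89, 8), (1, 42, 71), (1, 30, 69), (0, 29, 69), (1, 42, 16), (3, 29, 7), (2, 75, 63), (1, 90, 19), (1, 45, 19), (2, 74, 9), (2, 1, 16), (2,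 34, 26), (1, 61, 49), (0, 56, 48), (0, 6, 70), (1, 43, 12), (1, 10, 4), (2, 55, 59), (2, 75, 22), (0, 47, 10), (2, 50, 11), (2, 46, 58), (0, 33, 31), (3, 80, 36), (0, 63, 11), (1, 34, 59), (0, 2, 19), (3, 34, 46), (0, 91, 13), (1, 94, 32), (3, 59, 12), (3, 16, 30), (1, 71, 25), (2, 46, 6), (0, 16, 4), (3, 48, 3), (1, 80, 41), (3, 4, 6), (3, 75, 42), (1, 4, 4), (3, 93, 37), (2, 12, 21), (1, 75, 43), (1, 16, 13), (2, 42, 3), (3, 44, 12), (3, 35, 25), (1, 51, 31), (3, 6, 52), (2, 66, 25), (0, 82, 68), (1, 69, 24), (1, 89, 62), (1, 5, 24), (3, 19, 18), (1, 29, 13), (1, 10, 56), (3, 3, 63), (3, 32, 16), (2, 30, 70), (1, 8, 40), (3, 33, 20), (3, 72, 54), (2, 9, 48), (2, 68, 62), (3, 50, 65), (0, 11, 0), (0, 56, 58), (2, 66, 12), (1, 19, 27), (2, 87, 9), (0, 18, 18), (0, 31, 16), (0, 50, 20), (0, 85, 8), (2, 5, 29), (3, 9, 14), (1, 29, 18),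 (3, 45, 38), (0, 70, 15), (3, 45, 29), (0, 4, 18), (3, 13, 67), (3, 8, 31), (3, 24, 31), (0, 62, 33), (0, 75, 49), (3, 27, 8), (3, 32, 57), (0, 91, 71), (0, 24, 10), (2, 69, 37), (2, 38, 24), (3, 1, 64), (2, 6, 51)]

/-- Entries. -/
def alphaEnt54 : List (ℕ × ℕ × ℕ) := [(3, 47, 65), (3, 6, 59), (0, 83, 54), (0, 36, 16), (0, 29, 58), (3, 11, 45), (3, 72, 29), (2, 49, 43), (1, 14, 39), (1, 26, 67), (0, 46, 1), (1, 67, 28), (3, 18, 52), (2, 49, 8), (2, 52, 30), (3, 89, 45), (3, 38, 64), (1, 84, 8), (3, 18, 8), (3, 59, 16), (2, 10, 58), (1, 8, 41), (3, 30, 32), (2, 33, 64), (3, 57, 47), (2, 42, 21), (2, 69, 14), (3, 53, 22), (3, 23, 21), (0, 63, 32), (2, 67, 20), (3, 90, 51), (3, 52, 14), (2, 30, 27), (1, 88, 0), (0, 24, 40), (2, 2, 10), (0, 39, 9), (3, 21, 57), (3, 24, 59), (2, 83, 65), (0, 29, 39), (2, 94, 65), (1, 12, 70), (0, 40, 59),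 (3, 82, 6), (3, 51, 69), (3, 94, 28), (0, 23, 56), (3, 48, 9), (3, 68, 58), (3, 65, 26), (1, 42, 18), (0, 64, 42), (0, 56, 70), (3, 68, 66), (1, 90, 68), (0, 39, 37), (1, 60, 18), (0, 59, 33), (1, 9, 22), (1, 26, 64), (1, 91, 10), (1, 53, 11), (3, 72, 36), (1, 74, 57), (2, 63, 57), (3, 6, 66), (0, 49, 65), (3, 81, 8), (1, 74, 10), (2, 58, 62), (1, 30, 24), (3, 13, 33), (3, 93, 44), (0, 51, 27), (2, 37, 46), (0, 36, 2), (2, 26, 11), (2, 44, 6), (2, 85, 24), (1, 33, 60), (3, 27, 57), (1, 26, 55), (2, 38, 41), (2, 41, 0), (3, 71, 24), (3, 83, 18), (2, 43, 2), (0, 52, 0), (2, 58, 48), (3, 65, 65), (2, 20, 10), (1, 77, 25), (1, 83, 23), (3, 67, 40), (1, 39, 45), (0, 46, 57), (3, 16, 4), (0, 12, 61), (0, 63, 66), (3, 51, 66), (0, 24, 61), (2, 29, 16), (3, 53, 50), (2, 87, 51), (1, 48, 15), (0, 65, 32), (1, 84, 17), (1, 57, 54), (1, 79, 20),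 (0, 95, 0), (2, 77, 56), (3, 8, 36), (2, 16, 32), (2, 59, 61), (2, 37, 37), (1, 8, 44), (2, 23, 65), (3, 44, 2), (3, 92, 50), (2, 2, 60), (3, 31, 61), (3, 80, 11), (0, 27, 63), (0, 71, 67), (0, 3, 22), (3, 46, 32), (0, 84, 26), (3, 39, 52), (0, 86, 8), (3, 16, 38), (0, 80, 53), (1, 45, 44), (0, 29, 31), (1, 81, 68), (1, 13, 58), (0, 92, 31), (0, 1, 3), (2, 68, 16), (2, 92, 43), (2, 11, 44), (0, 47, 69), (2, 26, 3), (3, 95, 5), (2, 7, 39), (3, 85, 23), (2, 46, 63), (3, 7, 20), (3, 82, 64), (0, 14, 26), (1, 53, 41), (2, 3, 45), (2, 2, 39), (1, 74, 32), (3, 59, 70), (1, 71, 14), (0, 76, 1), (3, 24, 11), (3, 89, 63), (2, 9, 54), (0, 63, 5), (3, 71, 1), (0, 66, 10), (2, 8, 14), (0, 21, 43), (0, 40, 3), (1, 21, 13), (1, 70, 69), (3, 33, 69), (3, 40, 24), (1, 39, 38), (2, 88, 0), (0, 7, 40), (3, 30, 29), (3, 66, 57), (3, 36, 18), (1, 32, 58),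 (0, 7, 44), (0, 66, 52), (1, 73, 50), (3, 11, 11), (0, 49, 39), (3, 2, 4), (0, 48, 7), (0, 24, 62), (1, 8, 20), (2, 75, 39), (3, 78, 32), (0, 8, 10), (2, 4, 64), (2, 34, 68), (2, 53, 52), (0, 34, 2), (0, 65, 18), (1, 72, 63), (2, 40, 51), (0, 16, 34), (1, 93, 54), (1, 56, 54), (1, 34, 4), (3, 5, 40), (1, 61, 28), (2, 85, 33), (3, 15, 5), (2, 78, 24), (2, 64, 55), (2, 32, 17), (3, 43, 17), (3, 70, 65), (1, 83, 45), (0, 89, 6), (3, 1, 5), (2, 89, 11), (3, 75, 61), (2, 81, 26), (0, 70, 67), (2, 81, 40), (2, 64, 42), (2, 83, 20), (0, 55, 66), (2, 55, 1), (2, 37, 47), (0, 80, 64), (0, 35, 53), (0, 84, 1), (0, 94, 58), (0, 67, 26), (3, 63, 38), (2, 80, 45), (3, 73, 6), (1, 11, 37), (1, 68, 67), (0, 53, 8), (0, 75, 56), (2, 53, 34), (3, 9, 20), (1, 61, 4), (1, 46, 28), (2, 67, 5), (1, 92, 48), (2, 87, 3), (1, 16, 14), (0, 49, 45), (2, 55, 36),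 (1, 93, 11), (2, 85, 61), (2, 84, 25), (2, 32, 51), (1, 49, 15), (0, 61, 62), (1, 59, 26), (3, 67, 65), (3, 85, 65), (3, 82, 24), (1, 65, 62), (0, 70, 28), (2, 39, 3), (2, 73, 52), (0, 35, 59), (2, 73, 44), (2, 73, 32), (3, 90, 55), (0, 38, 27), (2, 5, 3), (1, 3, 30), (2, 94, 4), (0, 32, 35), (0, 59, 2), (1, 38, 16), (3, 58, 5), (3, 16, 49), (1, 64, 59), (3, 1, 36), (2, 78, 14), (1, 8, 23), (2, 53, 40), (1, 24, 33), (1, 90, 16), (2, 13, 13), (3, 68, 31), (3, 87, 48), (2, 64, 12), (1, 29, 4), (2, 73, 0), (1, 54, 67), (0, 27, 45), (0, 24, 48), (1, 7, 1), (3, 3, 66), (1, 10, 53), (2, 47, 46), (0, 35, 17), (1, 19, 71), (2, 60, 66), (3, 6, 65), (2, 67, 34), (2, 27, 36), (3, 52, 15), (1, 82, 42), (2, 16, 40), (2, 40, 67), (1, 45, 0), (2, 24, 19), (0, 35, 35), (1, 63, 34), (2, 76, 1), (1, 4, 62), (1, 87, 67), (3, 12, 39), (1, 7, 36), (1, 76,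 33), (1, 47, 70), (1, 2, 0), (1, 27, 53), (3, 47, 25), (2, 11, 66), (0, 56, 32), (0, 87, 53), (0, 31, 33), (3, 26, 37), (2, 33, 38), (1, 85, 53), (0, 40, 44), (2, 5, 0), (1, 36, 28), (1, 21, 44), (0, 48, 32), (2, 22, 2), (3, 45, 28), (1, 4, 50), (3, 12, 15), (2, 93, 45), (2, 19, 29), (2, 85, 1), (1, 87, 42), (2, 46, 32), (2, 57, 59), (1, 13, 47), (2, 59, 3), (2, 59, 24), (1, 35, 6), (1, 65, 49), (0, 51, 50), (3, 24, 58), (2, 69, 23), (0, 76, 2), (0, 54, 46), (3, 71, 48), (1, 62, 64), (3, 46, 1), (3, 85, 8), (0, 49, 18), (2, 19, 52), (1, 66, 6), (0, 43, 4), (2, 36, 38), (3, 53, 0), (2, 12, 59), (2, 28, 5), (1, 67, 71), (3, 5, 69), (3, 69, 34), (3, 5, 15), (1, 73, 45), (3, 50, 56), (0, 86, 24), (0, 2, 50), (2, 94, 36), (1, 6, 46), (0, 73, 40), (1, 6, 37), (3, 43, 31), (3, 40, 3), (3, 35, 71), (3, 7, 1), (0, 66, 69), (3, 36, 53), (0, 71,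 65), (2, 13, 65), (2, 59, 21), (3, 13, 31), (3, 46, 39), (1, 69, 32), (2, 30, 26), (1, 81, 70), (2, 9, 13), (0, 34, 69), (0, 38, 9), (2, 8, 34), (0, 35, 63), (1, 85, 40), (1, 11, 29), (2, 16, 39), (3, 55, 66), (0, 52, 4), (3, 87, 8), (1, 49, 14), (2, 50, 55), (0, 91, 35)]

/-- Entries. -/
def alphaEnt55 : List (ℕ × ℕ × ℕ) := [(1, 77, 40), (1, 56, 20), (3, 6, 70), (3, 8, 47), (1, 42, 6), (1, 83, 63), (2, 21, 47), (0, 4, 62), (2, 55, 40), (2, 58, 69), (2, 82, 32), (2, 27, 46), (0, 58, 8), (0, 68, 69), (2, 12, 51), (3, 38, 12), (2, 47, 60), (1, 2, 13), (1, 85, 11), (2, 8, 16), (0, 82, 4), (3, 60, 43), (2, 50, 3), (1, 31, 67), (3, 31, 25), (3, 46, 53), (3, 19, 29), (2, 8, 2), (0, 50, 40), (3, 12, 48), (0, 10, 60), (2, 74, 65), (0, 83, 40), (3, 50, 27), (0, 49, 66), (3, 79, 1), (0, 33, 43), (3, 69, 22), (0, 15, 12), (0, 11, 49), (1, 63, 3),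 (0, 63, 59), (0, 36, 1), (1, 67, 49), (1, 11, 50), (2, 27, 1), (2, 68, 13), (2, 38, 31), (2, 9, 7), (2, 51, 56), (0, 67, 63), (2, 92, 14), (2, 63, 67), (3, 18, 27), (0, 49, 30), (1, 68, 70), (2, 63, 51), (3, 16, 35), (0, 92, 46), (3, 32, 35), (0, 55, 17), (2, 34, 2), (3, 89, 36), (1, 76, 22), (2, 16, 71), (3, 42, 65), (2, 46, 40), (2, 18, 14), (1, 62, 56), (1, 12, 29), (0, 65, 56), (3, 74, 40), (3, 72, 68), (3, 57, 48), (0, 73, 48), (3, 72, 37), (0, 82, 25), (3, 94, 59), (2, 53, 64), (1, 4, 31), (0, 36, 60), (2, 67, 60), (2, 34, 50), (1, 64, 28), (0, 81, 50), (2, 81, 31), (1, 45, 55), (1, 7, 34), (1, 48, 48), (2, 12, 41), (3, 76, 28), (2, 42, 70), (1, 55, 26), (2, 73, 61), (2, 83, 66), (0, 55, 1), (1, 1, 25), (1, 48, 70), (3, 13, 1), (1, 55, 46), (3, 69, 25), (0, 81, 46), (3, 90, 15), (3, 72, 7), (0, 12, 69), (1, 7, 44), (0, 2, 12), (1,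 57, 55), (2, 53, 62), (2, 15, 29), (2, 2, 4), (2, 42, 24), (3, 63, 6), (2, 6, 44), (2, 46, 19), (1, 75, 63), (2, 8, 56), (1, 58, 30), (0, 71, 26), (0, 71, 2), (1, 24, 21), (3, 39, 8), (0, 55, 51), (3, 35, 46), (3, 61, 2), (0, 31, 40), (1, 92, 53), (3, 69, 41), (3, 8, 14), (0, 37, 18), (2, 73, 23), (3, 75, 7), (3, 29, 44), (3, 72, 46), (2, 81, 47), (3, 45, 23), (2, 56, 15), (0, 22, 8), (2, 76, 2), (0, 19, 38), (3, 31, 29), (3, 75, 8), (1, 87, 32), (1, 56, 24), (0, 82, 53), (3, 6, 7), (1, 3, 38), (0, 79, 27), (1, 72, 55), (1, 62, 13), (3, 24, 49), (1, 61, 22), (3, 36, 11), (1, 18, 19), (2, 23, 49), (1, 81, 31), (2, 85, 6), (2, 56, 51), (2, 25, 30), (1, 46, 20), (2, 43, 56), (2, 84, 3), (1, 23, 67), (0, 10, 27), (1, 65, 23), (2, 58, 22), (0, 43, 20), (3, 70, 43), (0, 82, 23), (2, 54, 69), (2, 54, 28), (3, 15, 33), (1, 62, 32), (0, 20, 10),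 (0, 49, 67), (3, 86, 6), (0, 81, 68), (1, 33, 29), (2, 18, 23), (2, 23, 0), (2, 42, 59), (3, 33, 60), (3, 6, 57), (0, 75, 51), (0, 64, 45), (1, 43, 33), (1, 67, 56), (0, 75, 47), (1, 16, 1), (3, 61, 19), (1, 19, 4), (2, 26, 56), (2, 89, 57), (0, 37, 55), (2, 18, 32), (0, 83, 68), (2, 38, 16), (1, 85, 51), (3, 89, 28), (0, 61, 20), (2, 36, 41), (2, 4, 34), (0, 69, 57), (0, 45, 6), (0, 94, 44), (2, 56, 47), (2, 61, 34), (2, 66, 53), (3, 65, 34), (1, 39, 2), (2, 47, 71), (0, 32, 54), (0, 24, 57), (2, 29, 18), (3, 87, 9), (1, 84, 6), (3, 62, 47), (2, 61, 26), (2, 37, 66), (3, 91, 39), (3, 57, 40), (1, 91, 64), (1, 31, 16), (0, 52, 3), (2, 58, 58), (2, 34, 21), (2, 86, 14), (2, 9, 11), (2, 94, 3), (3, 91, 44), (1, 20, 26), (0, 5, 17), (3, 21, 11), (1, 4, 18), (0, 27, 57), (0, 42, 69), (1, 68, 7), (1, 7, 52), (0, 47, 63), (0, 24, 53), (3, 47,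 3), (3, 77, 34), (2, 18, 52), (0, 3, 59), (1, 62, 25), (0, 65, 25), (1, 26, 1), (3, 12, 30), (1, 61, 25), (2, 59, 30), (2, 94, 15), (3, 75, 63), (2, 44, 35), (1, 1, 63), (2, 13, 19), (0, 31, 31), (3, 64, 66), (3, 35, 8), (0, 2, 65), (3, 46, 22), (3, 72, 27), (3, 45, 2), (2, 65, 35), (2, 37, 58), (0, 11, 14), (1, 35, 7), (3, 2, 10), (1, 81, 53), (0, 20, 9), (1, 94, 28), (1, 16, 66), (2, 76, 30), (1, 27, 70), (0, 45, 37), (2, 36, 22), (0, 93, 23), (2, 54, 52), (3, 40, 11), (2, 36, 16), (1, 24, 22), (2, 75, 36), (2, 3, 26), (2, 80, 17), (0, 10, 24), (3, 80, 51), (1, 8, 54), (0, 50, 14), (2, 64, 25), (0, 68, 38), (3, 42, 27), (3, 38, 15), (3, 10, 33), (0, 16, 28), (3, 2, 21), (1, 21, 35), (2, 82, 59), (0, 74, 19), (3, 59, 64), (2, 15, 22), (0, 51, 57), (3, 83, 52), (0, 2, 56), (3, 16, 63), (0, 29, 23), (3, 26, 57), (3, 54, 33), (2, 62, 55),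 (2, 91, 60), (2, 90, 51), (3, 71, 50), (1, 44, 58), (1, 94, 38), (2, 34, 62), (0, 19, 37), (2, 21, 57), (1, 91, 40), (1, 27, 40), (1, 66, 31), (2, 59, 27), (0, 92, 65), (3, 16, 70), (1, 59, 57), (3, 53, 5), (0, 37, 38), (1, 80, 36), (3, 37, 7), (3, 5, 60), (3, 2, 17), (3, 7, 66), (3, 65, 4), (2, 57, 35), (3, 68, 35), (2, 69, 19), (1, 70, 16), (0, 27, 37), (3, 93, 22), (2, 85, 14), (0, 60, 21), (1, 63, 44), (1, 91, 9), (2, 11, 46), (0, 83, 69), (1, 27, 59), (0, 46, 50), (1, 9, 53), (2, 77, 32), (3, 40, 47), (0, 42, 2), (2, 4, 51), (3, 58, 15), (2, 48, 23), (3, 58, 45), (2, 14, 16), (0, 90, 59), (1, 74, 37), (1, 72, 5), (3, 45, 32), (3, 75, 68), (3, 57, 65), (1, 87, 68), (0, 54, 66), (0, 61, 66), (3, 70, 21), (1, 94, 7), (3, 14, 57), (0, 9, 5), (0, 90, 21), (0, 11, 68), (2, 54, 1), (3, 44, 15), (1, 74, 36), (1, 30, 7), (2, 50, 66), (0,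 20, 5), (2, 30, 35), (0, 57, 20), (3, 3, 71), (1, 50, 19), (0, 71, 11), (0, 90, 53), (1, 44, 2), (1, 11, 19), (0, 92, 63), (0, 83, 13), (0, 69, 67), (1, 51, 10), (1, 18, 58), (0, 21, 21), (0, 5, 40), (2, 37, 40), (1, 44, 32), (2, 19, 17), (3, 94, 62), (1, 45, 53), (3, 48, 24), (1, 4, 39), (3, 69, 57), (3, 23, 8), (1, 19, 22), (1, 33, 50)]

/-- Entries. -/
def alphaEnt56 : List (ℕ × ℕ × ℕ) := [(1, 42, 11), (2, 62, 50), (3, 83, 47), (3, 75, 23), (3, 11, 44), (0, 69, 58), (0, 48, 36), (2, 58, 24), (3, 10, 4), (2, 37, 50), (0, 90, 50), (0, 12, 37), (0, 5, 33), (2, 44, 58), (1, 56, 51), (0, 77, 28), (3, 2, 65), (1, 90, 23), (1, 36, 46), (2, 2, 48), (0, 70, 44), (0, 94, 61), (3, 3, 10), (2, 39, 35), (2, 32, 63), (2, 86, 7), (2, 91, 28), (0, 59, 70), (3, 1, 42), (2, 30, 40), (3, 12, 58), (1, 22, 22), (0, 93, 37), (0, 72, 3), (0, 23, 71), (2,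 49, 9), (1, 57, 0), (1, 51, 38), (3, 50, 42), (2, 8, 44), (0, 70, 39), (0, 49, 5), (3, 74, 10), (3, 83, 46), (0, 26, 11), (2, 43, 10), (3, 6, 12), (2, 27, 58), (1, 2, 57), (3, 5, 20), (0, 50, 46), (0, 50, 48), (2, 45, 3), (0, 12, 1), (3, 71, 30), (0, 58, 47), (1, 77, 43), (3, 60, 53), (2, 83, 63), (1, 45, 49), (0, 41, 8), (0, 34, 57), (1, 91, 23), (2, 4, 41), (3, 39, 67), (3, 9, 36), (1, 19, 44), (1, 26, 26), (1, 51, 26), (3, 52, 4), (3, 55, 3), (0, 69, 27), (0, 21, 59), (1, 67, 59), (0, 65, 7), (1, 53, 50), (1, 76, 16), (3, 50, 1), (0, 43, 6), (3, 67, 11), (1, 75, 16), (0, 46, 23), (0, 56, 31), (0, 1, 1), (2, 53, 19), (3, 77, 56), (3, 24, 8), (2, 72, 42), (2, 89, 6), (2, 29, 57), (2, 77, 3), (1, 18, 28), (1, 86, 15), (3, 91, 60), (2, 66, 17), (2, 18, 58), (3, 77, 66), (3, 26, 59), (0, 20, 36), (1, 70, 65), (2, 80, 58), (0, 11, 3), (3,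 30, 51), (0, 92, 18), (0, 72, 10), (2, 64, 50), (1, 18, 63), (3, 15, 19), (2, 43, 18), (2, 2, 45), (2, 56, 40), (0, 10, 41), (3, 27, 30), (2, 65, 71), (0, 80, 44), (0, 89, 42), (0, 78, 28), (3, 13, 2), (3, 43, 51), (2, 32, 1), (1, 61, 71), (0, 75, 36), (3, 64, 41), (1, 93, 23), (0, 4, 46), (0, 75, 0), (0, 2, 69), (3, 74, 20), (2, 70, 55), (2, 18, 59), (1, 68, 23), (1, 38, 57), (0, 30, 13), (1, 68, 44), (3, 85, 9), (2, 31, 18), (0, 44, 15), (3, 82, 59), (2, 67, 2), (1, 27, 54), (3, 49, 60), (0, 79, 16), (2, 83, 6), (1, 93, 5), (0, 48, 14), (1, 73, 52), (3, 12, 45), (1, 72, 39), (1, 93, 63), (0, 2, 67), (0, 21, 6), (2, 92, 32), (1, 89, 14), (3, 43, 46), (2, 69, 15), (1, 44, 43), (3, 81, 69), (1, 31, 0), (0, 60, 30), (2, 41, 9), (3, 33, 21), (2, 38, 32), (3, 62, 53), (1, 1, 7), (0, 47, 67), (3, 27, 41), (0, 90, 55), (1, 61, 23), (0, 71,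 57), (0, 41, 2), (3, 47, 66), (0, 30, 34), (3, 54, 34), (3, 76, 20), (0, 16, 18), (0, 12, 17), (3, 86, 3), (0, 44, 56), (3, 26, 49), (2, 33, 56), (1, 75, 68), (1, 68, 0), (2, 44, 53), (0, 16, 42), (3, 93, 68), (1, 69, 18), (3, 31, 56), (2, 64, 31), (2, 91, 57), (3, 32, 28), (2, 51, 31), (3, 73, 18), (0, 13, 2), (3, 27, 36), (3, 7, 63), (2, 6, 33), (3, 62, 3), (0, 60, 2), (2, 6, 56), (0, 21, 36), (3, 44, 48), (0, 21, 50), (3, 83, 21), (3, 86, 7), (0, 6, 4), (3, 6, 18), (2, 79, 0), (0, 10, 16), (2, 39, 44), (1, 35, 11), (0, 71, 33), (0, 58, 14), (0, 45, 22), (2, 72, 14), (3, 39, 61), (3, 11, 66), (2, 28, 6), (2, 92, 2), (2, 12, 15), (3, 46, 15), (1, 69, 2), (2, 18, 6), (2, 83, 38), (1, 65, 12), (1, 51, 1), (1, 9, 8), (1, 27, 31), (0, 34, 19), (0, 40, 4), (2, 2, 71), (1, 40, 67), (1, 40, 35), (0, 80, 40), (1, 15, 28), (2, 36, 37), (1, 18,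 23), (0, 13, 21), (2, 20, 12), (0, 31, 52), (3, 11, 28), (0, 60, 23), (0, 5, 26), (2, 90, 31), (3, 24, 54), (2, 77, 38), (0, 42, 7), (1, 19, 16), (2, 42, 58), (0, 19, 0), (2, 89, 33), (2, 5, 25), (0, 41, 3), (1, 37, 54), (1, 61, 40), (0, 2, 21), (1, 27, 11), (2, 72, 55), (2, 48, 3), (0, 85, 60), (3, 71, 25), (1, 94, 54), (0, 16, 63), (1, 74, 67), (3, 67, 8), (2, 14, 38), (1, 46, 23), (1, 32, 44), (0, 69, 63), (3, 40, 42), (2, 47, 22), (1, 82, 63), (0, 35, 60), (2, 42, 19), (3, 25, 6), (1, 49, 38), (2, 43, 59), (3, 34, 26), (2, 6, 12), (3, 1, 67), (0, 28, 15), (0, 14, 65), (2, 51, 42), (3, 86, 27), (0, 56, 68), (2, 44, 36), (0, 61, 67), (1, 6, 61), (2, 3, 15), (2, 81, 11), (2, 7, 54), (1, 54, 56), (2, 37, 53), (3, 54, 14), (3, 47, 63), (3, 27, 0), (2, 62, 6), (3, 69, 29), (3, 50, 53), (2, 48, 61), (0, 94, 25), (0, 51, 33), (3, 3, 21),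 (3, 53, 28), (0, 19, 24), (2, 4, 40), (2, 38, 67), (3, 27, 35), (1, 40, 45), (0, 14, 17), (1, 77, 54), (3, 27, 46), (3, 23, 23), (2, 30, 24), (1, 58, 14), (1, 65, 39), (0, 39, 44), (0, 94, 59), (3, 49, 5), (3, 24, 41), (1, 67, 8), (0, 24, 43), (0, 61, 16), (1, 64, 44), (3, 92, 45), (0, 54, 2), (0, 64, 53), (1, 56, 17), (0, 87, 29), (3, 50, 46), (3, 17, 7), (1, 15, 36), (0, 70, 61), (3, 7, 11), (1, 90, 65), (2, 32, 30), (2, 85, 43), (0, 87, 12), (0, 34, 9), (1, 81, 38), (3, 40, 33), (0, 7, 23), (0, 37, 45), (1, 32, 36), (0, 50, 42), (2, 44, 26), (2, 81, 42), (1, 71, 32), (2, 92, 55), (2, 87, 18), (0, 73, 25), (2, 53, 31), (0, 54, 64), (2, 29, 48), (0, 28, 5), (1, 60, 55), (1, 47, 71), (2, 7, 43), (1, 13, 66), (0, 91, 53), (0, 54, 33), (3, 85, 66), (2, 9, 35), (0, 29, 33), (3, 64, 31), (1, 83, 20), (2, 69, 38), (3, 72, 64), (2, 71, 65),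 (3, 94, 68), (1, 90, 8), (1, 32, 27), (2, 4, 67), (1, 77, 30), (1, 37, 59), (3, 54, 24), (1, 35, 63), (1, 50, 35), (0, 46, 65), (2, 30, 34), (3, 20, 22), (1, 94, 60), (0, 53, 22), (0, 29, 20), (2, 74, 47), (2, 68, 17), (1, 85, 31), (3, 50, 45), (1, 10, 49), (3, 69, 18), (2, 69, 20), (0, 4, 1), (0, 87, 55), (2, 84, 28), (2, 15, 16), (0, 92, 12), (3, 62, 20), (1, 89, 48), (2, 3, 24), (0, 31, 0), (0, 5, 65)]

/-- Entries. -/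
def alphaEnt57 : List (ℕ × ℕ × ℕ) := [(1, 62, 53), (1, 80, 44), (1, 2, 1), (0, 57, 14), (2, 49, 4), (0, 19, 68), (3, 11, 64), (3, 1, 48), (3, 38, 1), (3, 63, 40), (1, 85, 35), (2, 74, 20), (1, 32, 19), (3, 13, 4), (0, 93, 41), (0, 85, 56), (1, 73, 1), (3, 68, 44), (3, 39, 16), (2, 30, 13), (1, 37, 66), (2, 45, 33), (1, 44, 62), (2, 2, 24), (2, 23, 16), (3, 21, 36), (2, 24, 7), (2, 6, 31), (1, 20, 3), (1, 53, 66), (2, 51, 24), (0, 15, 9), (0, 38, 57), (1, 54, 61), (2, 27, 22), (2, 4, 25), (2, 51, 9), (2, 25, 11), (3, 80, 15), (1, 52, 11), (3, 93, 5), (2, 93, 46), (2, 37, 33), (3, 72, 13), (0, 69, 51), (0, 13, 62), (0, 44, 57), (2, 74, 58), (2, 32, 68), (3, 32, 23), (1, 93, 34), (0, 73, 63), (0, 81, 30), (3, 77, 42), (0, 54, 51), (3, 38, 32), (2, 16, 9), (1, 27, 58), (3, 81, 1), (2, 4, 52), (2, 71, 61), (1, 28, 10), (0, 45, 9), (1, 57,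 11), (0, 12, 50), (1, 29, 59), (2, 55, 22), (1, 89, 42), (3, 12, 0), (2, 5, 14), (2, 80, 23), (1, 23, 39), (2, 48, 40), (0, 84, 9), (1, 92, 62), (2, 9, 58), (3, 49, 16), (2, 45, 13), (3, 26, 32), (1, 65, 7), (1, 36, 39), (0, 43, 35), (3, 76, 21), (2, 44, 61), (1, 71, 68), (2, 84, 11), (0, 13, 23), (1, 14, 5), (0, 63, 8), (2, 53, 67), (1, 18, 56), (3, 94, 31), (3, 12, 31), (3, 1, 69), (0, 93, 29), (0, 56, 26), (2, 23, 8), (2, 80, 69), (0, 67, 39), (0, 19, 44), (2, 13, 12), (3, 20, 9), (3, 54, 56), (3, 22, 29), (2, 6, 21), (2, 82, 47), (2, 40, 10), (1, 27, 3), (3, 54, 11), (0, 64, 46), (3, 27, 34), (0, 6, 42), (1, 93, 16), (0, 94, 51), (0, 21, 26), (1, 68, 9), (2, 44, 22), (1, 89, 3), (1, 91, 70), (2, 60, 67), (2, 30, 11), (1, 7, 64), (2, 66, 38), (3, 17, 2), (0, 65, 15), (2, 79, 15), (2, 53, 32), (3, 37, 18), (3, 75, 47), (0, 39, 15),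 (1, 75, 42), (2, 93, 37), (3, 22, 17), (3, 75, 43), (3, 92, 53), (3, 22, 22), (0, 91, 43), (2, 54, 22), (0, 15, 35), (0, 68, 51), (2, 94, 61), (2, 85, 32), (0, 93, 24), (0, 47, 62), (0, 32, 55), (3, 51, 36), (0, 66, 68), (3, 12, 5), (1, 90, 44), (1, 30, 67), (3, 75, 55), (0, 51, 64), (2, 47, 10), (2, 71, 6), (0, 89, 23), (1, 53, 1), (3, 52, 23), (3, 91, 61), (3, 15, 15), (0, 79, 12), (3, 43, 12), (0, 49, 29), (2, 4, 5), (0, 67, 12), (0, 80, 29), (0, 34, 51), (3, 10, 60), (2, 66, 19), (0, 5, 68), (1, 40, 40), (1, 52, 30), (1, 1, 46), (1, 39, 39), (2, 29, 10), (2, 37, 45), (0, 76, 28), (3, 9, 25), (0, 30, 36), (1, 2, 29), (0, 30, 32), (2, 42, 17), (2, 48, 27), (0, 3, 49), (0, 30, 56), (2, 4, 42), (1, 48, 23), (2, 35, 62), (0, 16, 38), (2, 29, 37), (2, 89, 25), (3, 89, 23), (2, 14, 44), (3, 32, 24), (1, 12, 7), (2, 44, 47), (0, 11, 38),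 (0, 94, 10), (3, 26, 1), (1, 89, 11), (1, 10, 33), (3, 5, 23), (3, 14, 40), (3, 30, 64), (3, 64, 33), (3, 37, 70), (2, 77, 48), (0, 6, 2), (2, 86, 15), (2, 55, 29), (2, 86, 16), (3, 7, 33), (3, 26, 66), (2, 93, 2), (1, 46, 65), (2, 56, 69), (2, 6, 69), (0, 9, 64), (1, 71, 51), (0, 77, 37), (0, 5, 59), (0, 46, 48), (2, 53, 39), (2, 8, 54), (0, 23, 36), (1, 83, 69), (3, 53, 49), (2, 92, 67), (1, 83, 34), (3, 85, 62), (0, 81, 13), (2, 26, 67), (3, 40, 9), (2, 35, 44), (3, 61, 16), (3, 72, 44), (0, 63, 53), (1, 33, 61), (2, 35, 65), (1, 37, 9), (2, 56, 41), (2, 32, 54), (3, 80, 0), (0, 81, 9), (1, 84, 9), (2, 51, 62), (1, 1, 60), (2, 58, 45), (0, 85, 30), (0, 43, 62), (2, 29, 7), (1, 60, 17), (1, 12, 16), (0, 90, 33), (3, 35, 4), (3, 30, 20), (3, 18, 40), (1, 53, 32), (1, 31, 15), (3, 4, 4), (3, 5, 45), (1, 44, 22), (3, 11, 71), (2, 27, 49),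 (1, 2, 39), (2, 43, 5), (1, 60, 46), (3, 54, 52), (1, 15, 17), (1, 14, 37), (2, 82, 54), (1, 67, 7), (1, 3, 15), (3, 46, 41), (0, 8, 57), (1, 80, 70), (2, 19, 15), (3, 45, 21), (3, 47, 62), (3, 9, 54), (2, 38, 64), (1, 48, 71), (1, 72, 28), (1, 61, 0), (1, 53, 54), (0, 30, 11), (1, 71, 60), (1, 80, 61), (0, 6, 54), (0, 77, 66), (3, 13, 69), (0, 10, 26), (2, 19, 13), (2, 31, 47), (1, 68, 5), (3, 53, 41), (2, 55, 54), (3, 92, 22), (0, 72, 34), (2, 33, 50), (3, 35, 45), (0, 26, 3), (1, 59, 50), (2, 84, 10), (0, 14, 39), (3, 4, 10), (0, 8, 33), (3, 5, 19), (0, 43, 11), (0, 51, 65), (1, 12, 23), (0, 45, 1), (1, 14, 6), (2, 23, 46), (2, 77, 14), (3, 79, 14), (1, 13, 34), (3, 6, 35), (0, 93, 12), (0, 43, 23), (3, 26, 25), (3, 29, 36), (2, 27, 48), (1, 36, 21), (0, 45, 15), (3, 57, 62), (0, 75, 34), (1, 55, 19), (0, 27, 61), (2, 81, 62), (0,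 71, 68), (0, 14, 53), (1, 38, 48), (2, 63, 61), (3, 21, 39), (2, 76, 36), (1, 74, 25), (0, 33, 48), (3, 64, 16), (1, 20, 31), (3, 67, 15), (1, 12, 34), (0, 83, 39), (3, 13, 6), (0, 9, 34), (2, 87, 69), (3, 66, 19), (0, 49, 26), (1, 33, 22), (1, 44, 14), (1, 63, 68), (2, 42, 47), (3, 81, 7), (2, 38, 50), (2, 61, 71), (2, 72, 12), (3, 14, 42), (1, 48, 69), (2, 75, 18), (2, 10, 22), (2, 45, 64), (0, 48, 39), (3, 3, 50), (3, 91, 14), (1, 70, 1), (2, 19, 14), (2, 93, 66), (1, 50, 49), (1, 58, 51), (1, 84, 5), (3, 5, 68), (1, 36, 9), (2, 33, 39), (1, 43, 44), (3, 5, 44), (3, 23, 29), (1, 74, 60), (0, 67, 54), (3, 29, 63), (1, 69, 8), (0, 42, 22), (2, 49, 65), (2, 94, 55), (1, 32, 66), (0, 76, 32), (2, 31, 49), (0, 74, 66), (3, 2, 68), (3, 26, 64), (2, 87, 63), (0, 16, 58), (2, 93, 16), (3, 87, 2), (1, 45, 38), (1, 51, 3), (2, 72, 36), (2, 90,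 65), (0, 60, 18), (1, 63, 67), (1, 72, 61), (2, 13, 70)]

/-- Entries. -/
def alphaEnt58 : List (ℕ × ℕ × ℕ) := [(0, 7, 8), (2, 24, 20), (2, 23, 2), (0, 89, 27), (1, 27, 17), (1, 1, 3), (0, 68, 16), (3, 24, 1), (0, 40, 20), (2, 23, 24), (3, 37, 37), (1, 11, 40), (0, 5, 23), (2, 56, 44), (2, 37, 22), (3, 61, 66), (1, 24, 44), (2, 91, 67), (1, 47, 33), (1, 89, 30), (2, 15, 3), (1, 86, 29), (2, 47, 48), (0, 89, 39), (1, 64, 30), (3, 11, 16), (2, 27, 53), (2, 82, 57), (1, 77, 58), (1, 53, 58), (2, 69, 32), (2, 18, 70), (1, 31, 66), (3, 14, 70), (2, 91, 71), (1, 59, 56), (2, 58, 49), (3, 35, 15), (1, 92, 35), (1, 38, 62), (3, 26, 11), (2, 77, 49), (1, 67, 33), (1, 13, 67), (2, 45, 53), (2, 82, 28), (1, 66, 44), (0, 21, 3), (2, 12, 2), (0, 68, 37), (1, 54, 17), (0, 64, 71), (0, 43, 69), (2, 62, 56), (0, 64, 6), (2, 21, 42), (1, 13, 36), (0,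 72, 53), (1, 27, 27), (1, 57, 66), (2, 15, 14), (0, 75, 52), (1, 43, 65), (2, 50, 67), (3, 69, 70), (3, 60, 50), (0, 9, 3), (2, 53, 50), (1, 30, 0), (3, 24, 12), (0, 39, 23), (1, 73, 29), (0, 82, 45), (1, 87, 63), (3, 59, 22), (1, 24, 16), (0, 15, 15), (3, 40, 57), (2, 82, 42), (1, 24, 67), (0, 6, 59), (3, 57, 14), (0, 38, 18), (2, 44, 43), (1, 6, 43), (2, 29, 61), (2, 63, 31), (1, 15, 16), (1, 9, 70), (1, 39, 32), (1, 11, 17), (3, 56, 11), (1, 85, 19), (2, 83, 29), (1, 72, 62), (2, 80, 5), (2, 43, 23), (2, 46, 28), (1, 47, 55), (0, 23, 26), (1, 87, 54), (0, 20, 6), (2, 11, 23), (2, 54, 19), (1, 12, 21), (1, 1, 21), (0, 22, 12), (0, 67, 43), (1, 18, 69), (1, 87, 31), (0, 8, 19), (2, 9, 32), (3, 44, 52), (3, 64, 3), (2, 2, 28), (1, 85, 18), (2, 21, 38), (3, 67, 34), (1, 57, 18), (2, 90, 68), (3, 64, 58), (0, 35, 40), (2, 69, 29), (0, 55,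 52), (2, 66, 20), (2, 72, 62), (3, 84, 10), (0, 59, 50), (0, 90, 36), (3, 93, 66), (3, 75, 44), (1, 92, 16), (3, 60, 41), (1, 65, 43), (3, 43, 60), (2, 5, 44), (1, 29, 29), (1, 13, 24), (1, 71, 29), (3, 54, 13), (0, 71, 63), (0, 31, 38), (3, 21, 53), (3, 94, 51), (3, 48, 1), (0, 7, 60), (1, 54, 50), (2, 34, 67), (2, 56, 49), (0, 13, 66), (3, 9, 37), (3, 87, 18), (0, 47, 0), (3, 5, 46), (1, 84, 27), (2, 56, 24), (3, 15, 27), (1, 7, 23), (1, 50, 69), (1, 69, 0), (2, 53, 44), (0, 46, 6), (3, 34, 59), (1, 10, 10), (0, 85, 52), (1, 49, 43), (1, 51, 22), (3, 67, 62), (3, 26, 28), (2, 58, 19), (0, 84, 25), (3, 12, 35), (3, 60, 38), (3, 33, 11), (3, 94, 27), (1, 7, 28), (0, 27, 71), (2, 4, 43), (1, 33, 24), (0, 38, 11), (2, 82, 35), (2, 83, 44), (0, 34, 47), (2, 44, 31), (0, 37, 35), (2, 38, 1), (3, 65, 29), (1, 48, 16), (1, 7, 37), (3, 55, 48),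 (1, 11, 61), (0, 63, 4), (3, 32, 20), (3, 39, 55), (0, 4, 53), (0, 38, 40), (3, 36, 63), (1, 94, 63), (3, 27, 47), (0, 57, 39), (0, 54, 40), (1, 1, 52), (0, 26, 50), (2, 29, 26), (3, 57, 59), (3, 52, 22), (1, 19, 63), (0, 59, 3), (0, 47, 6), (3, 53, 2), (0, 50, 0), (0, 35, 23), (1, 34, 60), (3, 81, 6), (3, 94, 22), (1, 37, 63), (0, 89, 58), (3, 42, 13), (1, 26, 58), (0, 26, 25), (1, 4, 35), (1, 69, 60), (1, 72, 11), (0, 72, 41), (1, 81, 25), (1, 56, 44), (1, 68, 56), (1, 46, 36), (1, 37, 6), (2, 2, 54), (0, 78, 14), (0, 48, 62), (2, 82, 15), (3, 38, 25), (1, 43, 5), (0, 92, 51), (3, 71, 10), (0, 85, 22), (3, 7, 29), (2, 45, 9), (3, 61, 7), (1, 5, 51), (0, 33, 7), (1, 3, 8), (0, 6, 43), (2, 50, 15), (0, 84, 23), (1, 70, 11), (3, 19, 47), (1, 61, 50), (3, 67, 54), (1, 90, 13), (2, 74, 60), (0, 55, 67), (0, 77, 36), (2, 2, 41), (1, 36, 35),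 (0, 81, 56), (1, 29, 6), (1, 7, 3), (3, 93, 36), (2, 57, 7), (2, 86, 23), (0, 63, 0), (3, 87, 37), (0, 79, 22), (3, 30, 2), (1, 91, 22), (0, 3, 50), (3, 21, 63), (0, 2, 8), (0, 32, 62), (2, 21, 45), (0, 51, 16), (0, 4, 48), (1, 19, 6), (3, 54, 17), (2, 71, 69), (0, 39, 64), (0, 70, 18), (3, 43, 65), (2, 72, 28), (2, 92, 59), (1, 67, 22), (3, 7, 27), (0, 2, 62), (2, 87, 31), (2, 71, 26), (0, 47, 41), (0, 80, 71), (0, 21, 24), (2, 71, 9), (1, 5, 11), (2, 32, 71), (2, 40, 1), (2, 77, 36), (0, 36, 35), (0, 65, 26), (3, 17, 10), (0, 53, 62), (3, 20, 5), (3, 37, 5), (0, 94, 71), (3, 70, 55), (0, 60, 16), (2, 87, 8), (0, 29, 56), (2, 93, 21), (2, 42, 60), (1, 79, 22), (0, 4, 20), (2, 59, 17), (1, 93, 69), (3, 49, 2), (1, 52, 22), (1, 64, 32), (2, 61, 7), (3, 67, 17), (2, 16, 24), (0, 53, 49), (2, 87, 5), (3, 62, 59), (0, 18, 63), (1, 58, 28),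 (1, 14, 28), (2, 69, 61), (3, 27, 18), (2, 42, 11), (0, 45, 31), (2, 70, 34), (2, 46, 30), (0, 92, 34), (0, 46, 44), (0, 44, 12), (3, 53, 12), (3, 60, 71), (3, 54, 62), (0, 26, 58), (2, 42, 37), (3, 27, 51), (3, 4, 61), (0, 57, 27), (3, 32, 60), (0, 33, 34), (3, 23, 58), (0, 21, 34), (3, 69, 60), (2, 92, 38), (2, 7, 29), (2, 87, 33), (3, 76, 17), (1, 73, 57), (2, 72, 57), (3, 16, 47), (3, 62, 0), (2, 75, 46), (3, 59, 46), (3, 32, 33), (1, 45, 68), (2, 60, 12), (0, 82, 11), (1, 60, 63), (1, 32, 3), (1, 30, 58), (1, 2, 50), (2, 58, 26), (0, 94, 36), (1, 70, 33), (3, 39, 9), (1, 84, 12), (0, 64, 3), (0, 43, 46), (1, 72, 67), (1, 74, 2), (0, 74, 34), (3, 13, 8), (0, 73, 61), (0, 64, 19), (1, 50, 32), (2, 91, 1), (1, 14, 33), (3, 59, 35), (3, 41, 1), (2, 34, 19), (1, 48, 4), (0, 26, 15), (2, 7, 16), (3, 30, 49), (3, 41, 6), (0, 63, 21), (2,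 74, 69), (0, 47, 20), (2, 33, 27), (1, 71, 55), (3, 69, 2), (2, 66, 27), (3, 37, 20), (1, 79, 0), (3, 15, 32), (0, 69, 0)]

/-- Entries. -/
def alphaEnt59 : List (ℕ × ℕ × ℕ) := [(3, 38, 38), (1, 34, 27), (1, 30, 45), (2, 59, 59), (2, 37, 63), (2, 38, 21), (1, 38, 0), (3, 46, 34), (0, 34, 67), (1, 84, 16), (3, 54, 45), (0, 49, 71), (3, 67, 61), (1, 56, 16), (1, 66, 64), (2, 51, 60), (2, 65, 21), (0, 57, 18), (0, 6, 64), (0, 27, 65), (2, 34, 64), (3, 31, 45), (1, 10, 46), (1, 9, 43), (3, 76, 29), (2, 3, 58), (2, 85, 44), (0, 92, 52), (0, 37, 36), (3, 63, 51), (2, 77, 22), (2, 43, 60), (0, 89, 24), (0, 33, 62), (0, 13, 40), (3, 6, 15), (2, 7, 14), (3, 75, 57), (3, 7, 15), (1, 24, 37), (1, 77, 67), (2, 58, 60), (2, 39, 33), (0, 51, 70), (0, 27, 10), (3, 4, 0), (3, 31, 17), (0, 84, 20), (1, 49, 56), (2, 2, 53), (2, 30, 41), (2, 86, 5), (0,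 12, 42), (1, 53, 0), (1, 68, 13), (2, 43, 41), (3, 53, 44), (1, 48, 29), (0, 21, 4), (2, 36, 44), (2, 82, 67), (0, 9, 71), (3, 30, 19), (1, 5, 39), (2, 33, 67), (2, 5, 67), (2, 6, 24), (2, 26, 62), (0, 76, 24), (3, 77, 5), (0, 65, 42), (2, 45, 0), (3, 24, 20), (2, 30, 55), (1, 49, 3), (0, 26, 18), (2, 65, 33), (0, 30, 9), (0, 12, 55), (0, 75, 23), (2, 27, 62), (3, 59, 57), (3, 31, 39), (0, 6, 55), (3, 42, 45), (0, 26, 41), (3, 34, 45), (0, 93, 28), (3, 56, 53), (3, 16, 67), (0, 85, 34), (0, 13, 20), (2, 65, 62), (2, 10, 27), (2, 94, 33), (2, 63, 45), (3, 23, 14), (3, 65, 18), (2, 37, 44), (2, 84, 2), (3, 8, 50), (3, 67, 56), (0, 71, 54), (3, 90, 41), (2, 34, 16), (3, 18, 11), (0, 38, 43), (3, 26, 56), (0, 13, 19), (2, 80, 54), (1, 67, 36), (3, 50, 0), (0, 56, 4), (3, 26, 30), (1, 68, 20), (3, 84, 23), (0, 93, 40), (1, 28, 13), (0, 91,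 65), (0, 5, 6), (1, 45, 34), (2, 35, 20), (1, 72, 59), (2, 72, 4), (2, 48, 63), (1, 72, 32), (1, 60, 36), (0, 2, 36), (0, 90, 70), (1, 65, 2), (0, 94, 62), (0, 14, 62), (1, 20, 19), (0, 86, 36), (2, 55, 53), (3, 31, 41), (1, 58, 43), (3, 67, 38), (3, 89, 50), (2, 10, 21), (2, 23, 40), (3, 14, 11), (3, 37, 32), (1, 36, 69), (2, 70, 21), (0, 46, 5), (2, 64, 0), (1, 30, 28), (1, 38, 53), (0, 37, 2), (1, 69, 70), (1, 18, 33), (1, 35, 22), (1, 64, 57), (1, 39, 23), (3, 11, 63), (0, 77, 5), (3, 32, 42), (1, 22, 8), (3, 89, 31), (2, 14, 37), (1, 7, 8), (3, 2, 58), (0, 86, 22), (1, 18, 20), (0, 83, 48), (3, 16, 23), (0, 3, 20), (1, 8, 29), (3, 82, 30), (1, 61, 19), (2, 63, 41), (0, 89, 57), (3, 26, 41), (0, 18, 32), (2, 1, 24), (1, 91, 32), (3, 53, 61), (1, 25, 30), (1, 40, 32), (3, 6, 5), (0, 48, 2), (0, 70, 1), (0, 65, 3), (3, 62, 25), (3,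 54, 12), (0, 89, 64), (2, 45, 8), (3, 67, 12), (3, 59, 7), (2, 45, 1), (3, 1, 54), (0, 86, 27), (2, 82, 23), (3, 1, 59), (1, 91, 50), (3, 87, 4), (2, 57, 62), (2, 24, 28), (3, 18, 49), (1, 9, 15), (3, 94, 1), (0, 40, 15), (1, 21, 18), (1, 87, 60), (1, 18, 60), (2, 31, 14), (2, 72, 63), (1, 27, 67), (0, 72, 42), (3, 86, 5), (2, 34, 4), (3, 11, 3), (2, 14, 67), (3, 5, 55), (2, 14, 53), (3, 23, 53), (0, 32, 13), (1, 54, 55), (0, 47, 43), (1, 28, 19), (1, 48, 65), (1, 24, 14), (1, 44, 21), (1, 28, 4), (2, 39, 20), (1, 19, 66), (2, 74, 68), (0, 56, 15), (2, 76, 24), (1, 9, 40), (2, 39, 71), (2, 15, 25), (0, 51, 46), (2, 91, 30), (2, 35, 57), (2, 44, 11), (3, 67, 66), (0, 50, 34), (2, 2, 9), (0, 16, 59), (0, 67, 9), (2, 59, 31), (2, 48, 46), (1, 13, 5), (1, 5, 19), (1, 28, 9), (2, 35, 2), (3, 8, 61), (2, 46, 8), (0, 83, 55), (2, 54, 5), (1,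 49, 53), (2, 10, 26), (3, 5, 33), (2, 83, 8), (2, 66, 36), (1, 62, 63), (2, 73, 45), (1, 78, 21), (1, 82, 65), (1, 6, 9), (1, 9, 38), (1, 11, 12), (0, 33, 12), (0, 41, 12), (1, 16, 8), (0, 24, 63), (3, 54, 38), (0, 11, 54), (3, 47, 24), (2, 31, 29), (3, 69, 19), (3, 67, 9), (0, 3, 12), (1, 4, 45), (1, 35, 43), (1, 40, 13), (3, 91, 23), (2, 2, 6), (3, 18, 1), (1, 25, 20), (1, 69, 39), (3, 23, 48), (2, 12, 26), (1, 74, 58), (3, 2, 66), (3, 8, 43), (2, 70, 35), (2, 38, 60), (3, 9, 34), (2, 89, 32), (0, 38, 29), (1, 69, 9), (0, 42, 71), (1, 55, 7), (0, 90, 43), (0, 87, 48), (2, 12, 58), (1, 1, 53), (1, 62, 42), (0, 49, 9), (1, 72, 3), (1, 10, 43), (2, 81, 28), (0, 9, 39), (3, 20, 13), (0, 66, 61), (3, 79, 27), (0, 40, 34), (3, 62, 52), (1, 9, 66), (1, 89, 60), (0, 20, 1), (0, 50, 13), (0, 43, 55), (1, 3, 36), (3, 88, 7), (0, 80, 15), (0,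 57, 25), (0, 32, 34), (0, 13, 53), (0, 65, 45), (0, 23, 38), (1, 5, 37), (0, 47, 35), (3, 9, 4), (2, 70, 54), (2, 27, 6), (1, 87, 27), (0, 42, 43), (0, 26, 10), (0, 33, 29), (3, 31, 6), (1, 31, 2), (1, 12, 27), (1, 53, 34), (1, 5, 60), (0, 60, 62), (3, 69, 5), (1, 23, 32), (3, 47, 45), (0, 1, 65), (2, 74, 50), (3, 50, 68), (3, 44, 32), (0, 21, 70), (0, 11, 55), (0, 63, 47), (1, 63, 39), (0, 81, 8), (0, 71, 62), (3, 85, 48), (1, 26, 11), (1, 6, 67), (3, 23, 55), (3, 1, 56), (2, 26, 53), (0, 29, 3), (3, 44, 3), (2, 80, 8), (2, 1, 7), (1, 36, 33), (2, 46, 59), (2, 57, 19), (3, 21, 21), (2, 64, 27), (0, 35, 52), (0, 83, 67), (0, 70, 6), (1, 63, 70), (0, 22, 1), (2, 56, 60), (1, 82, 3), (3, 14, 17), (2, 57, 58), (0, 53, 50), (2, 37, 31), (2, 64, 2), (2, 21, 9), (0, 8, 67), (1, 38, 49), (3, 50, 67), (0, 76, 16), (2, 66, 9), (1, 67, 11), (1,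 91, 45), (3, 81, 14), (2, 94, 52), (0, 4, 38), (1, 82, 44), (0, 31, 71), (0, 76, 0), (0, 61, 54), (3, 82, 58), (1, 76, 10), (1, 20, 21), (2, 9, 8), (1, 31, 36), (1, 43, 28)]

/-- Entries. -/
def alphaEnt60 : List (ℕ × ℕ × ℕ) := [(3, 61, 13), (1, 45, 67), (1, 60, 11), (3, 56, 47), (2, 40, 47), (0, 35, 61), (0, 18, 1), (0, 18, 67), (1, 36, 20), (3, 62, 7), (1, 55, 32), (0, 21, 14), (0, 62, 20), (2, 23, 64), (3, 64, 56), (1, 27, 37), (0, 39, 47), (1, 81, 71), (2, 37, 11), (1, 63, 28), (3, 73, 37), (2, 89, 15), (0, 89, 49), (0, 47, 3), (1, 70, 42), (1, 83, 47), (3, 34, 30), (0, 90, 9), (0, 19, 53), (1, 59, 23), (1, 32, 15), (2, 58, 9), (0, 36, 19), (1, 58, 40), (1, 94, 41), (0, 12, 35), (0, 59, 63), (0, 66, 65), (3, 93, 56), (1, 43, 3), (0, 77, 17), (3, 69, 64), (0, 60, 0), (2, 26, 4), (1, 94, 42), (0, 75, 3), (1, 65, 70), (2, 73, 55), (2,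 87, 62), (2, 87, 47), (3, 70, 19), (2, 51, 38), (2, 70, 53), (0, 21, 35), (0, 1, 14), (1, 65, 25), (2, 94, 46), (2, 43, 44), (1, 38, 66), (1, 66, 25), (0, 61, 25), (3, 8, 62), (0, 68, 27), (2, 59, 36), (2, 62, 44), (3, 37, 48), (0, 3, 63), (3, 8, 68), (2, 70, 22), (0, 24, 24), (3, 8, 70), (0, 6, 16), (0, 55, 61), (2, 61, 67), (0, 59, 20), (3, 73, 15), (1, 43, 19), (1, 19, 48), (1, 59, 8), (3, 13, 24), (0, 24, 3), (1, 47, 18), (3, 54, 65), (1, 49, 69), (3, 73, 41), (1, 73, 9), (2, 54, 37), (3, 38, 33), (1, 8, 32), (3, 69, 47), (2, 15, 11), (1, 59, 60), (0, 23, 47), (3, 27, 28), (0, 62, 48), (3, 32, 44), (0, 46, 4), (0, 80, 11), (1, 57, 17), (0, 63, 48), (0, 83, 6), (2, 2, 32), (3, 34, 67), (0, 88, 7), (1, 37, 49), (1, 5, 69), (1, 16, 42), (2, 34, 28), (1, 10, 59), (2, 4, 49), (1, 94, 30), (3, 36, 8), (1, 47, 24), (0, 90, 71), (2, 64, 21),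 (1, 4, 16), (2, 50, 19), (3, 57, 9), (1, 14, 49), (3, 53, 6), (1, 14, 14), (3, 19, 25), (2, 1, 15), (1, 16, 2), (3, 12, 12), (2, 13, 52), (2, 6, 61), (1, 50, 68), (3, 64, 71), (3, 26, 38), (3, 30, 56), (0, 38, 19), (2, 51, 18), (1, 5, 12), (2, 36, 4), (2, 54, 29), (0, 68, 2), (0, 61, 63), (2, 10, 18), (0, 85, 16), (1, 68, 36), (2, 40, 60), (1, 67, 24), (3, 73, 48), (1, 70, 53), (1, 31, 57), (1, 14, 12), (0, 71, 8), (0, 66, 23), (3, 53, 56), (3, 63, 10), (2, 20, 33), (1, 19, 8), (1, 74, 9), (1, 43, 7), (0, 90, 11), (2, 56, 61), (2, 48, 16), (1, 86, 28), (3, 76, 32), (3, 32, 12), (1, 50, 62), (0, 64, 2), (3, 69, 56), (3, 20, 2), (0, 30, 20), (0, 4, 31), (1, 94, 3), (1, 21, 42), (2, 37, 57), (2, 71, 64), (2, 17, 1), (3, 23, 7), (3, 7, 59), (2, 5, 54), (2, 10, 31), (3, 54, 40), (0, 39, 42), (3, 50, 15), (1, 40, 43), (2, 16, 48), (0, 5, 25),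 (0, 83, 71), (2, 67, 32), (3, 22, 31), (0, 80, 55), (1, 39, 29), (0, 45, 25), (1, 94, 15), (3, 36, 35), (1, 16, 35), (0, 8, 46), (1, 19, 21), (2, 14, 43), (0, 40, 16), (1, 19, 14), (2, 91, 33), (1, 78, 8), (1, 70, 20), (1, 4, 51), (0, 9, 62), (3, 44, 0), (1, 58, 18), (3, 68, 32), (2, 6, 46), (3, 65, 5), (2, 55, 71), (3, 21, 45), (0, 94, 48), (2, 47, 5), (2, 65, 10), (2, 27, 32), (2, 68, 21), (3, 32, 38), (1, 49, 42), (2, 83, 60), (1, 77, 23), (0, 29, 43), (0, 7, 15), (0, 28, 0), (1, 34, 47), (2, 11, 19), (3, 42, 22), (0, 28, 16), (2, 81, 37), (1, 21, 2), (0, 19, 10), (1, 73, 18), (1, 32, 20), (3, 13, 0), (0, 89, 16), (3, 55, 68), (3, 46, 7), (1, 34, 7), (0, 31, 34), (1, 38, 51), (2, 48, 45), (2, 76, 22), (3, 18, 66), (1, 42, 34), (3, 30, 44), (0, 1, 31), (0, 68, 54), (0, 83, 27), (0, 30, 30), (1, 75, 32), (2, 94, 49), (2, 62, 31), (0,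 68, 8), (1, 52, 31), (0, 31, 48), (2, 93, 31), (0, 76, 25), (0, 72, 11), (0, 94, 41), (2, 48, 43), (0, 36, 51), (2, 12, 33), (2, 11, 39), (3, 66, 0), (3, 62, 39), (0, 93, 31), (0, 29, 34), (0, 22, 10), (1, 10, 69), (2, 22, 3), (2, 75, 64), (0, 5, 54), (2, 7, 68), (2, 7, 11), (0, 65, 54), (2, 74, 71), (0, 27, 39), (1, 12, 26), (1, 13, 70), (1, 74, 65), (2, 58, 61), (0, 7, 5), (2, 58, 57), (0, 8, 20), (2, 31, 3), (3, 22, 15), (1, 1, 51), (3, 51, 19), (0, 34, 55), (3, 4, 24), (2, 56, 52), (0, 60, 63), (3, 14, 43), (0, 68, 64), (1, 52, 17), (2, 81, 59), (2, 64, 65), (2, 31, 22), (3, 13, 63), (2, 33, 25), (0, 39, 38), (0, 89, 7), (2, 3, 1), (3, 81, 15), (3, 40, 53), (2, 53, 58), (2, 63, 30), (0, 73, 34), (3, 36, 34), (1, 21, 24), (1, 67, 65), (3, 69, 26), (1, 26, 14), (0, 65, 10), (0, 7, 35), (3, 58, 20), (1, 76, 15), (1, 89, 33), (2, 36,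 35), (3, 47, 69), (2, 17, 10), (3, 76, 5), (1, 89, 16), (3, 44, 71), (2, 85, 46), (3, 21, 65), (1, 81, 22), (1, 90, 38), (2, 23, 7), (1, 14, 13), (1, 49, 2), (0, 42, 10), (2, 23, 32), (0, 5, 62), (0, 51, 59), (2, 92, 12), (1, 64, 8), (2, 80, 55), (2, 6, 27), (1, 3, 18), (2, 74, 8), (1, 39, 35), (2, 80, 38), (1, 67, 2), (2, 7, 57), (2, 87, 55), (2, 9, 38), (0, 61, 65), (0, 83, 52), (1, 2, 48), (2, 11, 12), (2, 70, 52), (1, 93, 39), (0, 72, 7), (3, 3, 35), (3, 63, 4), (0, 38, 59), (0, 77, 30), (3, 85, 3), (0, 52, 7), (0, 19, 8), (1, 68, 63), (0, 42, 55), (2, 94, 32), (1, 82, 50), (3, 26, 24), (2, 72, 64), (0, 37, 17), (1, 77, 42), (3, 21, 23), (1, 58, 38), (1, 35, 37), (1, 85, 66), (3, 19, 64), (1, 58, 67), (3, 84, 30), (1, 70, 68), (1, 29, 17), (1, 93, 15), (3, 61, 65), (2, 34, 20), (0, 9, 12), (0, 67, 16), (1, 40, 36), (0, 24, 33), (3,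 69, 6), (1, 10, 8), (2, 54, 61), (0, 13, 10), (3, 50, 71), (1, 40, 31), (0, 80, 3), (1, 60, 58), (2, 20, 25), (0, 29, 53), (0, 1, 58), (0, 34, 54), (2, 73, 51), (0, 50, 32), (3, 29, 64), (0, 38, 34), (0, 2, 42), (1, 82, 60), (0, 32, 5)]

/-- Entries. -/
def alphaEnt61 : List (ℕ × ℕ × ℕ) := [(2, 81, 64), (0, 57, 33), (0, 51, 54), (1, 92, 45), (1, 47, 46), (3, 7, 6), (0, 32, 7), (2, 23, 9), (0, 48, 4), (2, 63, 44), (2, 46, 65), (0, 59, 43), (1, 62, 28), (1, 86, 13), (1, 45, 39), (2, 58, 52), (3, 72, 58), (2, 45, 28), (0, 62, 41), (3, 74, 48), (3, 65, 50), (2, 26, 16), (2, 47, 25), (1, 34, 21), (1, 46, 16), (3, 4, 49), (3, 46, 25), (3, 90, 33), (2, 44, 69), (1, 39, 16), (0, 90, 0), (3, 23, 59), (0, 49, 0), (0, 74, 48), (3, 84, 16), (1, 30, 14), (0, 55, 55), (2, 92, 3), (1, 34, 67), (0, 72, 21), (3, 66, 41), (2, 1, 48), (2, 6, 3), (1, 22,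 16), (2, 85, 58), (1, 27, 65), (3, 88, 8), (3, 68, 45), (0, 40, 27), (0, 40, 6), (2, 42, 4), (3, 56, 22), (3, 81, 56), (1, 75, 22), (3, 59, 52), (3, 86, 33), (3, 44, 55), (2, 37, 56), (3, 81, 60), (0, 54, 11), (0, 18, 10), (2, 93, 24), (2, 8, 66), (3, 63, 70), (1, 80, 34), (3, 87, 23), (0, 44, 18), (1, 60, 35), (3, 92, 44), (3, 19, 33), (0, 29, 10), (1, 36, 29), (0, 76, 10), (0, 75, 64), (2, 81, 9), (0, 77, 65), (0, 10, 69), (3, 48, 67), (1, 49, 63), (1, 57, 53), (0, 90, 32), (1, 85, 1), (1, 89, 31), (3, 58, 7), (0, 73, 60), (0, 40, 64), (3, 18, 20), (1, 90, 22), (3, 3, 64), (2, 33, 49), (2, 15, 17), (2, 53, 27), (3, 75, 54), (3, 29, 22), (2, 35, 70), (2, 66, 39), (1, 36, 37), (0, 3, 71), (2, 18, 42), (0, 6, 40), (0, 36, 39), (1, 65, 68), (1, 93, 1), (2, 84, 21), (0, 69, 41), (2, 58, 50), (3, 14, 50), (0, 45, 21), (2, 38, 20), (0, 14,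 5), (3, 3, 14), (1, 5, 0), (3, 30, 27), (0, 24, 66), (0, 4, 37), (2, 13, 36), (1, 51, 68), (0, 78, 18), (2, 44, 33), (3, 78, 1), (1, 1, 4), (1, 32, 4), (1, 65, 15), (2, 70, 19), (2, 31, 65), (3, 77, 62), (0, 70, 32), (3, 66, 45), (3, 51, 15), (2, 68, 28), (3, 30, 8), (2, 6, 63), (2, 13, 3), (1, 11, 43), (1, 91, 49), (3, 9, 19), (0, 22, 32), (3, 18, 4), (2, 47, 45), (1, 82, 14), (1, 15, 30), (2, 42, 40), (3, 45, 26), (2, 9, 44), (3, 53, 69), (0, 92, 71), (0, 63, 39), (2, 18, 16), (3, 16, 6), (2, 93, 50), (3, 81, 33), (0, 88, 8), (0, 52, 6), (3, 39, 58), (3, 21, 46), (0, 65, 31), (3, 60, 70), (3, 2, 22), (3, 46, 52), (3, 3, 7), (0, 40, 46), (0, 47, 57), (0, 3, 64), (1, 35, 39), (1, 65, 45), (2, 35, 21), (1, 42, 60), (2, 12, 5), (3, 47, 23), (3, 37, 46), (0, 68, 29), (0, 77, 31), (3, 44, 6), (3, 91, 21), (2, 67, 66), (0, 4, 54), (3, 80,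 70), (3, 57, 69), (1, 86, 19), (3, 33, 43), (0, 83, 11), (1, 84, 28), (3, 35, 16), (3, 32, 13), (1, 84, 31), (0, 57, 28), (0, 44, 52), (1, 32, 29), (3, 10, 62), (2, 16, 5), (0, 73, 11), (0, 51, 30), (0, 66, 38), (2, 62, 52), (2, 3, 20), (0, 39, 31), (3, 79, 19), (0, 55, 24), (3, 23, 31), (0, 64, 62), (0, 34, 31), (2, 83, 31), (3, 40, 10), (0, 54, 70), (2, 34, 61), (0, 37, 21), (0, 82, 38), (3, 64, 4), (2, 20, 19), (3, 24, 71), (0, 37, 30), (1, 82, 62), (2, 61, 6), (1, 45, 14), (0, 47, 64), (1, 35, 9), (0, 24, 34), (2, 43, 53), (0, 82, 60), (3, 56, 39), (2, 42, 43), (0, 20, 32), (1, 3, 22), (3, 93, 3), (1, 62, 37), (2, 57, 33), (1, 64, 61), (2, 65, 40), (2, 1, 8), (3, 46, 65), (1, 62, 62), (2, 39, 17), (2, 16, 1), (1, 71, 62), (1, 74, 38), (3, 34, 56), (2, 63, 71), (1, 11, 22), (3, 41, 21), (0, 62, 36)]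

/-- The plan. -/
def alpha : Plan :=
  { f := 0xd1d75041f94eac197e7681276206
    w := 0xd76df1446beab0c11fdecb91ce37
    fix := [[2, 2, 2, 1, 2, 2], [0, 0, 2], [2, 1, 2, 2], [2, 1, 2, 1], [1, 2, 0, 2, 2, 2], [0, 2, 1, 2, 0, 2], [1, 2, 2, 2, 1, 2, 2], [2, 0, 2, 2, 2, 2], [0, 0, 2, 1, 2], [2, 2, 1, 2], [0, 2, 0], [1, 2, 1, 2, 2], [1, 2, 2, 2, 2, 2], [0, 2, 2, 2, 1], [1, 0, 2, 2, 2, 2], [0, 2, 2, 2, 1, 2, 2, 2, 2], [0, 1, 2, 2, 2, 2, 2, 2, 2], [0, 2, 2, 2, 2, 2, 1, 2, 2], [2, 2, 1, 0, 2, 2, 2, 2], [0, 2, 0, 2, 2], [0, 0, 1, 0], [1, 1, 2], [2, 1, 2, 2, 1], [1, 2, 2, 2, 2, 2, 2], [0, 2, 2, 2, 2, 1, 2], [0, 2, 1, 2, 2, 2, 2, 2, 2], [2, 2, 2, 1], [2, 0, 2, 2, 2], [0, 1, 2, 2, 2, 2, 2], [0, 2, 2, 2, 2, 2, 1, 2], [0, 2, 0, 2, 2, 2, 2, 2, 2], [0, 2, 0, 2, 2, 2], [1, 2, 2, 2, 2, 2, 2, 2], [2, 2, 1, 0, 2], [1, 2, 2, 1, 2], [2, 2, 1, 0], [2, 1, 0,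 2, 2, 2, 2, 2, 2], [2, 0, 0, 2], [0, 2, 2, 2, 1, 2], [1, 0, 2, 2, 2, 2, 2], [1, 0, 1], [2, 1, 0, 0], [0, 2, 2, 2, 2, 2, 2], [0, 1, 0, 0], [1, 2, 2, 2, 1], [2, 2, 2], [2, 0, 0], [2, 1, 0], [1, 2, 1, 2, 2, 2, 2, 2], [2, 2, 1, 2, 1], [0, 0, 1, 0, 1], [0, 1, 1, 0], [2, 2, 1, 2, 2], [0, 1, 2, 2, 1], [0, 2, 1, 2], [0, 0, 1, 0, 1, 1], [2, 1, 2, 0, 2, 2, 2, 2], [1, 2, 1, 2, 2, 2, 2], [0, 1, 2, 1, 2, 2, 2], [2, 2, 1, 0, 2, 2, 2], [0, 2, 1, 2, 2, 2], [2, 2, 1, 2, 0, 2, 2, 2, 2], [1, 0, 2, 2, 2, 2, 2, 2, 2], [2, 2, 1, 0, 2, 2], [0, 2, 0, 2], [2, 2, 2, 2, 2, 2, 2], [0, 1, 2, 2, 2, 2, 2, 2], [0, 0, 1, 1, 0, 1], [0, 1, 2, 2, 2], [2, 1, 2, 0, 2], [0, 0, 1, 1], [0, 2, 0, 0], [0, 2, 1, 2, 0, 2, 2], [2, 0], [0, 1, 1, 0, 1], [0, 2, 1, 2, 2, 2, 2, 2], [1, 1, 0], [0, 2, 0, 2, 2, 2, 2, 2], [0, 1, 0], [2, 1, 0, 2, 2], [1, 0, 2, 2, 2, 2, 2, 2], [0, 0, 1, 0,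 0], [1], [2, 1, 2, 0, 2, 2], [2, 1, 0, 2], [1, 2, 1], [0, 1, 2, 2], [1, 2, 2, 1], [2, 2, 2, 2, 1], [0, 2, 0, 2, 2, 2, 2], [0, 0, 1, 2], [1, 2, 2, 1, 2, 2], [0, 2, 2, 2, 2, 2, 1], [0, 2], [1, 0, 0], [2, 2, 2, 2, 2], [1, 0, 2, 2, 2], [0, 1, 0, 1], [2, 0, 2, 2, 2, 2, 1], [0, 2, 2, 2, 2, 1, 2, 2], [2, 1, 1], [2, 0, 1, 2], [2, 1, 0, 2, 2, 2, 2, 2], [0, 2, 2, 2, 2, 1], [2, 1, 0, 2, 2, 2, 2], [2, 2, 1, 2, 0, 2], [2, 2, 2, 2, 1, 2], [1, 2, 1, 2, 2, 2, 2, 2, 2], [2, 2, 1, 2, 0, 2, 2, 2], [0, 1, 1], [0, 1, 2, 1, 2, 2, 2, 2, 2], [2, 0, 2, 2, 2, 2, 1, 2, 2], [2, 1, 2, 0], [2, 1, 2, 2, 2, 2, 2], [1, 2, 0, 2, 2], [1, 2, 2, 2, 2], [0, 2, 2, 2, 1, 2, 2], [0, 1, 2, 1, 2, 2], [2, 1, 0, 2, 2, 2], [2, 2, 2, 2, 2, 2], [1, 2, 0, 2], [0], [1, 0, 2, 0], [1, 2, 0, 2, 2, 2, 2, 2], [1, 2, 1, 2], [2, 2, 1, 2, 2, 2], [1, 2, 2, 2, 1, 2, 2, 2, 2], [2, 2, 2, 2, 2, 1,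 2, 2], [2, 1, 2], [2, 2, 1, 2, 2, 2, 2], [0, 1, 2, 1, 2], [1, 0], [2, 2, 1, 2, 1, 2], [2, 1, 1, 2], [2, 2, 2, 2, 2, 1], [2, 2, 2, 2], [0, 2, 1, 1], [2], [1, 0, 1, 1], [0, 2, 2, 2, 2, 2], [0, 2, 2, 2], [2, 1, 2, 2, 2, 2, 2, 2], [0, 2, 1], [2, 2, 1, 2, 2, 2, 2, 2], [2, 1, 1, 2, 2, 2], [2, 2, 2, 1, 2, 2, 2, 2], [2, 2, 2, 2, 1, 2, 2], [2, 2, 2, 2, 1, 2, 2, 2], [1, 1, 2, 2], [0, 0, 2, 1], [0, 1, 2, 1], [1, 0, 2, 1], [2, 2, 1, 0, 2, 2, 2, 2, 2], [0, 1, 2, 1, 2, 2, 2, 2], [2, 1, 1, 2, 2], [2, 0, 2, 2], [1, 2, 2, 2, 1, 2, 2, 2], [2, 2, 2, 1, 2, 2, 2], [2, 0, 2, 2, 2, 2, 2, 2], [0, 0, 1], [1, 0, 2, 2], [2, 1, 2, 2, 1, 2], [1, 2, 2], [0, 2, 0, 1], [2, 0, 2, 2, 2, 2, 2, 1], [0, 1, 1, 2], [0, 2, 2], [0, 2, 2, 2, 2, 2, 2, 2], [0, 2, 1, 2, 0, 2, 2, 2, 2, 2], [0, 1, 2, 1, 2, 2, 2, 2, 2, 2], [0, 2, 1, 2, 2], [0, 2, 0, 2, 0], [1, 1], [1, 2, 2, 2], [0,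 2, 2, 2, 1, 2, 2, 2], [0, 2, 1, 2, 2, 2, 2], [2, 0, 2], [2, 1, 2, 0, 2, 2, 2, 2, 2], [2, 0, 2, 2, 2, 2, 2], [1, 2, 0, 2, 2, 2, 2], [2, 1, 2, 2, 1, 2, 2], [1, 2, 1, 2, 2, 2], [0, 2, 1, 2, 0], [2, 2, 1], [0, 0], [0, 1, 2], [], [2, 1, 2, 0, 2, 2, 2], [1, 2, 2, 2, 1, 2], [1, 1, 0, 1], [0, 2, 1, 2, 0, 2, 2, 2, 2], [2, 0, 2, 2, 2, 2, 2, 1, 2], [0, 1], [2, 0, 2, 2, 2, 2, 1, 2], [0, 1, 0, 1, 1], [1, 2, 0, 2, 2, 2, 2, 2, 2], [2, 2, 1, 2, 0, 2, 2], [2, 2, 1, 2, 0], [2, 2], [0, 2, 2, 2, 2, 1, 2, 2, 2], [2, 1, 2, 2, 2, 2], [2, 1, 2, 2, 2], [2, 1, 2, 1, 2], [2, 1], [2, 2, 2, 2, 2, 1, 2], [1, 1, 2, 2, 2], [0, 1, 2, 2, 2, 2], [1, 2], [1, 2, 0], [0, 0, 1, 1, 0], [1, 0, 2], [0, 2, 2, 2, 2], [2, 2, 2, 1, 2], [2, 0, 2, 0], [2, 0, 1], [0, 2, 1, 2, 0, 2, 2, 2]]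
    lef := [[], [12], [12, 2], [12, 2, 12]]
    reps := [[], [10], [10, 1, 10], [10, 0, 10], [10, 2, 10], [10, 2, 2, 10], [10, 2, 0, 10], [10, 1, 2, 10], [10, 2, 1, 10], [10, 0, 0, 10], [10, 0, 2, 10], [10, 2, 10, 1, 10], [10, 0, 1, 2, 10], [10, 1, 10, 0, 10], [10, 0, 0, 2, 10], [10, 2, 1, 2, 10], [10, 0, 1, 1, 10], [10, 0, 10, 0, 10], [10, 2, 0, 0, 10], [10, 1, 10, 2, 10], [10, 0, 10, 2, 10], [10, 2, 0, 2, 10], [10, 2, 10, 2, 10], [10, 0, 0, 1, 10], [10, 0, 2, 10, 2, 10], [10, 1, 1, 10, 1, 10], [10, 0, 10, 2, 0, 10], [10, 0, 0, 10, 1, 10], [10, 0, 10, 0, 0, 10], [10, 1, 1, 10, 2, 10], [10, 2, 0, 10, 2, 10], [10, 0, 0, 1, 1, 10], [10, 2, 10, 2, 2, 10], [10, 2, 1, 10, 0, 10], [10, 1, 10, 0, 2, 10], [10, 2, 10, 1, 2, 10], [10, 0, 10, 0, 2, 10], [10, 0, 1, 10, 1, 10], [10, 0, 2, 10, 1, 10], [10, 1, 10, 2, 2, 10], [10, 2, 0, 10, 0, 10], [10,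 0, 0, 10, 0, 10], [10, 0, 1, 10, 0, 10], [10, 0, 1, 10, 2, 10], [10, 2, 10, 0, 0, 10], [10, 2, 2, 2, 1, 10], [10, 0, 2, 1, 2, 10], [10, 1, 10, 0, 0, 10], [10, 0, 1, 2, 2, 10], [10, 0, 0, 10, 2, 1, 10], [10, 0, 1, 10, 2, 2, 10], [10, 0, 10, 0, 1, 2, 10], [10, 2, 1, 2, 2, 2, 10], [10, 0, 10, 0, 0, 1, 10], [10, 1, 1, 10, 0, 2, 10], [10, 2, 10, 2, 2, 1, 10], [10, 2, 2, 1, 10, 0, 10], [10, 1, 2, 10, 2, 2, 10], [10, 2, 1, 2, 10, 0, 10], [10, 2, 10, 0, 10, 2, 10], [10, 2, 1, 10, 0, 1, 10], [10, 1, 2, 10, 1, 2, 10], [10, 2, 1, 10, 0, 0, 10], [10, 2, 1, 10, 0, 2, 10], [10, 0, 2, 10, 0, 0, 10], [10, 2, 0, 0, 10, 2, 10], [10, 0, 1, 10, 0, 0, 10], [10, 1, 10, 2, 2, 2, 10], [10, 0, 2, 10, 2, 2, 10], [10, 2, 10, 2, 0, 0, 10], [10, 0, 10, 2, 2, 2, 10], [10, 0, 10, 0, 0, 2, 10], [10, 2, 10, 1, 10, 0, 10], [10, 0, 1, 1, 10, 0, 10], [10, 0, 10, 2, 10,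 2, 10], [10, 0, 2, 10, 2, 1, 10], [10, 1, 2, 10, 2, 1, 10], [10, 2, 2, 10, 0, 2, 10], [10, 2, 2, 10, 0, 1, 10], [10, 0, 10, 2, 0, 2, 10], [10, 0, 0, 1, 1, 10, 0, 10], [10, 2, 0, 10, 0, 10, 0, 10], [10, 2, 0, 0, 10, 0, 0, 10], [10, 2, 0, 0, 10, 1, 2, 10], [10, 2, 2, 2, 10, 0, 2, 10], [10, 0, 2, 10, 0, 10, 1, 10], [10, 2, 0, 2, 10, 0, 0, 10], [10, 1, 10, 0, 10, 1, 2, 10], [10, 0, 0, 1, 10, 0, 1, 10], [10, 2, 10, 2, 10, 0, 0, 10], [10, 2, 2, 2, 2, 10, 1, 10], [10, 1, 10, 0, 10, 0, 1, 10], [10, 1, 10, 0, 10, 2, 2, 2, 10], [10, 0, 2, 10, 2, 1, 10, 1, 10], [10, 2, 2, 1, 10, 0, 10, 1, 10], [10, 1, 10, 2, 2, 2, 2, 10, 1, 10]]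
    rig := [[], [0], [1], [2], [0, 0], [0, 1], [0, 2], [1, 1], [1, 2], [2, 0], [2, 1], [2, 2], [0, 0, 1], [0, 0, 2], [0, 1, 1], [0, 1, 2], [0, 2, 1], [0, 2, 2], [1, 2, 2], [2, 0, 0], [2, 0, 2], [2, 1, 2], [2, 2, 1], [2, 2, 2], [0, 0, 1, 1], [0, 1, 2, 2], [0, 2, 1, 2], [0, 2, 2, 2], [1, 2, 2, 2], [2, 0, 0, 2], [2, 0, 2, 2], [2, 1, 2, 2], [2, 2, 1, 2], [2, 2, 2, 1], [2, 2, 2, 2], [0, 1, 2, 2, 2], [0, 2, 1, 2, 2], [0, 2, 2, 2, 2], [1, 2, 2, 2, 2], [2, 0, 2, 2, 2], [2, 1, 2, 2, 2], [2, 2, 1, 2, 2], [2, 2, 2, 1, 2], [2, 2, 2, 2, 1], [2, 2, 2, 2, 2], [0, 1, 2, 2, 2, 2], [0, 2, 2, 2, 2, 2], [1, 2, 2, 2, 2, 2], [2, 0, 2, 2, 2, 2], [2, 1, 2, 2, 2, 2], [2, 2, 1, 2, 2, 2], [2, 2, 2, 1, 2, 2], [2, 2, 2, 2, 1, 2], [2, 2, 2, 2, 2, 1], [2, 2, 2, 2, 2, 2], [0, 2, 2, 2, 2, 2, 2], [1, 2, 2, 2, 2, 2, 2], [2, 0, 2, 2, 2, 2, 2], [2, 1, 2, 2, 2, 2, 2], [2,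 2, 1, 2, 2, 2, 2], [2, 2, 2, 1, 2, 2, 2], [2, 2, 2, 2, 1, 2, 2], [2, 2, 2, 2, 2, 1, 2], [2, 2, 2, 2, 2, 2, 2], [0, 2, 2, 2, 2, 2, 2, 2], [1, 2, 2, 2, 2, 2, 2, 2], [2, 0, 2, 2, 2, 2, 2, 2], [2, 1, 2, 2, 2, 2, 2, 2], [2, 2, 1, 2, 2, 2, 2, 2], [2, 2, 2, 1, 2, 2, 2, 2], [2, 2, 2, 2, 1, 2, 2, 2], [2, 2, 2, 2, 2, 1, 2, 2]]
    chunks := [(alphaEnt0, 0x3b9172cb934c2f0317e605aea1c), (alphaEnt1, 0x80e3b5d8c9b28bfedaaa2123f79), (alphaEnt2, 0xc7017dab45915cbfb78d65c5f00), (alphaEnt3, 0x10e21338e7f3beb4956fbd150b8b), (alphaEnt4, 0x14d687e20d29c5bb32c6bc9b8938), (alphaEnt5, 0x18e87c448a7156325e19cd6af436), (alphaEnt6, 0x1d4bcd24162c59d9f137350aba33), (alphaEnt7, 0x219cba1cb7375e75319ba107960a), (alphaEnt8, 0x25f9de41e78b584900798fa304b7), (alphaEnt9, 0x2a0c1abc8a44bf0ae33e551929e9), (alphaEnt10, 0x2dffa2fb7d7841881a80406e0eeb), (alphaEnt11, 0x31dd0d29cc306e6db055aca8aaa5),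 (alphaEnt12, 0x362d7c731541f3063782c05be9ed), (alphaEnt13, 0x3a9a4c6dec85d6ff7330459a44b2), (alphaEnt14, 0x3eb4fe5edcf22c69b8ace4422657), (alphaEnt15, 0x42ea60cc3e5d1907a9106e908fb4), (alphaEnt16, 0x474ac62a85bb9466f93346ff7681), (alphaEnt17, 0x4b6a406221a84ed41915b1ffa642), (alphaEnt18, 0x4f5a4c62052b6c71f41f7ba9a7f5), (alphaEnt19, 0x5389e73d6b21e67fdb36cd9d9054), (alphaEnt20, 0x57ecacc56529030bccfd8cc26882), (alphaEnt21, 0x5c335044ae528423fa07f30e0db9), (alphaEnt22, 0x603d712e78b0afe5a299f55a650f), (alphaEnt23, 0x64631392149382d8e435cd609058), (alphaEnt24, 0x6880f707dc2219705a35b248fd14), (alphaEnt25, 0x6d118390bde73e16b36705b4bdf2), (alphaEnt26, 0x710a653dcca1328e2d8d45b82ebe), (alphaEnt27, 0x753164458fbe473ffec959b0560d), (alphaEnt28, 0x79137618a46f625a9cfb70c162e5), (alphaEnt29, 0x7d4b04390094f29c25380e052411), (alphaEnt30, 0x8160efb376fe9e59b0c3afcf6669),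 (alphaEnt31, 0x8556c319a861e96f9e163b1724a1), (alphaEnt32, 0x896ce193fef9d9047271f4af3d8f), (alphaEnt33, 0x8d749a4644625c88b04c700b18cf), (alphaEnt34, 0x913e3104ad1735efc4e09dbf3bd8), (alphaEnt35, 0x95824fd88cb96f02f7187bb90bb2), (alphaEnt36, 0x99c04503938db0676debefc86810), (alphaEnt37, 0x9d5a101b908c00e5043b3d260a8c), (alphaEnt38, 0xa14e3b915325314010a07f8dec18), (alphaEnt39, 0xa550850c89a1f5fe1d0c9515c02a), (alphaEnt40, 0xa9871d63519c23fb94030a81f8cc), (alphaEnt41, 0xadd2efa3dee03c9c5ddf46c80f2a), (alphaEnt42, 0xb1d9b384922beb98fed732e75122), (alphaEnt43, 0xb5fef8076da1cc61e19862a78da7), (alphaEnt44, 0xba6d7f4b12b174cf2519aa818a1a), (alphaEnt45, 0xbf01c8a33aa62b860d8cb814e674), (alphaEnt46, 0xc30110693cfb6d7bfe6fe6cfb2df), (alphaEnt47, 0xc7504a293295a13eff539b5c5e4a), (alphaEnt48, 0xcbb3afe1fa79e506ba618c2b2967), (alphaEnt49, 0xcfeee86c1614def4af01b3ce610f),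 (alphaEnt50, 0xd3ce0210ded77327878ed621f6a3), (alphaEnt51, 0xd83e030ff65d0023b97d76834f81), (alphaEnt52, 0xdc524461d4f4fed9525314e692f0), (alphaEnt53, 0xe08e929e10dd91ed3a866671d458), (alphaEnt54, 0xe491173f6964df29d18e257467ec), (alphaEnt55, 0xe936370249c22cd647ee49943f4f), (alphaEnt56, 0xed318b25943f5131d6a3786ec8b3), (alphaEnt57, 0xf10ea49767d0777e635567cb9d46), (alphaEnt58, 0xf53b42b5bcd77e952ae01f68aaf1), (alphaEnt59, 0xf965f91fb73c1b71cebd61b96aed), (alphaEnt60, 0xfd8c82c18218b28246573c1e26ed), (alphaEnt61, 0x10000000000000000000000000000)]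
    crt := [] }

/-- Middle factor, first prime, word and two vectors. -/
def alphaCrt0 : List (ℕ × ℕ × List ℕ × ℕ × ℕ) := [(1, 2, [1, 1000], 0x13e75078dda8235d10cdbfa1e, 0x6f85cf79847f), (2, 2, [1000, 3], 0x1bf460824766083308f50820ad1, 0x5b9129d36ef2c133a2391), (3, 2, [1001, 2], 0x1ba01edfa61e0e26fccd08ee4, 0x3f61da3194a498), (4, 2, [2, 1001], 0xc42f0116d323d171952e65cf, 0x1e9c9b334245ef0), (5, 2, [1001, 2], 0x477a6c9e4d97876062d14a67, 0x1fd9c6493acc191), (6, 2, [3, 1000], 0x5ec41e9c75bb5eb3f1daf0dd23, 0xc44f6f874fbb69a432f4e), (7, 2, [1001, 3], 0xac3b0e2c9d727d3a1e8a5cc2bdc, 0x1f2f7cf7ce41ffe6280d93ea), (8, 2, [0, 1000], 0x402c9247f3ffed21628419cb5de, 0x1a766117acbb76aa8891e6bf), (9, 5, [3, 1, 1000], 0xa8b09268cb283067cbfe5183, 0x2a397b52cff9f972026de1), (10, 2, [1000, 2, 0], 0x1d2b42e972a9089de82eb00f0, 0x2888feee67a25), (11, 2, [2,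 1001, 1000, 2], 0x67fd43b0f0ffb1091f11e4f9, 0x6f85cf79847f), (12, 2, [1000, 2], 0x7ae13d8b4331421d55c9b248, 0x7e1fd627e0b65c), (13, 5, [3, 1000], 0xdcdbe386e93e24710300797, 0x1f41a8b0b65b82a07b7dc92), (14, 2, [1000, 2], 0x48273fe0704df969f33c5b1a, 0xb0bd5ed64b2390), (15, 2, [1001, 3], 0xe3efdb69fafcf1151ee98419f6, 0x7fcda354b1dfe8654d3bf), (16, 2, [1001, 0], 0x2b8d3f34ef7e4375b42f7ae5fd20, 0x1a766117acbb76aa8891e6bf), (17, 2, [2, 3, 1000], 0xa61d8f4723d075f54f3638b492, 0xe764b698d504a0eca60a9), (18, 2, [1, 2, 1001, 1001], 0x6e54cea940e60a818d068ed2, 0x668622bc0486), (19, 2, [3, 1000], 0x126cfdc1b6daaa61989fdbc2c21, 0xe65ee3f65b1180fa1b65a), (20, 2, [2, 1001], 0x7a3270c3845c5b67e016f7fc, 0xdedeeded), (21, 5, [3, 1000], 0x1497099b8d9444dad1645c579, 0xe80312284d25e55ca2b21c), (22, 5, [1001, 1001, 0, 3], 0x1a73a2dff96decdca13f719dc, 0x1a967e3f3c5780d7f9530a3),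 (23, 2, [1, 1000], 0x1b9dbb7d06d0c50378804b5b19d8, 0x1a766117acbb76aa8891e6bf), (24, 2, [2, 1000], 0x1127c56424feed75b56b94779, 0x1b684cf8c671dc9), (25, 2, [1000, 3], 0x13bdf8eab942e380bb9d08ceeb6, 0xb709b377cf339694d55d1), (26, 2, [1001, 2], 0x71ddec8264ee245e9326df73, 0x5523e14335276), (27, 2, [0, 2, 1001], 0x1cc0531d96fa5c1e6398df74, 0x13cd9b1bc984a), (28, 2, [2, 1000], 0x1e9a2654fb9da3bde40bfbc64, 0xc6cae533770a), (29, 2, [1000, 0], 0xc09d587612eb7470d6ba107c5bd, 0x1a766117acbb76aa8891e6bf), (30, 2, [1000, 0], 0x25c537e37499b5883a0a2630, 0x6f85cf79847f), (31, 2, [2, 1000], 0x388a08a9aef317f987560d7c, 0x33003300), (32, 5, [3, 1000], 0xba7cf043123b1fb17648434a, 0x1f95443e73f7f40fa184af6), (33, 2, [1001, 3], 0x1ee5e0ac5c72e9002d2a4eaa9, 0x411517b62e97b4), (34, 2, [2, 1001], 0x1b26b6fd2b14becb427e92974, 0x3e16f2cb735c5), (35, 5, [3, 1001,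 1], 0x123261525d2ab4a201d24b01c, 0x109266e69347ad490914cca), (36, 2, [1000, 2], 0x73e8ade52413ebde6becdd87, 0xc4aaa5be3efcfa), (37, 2, [1000, 2], 0xa0242a464c56426defda518f, 0x412a576c3409d9), (38, 2, [1001, 1], 0x6803315aa16c5f0309c3acc9b1c, 0x1a766117acbb76aa8891e6bf), (39, 2, [1000, 1], 0x5b5713fa6f58b47a1b49d692, 0x6f85cf79847f), (40, 2, [2, 1001], 0x1774a1901f8b68e4d3ef0bdca, 0x5b84df5fd3262), (41, 2, [2, 1000], 0x177806804794791d1f3dec653, 0x14cf41439391d6d), (42, 2, [1, 1001], 0x30476b1f8c3bf0e191198fb0, 0x6f85cf79847f), (43, 2, [3, 1000], 0xf177a76e6f70e215ef76226e, 0x73fc093ea66f), (44, 2, [1001, 3, 2], 0xbecbd3d1e400d79de4072ce63e, 0x75349f9e665cf8239486d), (45, 2, [1001, 2], 0xe6375b0292d122a2aea0c5e0, 0x16e274c94d07b), (46, 2, [1001, 1], 0xc9f4117b35309e41f54fc445, 0x6f85cf79847f), (47, 2, [1001, 2], 0x11d77659ca829c452ac777a01,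 0xab6f7fe25729), (48, 2, [1000, 3], 0x13add23242b38fe9454b0b836, 0xdcde1084f6b6c2e5f471b), (49, 2, [2, 1000], 0x1145767606a580c45991b3604, 0xef225c5d57ac03), (50, 2, [1001, 1], 0x32a9af6450c6c92e9009144fb517, 0x1a766117acbb76aa8891e6bf), (51, 2, [1, 1001], 0x17d39d12da47aa4ecdd279c0f, 0x6f85cf79847f), (52, 2, [1001, 2], 0x3e9f830bc0b4c9b795f04c15, 0x1479d4c107b3d4c), (53, 2, [2, 1000], 0x71e09b698cd87d9839ebb099, 0x14c7c33073cf), (54, 2, [3, 1001], 0x88a09013234db40b4ccc0c5d289, 0x1c4406fca5e94dd051d348b9), (55, 5, [3, 1000], 0x19ddc848c9a9adda41bf99291, 0x1e0cfb41ea9bd3b68b39d9), (56, 2, [1000, 2], 0x6b1f7460558eba2a685a802d, 0x1497fb2951a61a8), (57, 2, [1000, 3, 0], 0x2b60f20b0e8d06db758ff1cf22d, 0x13e151ab85bd4d51b9a7b6), (58, 2, [0, 1000], 0x1295bd06b7f0bbc71df36d9e6, 0x6f85cf79847f), (59, 2, [3, 1001], 0x3e28ea9f8927117e09bc74fbf3,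 0x13909a8be2ecf86a2f6aa1), (60, 2, [1001, 0, 3], 0x69c205bb409ac8fe48d475247c, 0x20157c0c730165ef7d8e1), (61, 2, [1000, 0], 0x2b771e5bb01b01995213f87dab1b, 0x1a766117acbb76aa8891e6bf), (62, 2, [2, 1001], 0x1dda9bbf2caf1e3f76e1814eb, 0x2d693e4133288f), (63, 2, [1000, 2], 0xebf84e3e3d2a67449ef2a131, 0x320859dcf9af6b), (64, 2, [2, 1000, 3], 0x1229d17c586c6bf9a3a772e19, 0x363c791dbcdb1), (65, 5, [1001, 3], 0x6a40adf5eb8e8a74c4c4b282, 0x4fb06ed59afa22d70be2fb), (66, 2, [1, 1000], 0x2d3d0f4067404229a75027dd8593, 0x1a766117acbb76aa8891e6bf), (67, 2, [1000, 2], 0xd79d6d6fc19c161fc3e9eafe, 0x5686a1dbcd19c), (68, 2, [3, 1001], 0x15374cc48534307367e88ee1cb3, 0xb4e33fa8035f81c0e17f8), (69, 5, [3, 1001], 0xd51e1546631bcbc5b50659bd, 0x1a97093845dc97b1744af8), (70, 2, [2, 1000], 0xb2212f5fe13e17ec4e5389b4, 0x5007266a67200), (71, 2, [3, 1000], 0x1b47dbbe5c32346ba552c2d7630,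 0x1b2d70d69ca39f3c4a6d8), (72, 2, [3, 1001], 0x3e4268ef4c46953377a54597, 0x67bb8879f0031), (73, 2, [1001, 2], 0x78fb39b381451c0cd915b8e2, 0x10ee0237435d92b), (74, 2, [1001, 3], 0xf8ab51398d65253299c952d0, 0x1b5a5121b4121), (75, 2, [1000, 1], 0x190cb3d34572e266075090ceaa35, 0x1a766117acbb76aa8891e6bf), (76, 2, [1001, 2], 0x1b03ab77abee0f149eb02e0a0, 0x5ba0ca85c686), (77, 2, [0, 1000], 0x1fb80ed8d36855401e5c6cd49643, 0x1a766117acbb76aa8891e6bf), (78, 2, [1001, 1, 3], 0x4da1b50c8ad0840b213fa21bdc, 0x6dc6591898122a1aec8e0), (79, 2, [2, 1001], 0x5b13b415a0318d59e852b4e2, 0xe62dc791d3ffd8), (80, 2, [2, 1000], 0x1d202dc37a06e8314488bda0f, 0x16e274c94d07b), (81, 2, [1000, 2], 0xda25f12e373ac52ffeab0629, 0x26d5e4195d931), (82, 2, [1000, 1], 0xe59c3a8cc34b9c6b785752443bb, 0x1a766117acbb76aa8891e6bf), (83, 2, [1, 1001], 0x8ba42148997356f197293a7e552,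 0x1a766117acbb76aa8891e6bf), (84, 2, [2, 1000], 0x68fbe86c6abd250795cf3003, 0x4652552524a4a), (85, 2, [3, 1000], 0x31a11dee7108f139453313ca, 0x94ca6ec8bd8448), (86, 2, [1001, 2], 0x7a3270c3845c5b67e016f7fc, 0x301a26dd4a73d), (87, 2, [1000, 1], 0x3215f3188a4e8d477438e74a, 0x6f85cf79847f), (88, 2, [3, 1000], 0xc97c86aaf11b97c68a85952490c, 0xb10d4d72846df3c9b6d1c1d), (89, 2, [0, 1000], 0xb009e9590ede3de4c74a4a83293, 0x1a766117acbb76aa8891e6bf), (90, 2, [0, 1000], 0x655dcde6091a1578046f2db6973, 0x1a766117acbb76aa8891e6bf), (91, 2, [1001, 3], 0xa34812ad90200e631f59a3b4e2, 0x6e7e092a96c1b7771fd08), (92, 2, [1001, 3], 0xe7a0e0ff542df1259785180864a, 0x125b9e25664e5096691e08d3), (93, 2, [2, 1000], 0x7627cacf2b1daf56b3100ac2, 0x158a00adbf55a), (94, 2, [0, 1001], 0xe7e5a38dea4580799c4a3c19f15, 0x1a766117acbb76aa8891e6bf), (95, 2, [1000, 1, 2], 0x6329d563782f4c1cc5a44269,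 0x1341f32aedf81)]

/-- The same for the left factors. -/
def alphaTail : List (ℕ × ℕ × List ℕ × ℕ × ℕ) := [(1, 5, [0, 1000, 1, 3], 0xe265a37eb5a8e387a2b722e2, 0x10fbdcc6a4c708817e34ef0), (2, 2, [3, 1000, 1], 0x3d3a5fa1965cc5ef77e3bf8b6bc, 0xd09fd783702d628563039c3), (3, 2, [2, 1000, 3, 2], 0x8c385dd362a9e264f7cba4a39, 0x433dc92d2b5db8a44368)]

end Cfsg.Lib.J4NonLocal.UThree
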