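import Cfsg.Agent.J4NonLocal.UThree.Data.Nodes0
import Cfsg.Agent.J4NonLocal.UThree.Data.Nodes1
import Cfsg.Agent.J4NonLocal.UThree.Data.Nodes2
import Cfsg.Agent.J4NonLocal.UThree.Data.Nodes3
import Cfsg.Agent.J4NonLocal.UThree.Data.Nodes4
import Cfsg.Agent.J4NonLocal.UThree.Data.Nodes5
import Cfsg.Agent.J4NonLocal.UThree.Data.Nodes6
import Cfsg.Agent.J4NonLocal.UThree.Data.Nodes7
import Cfsg.Agent.J4NonLocal.UThree.Data.Nodes8
import Cfsg.Agent.J4NonLocal.UThree.Data.Nodes9
import Cfsg.Agent.J4NonLocal.UThree.Data.Nodes10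
import Cfsg.Agent.J4NonLocal.UThree.Data.Nodes11
import Cfsg.Agent.J4NonLocal.UThree.Data.Nodes12
import Cfsg.Agent.J4NonLocal.UThree.Data.Nodes13
import Cfsg.Agent.J4NonLocal.UThree.Data.Nodes14
import Cfsg.Agent.J4NonLocal.UThree.Data.Nodes15

/-!
The table of the nodes and how they arise.
-/

set_option autoImplicit false
set_option maxRecDepth 8000

namespace Cfsg.Lib.J4NonLocal.UThree

open Cfsg.Lib.J4Cert

def ndTree0 : Tr (List ℕ) := .node (.leaf nd0) (.leaf nd1024)

def ndTree1 : Tr (List ℕ) := .node ndTree0 (.leaf nd512)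

def ndTree2 : Tr (List ℕ) := .node (.leaf nd256) (.leaf nd768)

def ndTree3 : Tr (List ℕ) := .node ndTree1 ndTree2

def ndTree4 : Tr (List ℕ) := .node (.leaf nd128) (.leaf nd1152)

def ndTree5 : Tr (List ℕ) := .node ndTree4 (.leaf nd640)

def ndTree6 : Tr (List ℕ) := .node (.leaf nd384) (.leaf nd896)

def ndTree7 : Tr (List ℕ) := .node ndTree5 ndTree6

def ndTree8 : Tr (List ℕ) := .node ndTree3 ndTree7

def ndTree9 : Tr (List ℕ) := .node (.leaf nd64) (.leaf nd1088)

def ndTree10 : Tr (List ℕ) := .node ndTree9 (.leaf nd576)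

def ndTree11 : Tr (List ℕ) := .node (.leaf nd320) (.leaf nd832)

def ndTree12 : Tr (List ℕ) := .node ndTree10 ndTree11

def ndTree13 : Tr (List ℕ) := .node (.leaf nd192) (.leaf nd1216)

def ndTree14 : Tr (List ℕ) := .node ndTree13 (.leaf nd704)

def ndTree15 : Tr (List ℕ) := .node (.leaf nd448) (.leaf nd960)

def ndTree16 : Tr (List ℕ) := .node ndTree14 ndTree15

def ndTree17 : Tr (List ℕ) := .node ndTree12 ndTree16

def ndTree18 : Tr (List ℕ) := .node ndTree8 ndTree17

def ndTree19 : Tr (List ℕ) := .node (.leaf nd32) (.leaf nd1056)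

def ndTree20 : Tr (List ℕ) := .node ndTree19 (.leaf nd544)

def ndTree21 : Tr (List ℕ) := .node (.leaf nd288) (.leaf nd800)

def ndTree22 : Tr (List ℕ) := .node ndTree20 ndTree21

def ndTree23 : Tr (List ℕ) := .node (.leaf nd160) (.leaf nd1184)

def ndTree24 : Tr (List ℕ) := .node ndTree23 (.leaf nd672)

def ndTree25 : Tr (List ℕ) := .node (.leaf nd416) (.leaf nd928)

def ndTree26 : Tr (List ℕ) := .node ndTree24 ndTree25

def ndTree27 : Tr (List ℕ) := .node ndTree22 ndTree26

def ndTree28 : Tr (List ℕ) := .node (.leaf nd96) (.leaf nd1120)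

def ndTree29 : Tr (List ℕ) := .node ndTree28 (.leaf nd608)

def ndTree30 : Tr (List ℕ) := .node (.leaf nd352) (.leaf nd864)

def ndTree31 : Tr (List ℕ) := .node ndTree29 ndTree30

def ndTree32 : Tr (List ℕ) := .node (.leaf nd224) (.leaf nd1248)

def ndTree33 : Tr (List ℕ) := .node ndTree32 (.leaf nd736)

def ndTree34 : Tr (List ℕ) := .node (.leaf nd480) (.leaf nd992)

def ndTree35 : Tr (List ℕ) := .node ndTree33 ndTree34

def ndTree36 : Tr (List ℕ) := .node ndTree31 ndTree35

def ndTree37 : Tr (List ℕ) := .node ndTree27 ndTree36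

def ndTree38 : Tr (List ℕ) := .node ndTree18 ndTree37

def ndTree39 : Tr (List ℕ) := .node (.leaf nd16) (.leaf nd1040)

def ndTree40 : Tr (List ℕ) := .node ndTree39 (.leaf nd528)

def ndTree41 : Tr (List ℕ) := .node (.leaf nd272) (.leaf nd784)

def ndTree42 : Tr (List ℕ) := .node ndTree40 ndTree41

def ndTree43 : Tr (List ℕ) := .node (.leaf nd144) (.leaf nd1168)

def ndTree44 : Tr (List ℕ) := .node ndTree43 (.leaf nd656)

def ndTree45 : Tr (List ℕ) := .node (.leaf nd400) (.leaf nd912)

def ndTree46 : Tr (List ℕ) := .node ndTree44 ndTree45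

def ndTree47 : Tr (List ℕ) := .node ndTree42 ndTree46

def ndTree48 : Tr (List ℕ) := .node (.leaf nd80) (.leaf nd1104)

def ndTree49 : Tr (List ℕ) := .node ndTree48 (.leaf nd592)

def ndTree50 : Tr (List ℕ) := .node (.leaf nd336) (.leaf nd848)

def ndTree51 : Tr (List ℕ) := .node ndTree49 ndTree50

def ndTree52 : Tr (List ℕ) := .node (.leaf nd208) (.leaf nd1232)

def ndTree53 : Tr (List ℕ) := .node ndTree52 (.leaf nd720)

def ndTree54 : Tr (List ℕ) := .node (.leaf nd464) (.leaf nd976)

def ndTree55 : Tr (List ℕ) := .node ndTree53 ndTree54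

def ndTree56 : Tr (List ℕ) := .node ndTree51 ndTree55

def ndTree57 : Tr (List ℕ) := .node ndTree47 ndTree56

def ndTree58 : Tr (List ℕ) := .node (.leaf nd48) (.leaf nd1072)

def ndTree59 : Tr (List ℕ) := .node ndTree58 (.leaf nd560)

def ndTree60 : Tr (List ℕ) := .node (.leaf nd304) (.leaf nd816)

def ndTree61 : Tr (List ℕ) := .node ndTree59 ndTree60

def ndTree62 : Tr (List ℕ) := .node (.leaf nd176) (.leaf nd1200)

def ndTree63 : Tr (List ℕ) := .node ndTree62 (.leaf nd688)

def ndTree64 : Tr (List ℕ) := .node (.leaf nd432) (.leaf nd944)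

def ndTree65 : Tr (List ℕ) := .node ndTree63 ndTree64

def ndTree66 : Tr (List ℕ) := .node ndTree61 ndTree65

def ndTree67 : Tr (List ℕ) := .node (.leaf nd112) (.leaf nd1136)

def ndTree68 : Tr (List ℕ) := .node ndTree67 (.leaf nd624)

def ndTree69 : Tr (List ℕ) := .node (.leaf nd368) (.leaf nd880)

def ndTree70 : Tr (List ℕ) := .node ndTree68 ndTree69

def ndTree71 : Tr (List ℕ) := .node (.leaf nd240) (.leaf nd1264)

def ndTree72 : Tr (List ℕ) := .node ndTree71 (.leaf nd752)

def ndTree73 : Tr (List ℕ) := .node (.leaf nd496) (.leaf nd1008)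

def ndTree74 : Tr (List ℕ) := .node ndTree72 ndTree73

def ndTree75 : Tr (List ℕ) := .node ndTree70 ndTree74

def ndTree76 : Tr (List ℕ) := .node ndTree66 ndTree75

def ndTree77 : Tr (List ℕ) := .node ndTree57 ndTree76

def ndTree78 : Tr (List ℕ) := .node ndTree38 ndTree77

def ndTree79 : Tr (List ℕ) := .node (.leaf nd8) (.leaf nd1032)

def ndTree80 : Tr (List ℕ) := .node ndTree79 (.leaf nd520)

def ndTree81 : Tr (List ℕ) := .node (.leaf nd264) (.leaf nd776)

def ndTree82 : Tr (List ℕ) := .node ndTree80 ndTree81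

def ndTree83 : Tr (List ℕ) := .node (.leaf nd136) (.leaf nd1160)

def ndTree84 : Tr (List ℕ) := .node ndTree83 (.leaf nd648)

def ndTree85 : Tr (List ℕ) := .node (.leaf nd392) (.leaf nd904)

def ndTree86 : Tr (List ℕ) := .node ndTree84 ndTree85

def ndTree87 : Tr (List ℕ) := .node ndTree82 ndTree86

def ndTree88 : Tr (List ℕ) := .node (.leaf nd72) (.leaf nd1096)

def ndTree89 : Tr (List ℕ) := .node ndTree88 (.leaf nd584)

def ndTree90 : Tr (List ℕ) := .node (.leaf nd328) (.leaf nd840)

def ndTree91 : Tr (List ℕ) := .node ndTree89 ndTree90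

def ndTree92 : Tr (List ℕ) := .node (.leaf nd200) (.leaf nd1224)

def ndTree93 : Tr (List ℕ) := .node ndTree92 (.leaf nd712)

def ndTree94 : Tr (List ℕ) := .node (.leaf nd456) (.leaf nd968)

def ndTree95 : Tr (List ℕ) := .node ndTree93 ndTree94

def ndTree96 : Tr (List ℕ) := .node ndTree91 ndTree95

def ndTree97 : Tr (List ℕ) := .node ndTree87 ndTree96

def ndTree98 : Tr (List ℕ) := .node (.leaf nd40) (.leaf nd1064)

def ndTree99 : Tr (List ℕ) := .node ndTree98 (.leaf nd552)

def ndTree100 : Tr (List ℕ) := .node (.leaf nd296) (.leaf nd808)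

def ndTree101 : Tr (List ℕ) := .node ndTree99 ndTree100

def ndTree102 : Tr (List ℕ) := .node (.leaf nd168) (.leaf nd1192)

def ndTree103 : Tr (List ℕ) := .node ndTree102 (.leaf nd680)

def ndTree104 : Tr (List ℕ) := .node (.leaf nd424) (.leaf nd936)

def ndTree105 : Tr (List ℕ) := .node ndTree103 ndTree104

def ndTree106 : Tr (List ℕ) := .node ndTree101 ndTree105

def ndTree107 : Tr (List ℕ) := .node (.leaf nd104) (.leaf nd1128)

def ndTree108 : Tr (List ℕ) := .node ndTree107 (.leaf nd616)

def ndTree109 : Tr (List ℕ) := .node (.leaf nd360) (.leaf nd872)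

def ndTree110 : Tr (List ℕ) := .node ndTree108 ndTree109

def ndTree111 : Tr (List ℕ) := .node (.leaf nd232) (.leaf nd1256)

def ndTree112 : Tr (List ℕ) := .node ndTree111 (.leaf nd744)

def ndTree113 : Tr (List ℕ) := .node (.leaf nd488) (.leaf nd1000)

def ndTree114 : Tr (List ℕ) := .node ndTree112 ndTree113

def ndTree115 : Tr (List ℕ) := .node ndTree110 ndTree114

def ndTree116 : Tr (List ℕ) := .node ndTree106 ndTree115

def ndTree117 : Tr (List ℕ) := .node ndTree97 ndTree116

def ndTree118 : Tr (List ℕ) := .node (.leaf nd24) (.leaf nd1048)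

def ndTree119 : Tr (List ℕ) := .node ndTree118 (.leaf nd536)

def ndTree120 : Tr (List ℕ) := .node (.leaf nd280) (.leaf nd792)

def ndTree121 : Tr (List ℕ) := .node ndTree119 ndTree120

def ndTree122 : Tr (List ℕ) := .node (.leaf nd152) (.leaf nd1176)

def ndTree123 : Tr (List ℕ) := .node ndTree122 (.leaf nd664)

def ndTree124 : Tr (List ℕ) := .node (.leaf nd408) (.leaf nd920)

def ndTree125 : Tr (List ℕ) := .node ndTree123 ndTree124

def ndTree126 : Tr (List ℕ) := .node ndTree121 ndTree125

def ndTree127 : Tr (List ℕ) := .node (.leaf nd88) (.leaf nd1112)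

def ndTree128 : Tr (List ℕ) := .node ndTree127 (.leaf nd600)

def ndTree129 : Tr (List ℕ) := .node (.leaf nd344) (.leaf nd856)

def ndTree130 : Tr (List ℕ) := .node ndTree128 ndTree129

def ndTree131 : Tr (List ℕ) := .node (.leaf nd216) (.leaf nd1240)

def ndTree132 : Tr (List ℕ) := .node ndTree131 (.leaf nd728)

def ndTree133 : Tr (List ℕ) := .node (.leaf nd472) (.leaf nd984)

def ndTree134 : Tr (List ℕ) := .node ndTree132 ndTree133

def ndTree135 : Tr (List ℕ) := .node ndTree130 ndTree134

def ndTree136 : Tr (List ℕ) := .node ndTree126 ndTree135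

def ndTree137 : Tr (List ℕ) := .node (.leaf nd56) (.leaf nd1080)

def ndTree138 : Tr (List ℕ) := .node ndTree137 (.leaf nd568)

def ndTree139 : Tr (List ℕ) := .node (.leaf nd312) (.leaf nd824)

def ndTree140 : Tr (List ℕ) := .node ndTree138 ndTree139

def ndTree141 : Tr (List ℕ) := .node (.leaf nd184) (.leaf nd1208)

def ndTree142 : Tr (List ℕ) := .node ndTree141 (.leaf nd696)

def ndTree143 : Tr (List ℕ) := .node (.leaf nd440) (.leaf nd952)

def ndTree144 : Tr (List ℕ) := .node ndTree142 ndTree143

def ndTree145 : Tr (List ℕ) := .node ndTree140 ndTree144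

def ndTree146 : Tr (List ℕ) := .node (.leaf nd120) (.leaf nd1144)

def ndTree147 : Tr (List ℕ) := .node ndTree146 (.leaf nd632)

def ndTree148 : Tr (List ℕ) := .node (.leaf nd376) (.leaf nd888)

def ndTree149 : Tr (List ℕ) := .node ndTree147 ndTree148

def ndTree150 : Tr (List ℕ) := .node (.leaf nd248) (.leaf nd760)

def ndTree151 : Tr (List ℕ) := .node (.leaf nd504) (.leaf nd1016)

def ndTree152 : Tr (List ℕ) := .node ndTree150 ndTree151

def ndTree153 : Tr (List ℕ) := .node ndTree149 ndTree152

def ndTree154 : Tr (List ℕ) := .node ndTree145 ndTree153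

def ndTree155 : Tr (List ℕ) := .node ndTree136 ndTree154

def ndTree156 : Tr (List ℕ) := .node ndTree117 ndTree155

def ndTree157 : Tr (List ℕ) := .node ndTree78 ndTree156

def ndTree158 : Tr (List ℕ) := .node (.leaf nd4) (.leaf nd1028)

def ndTree159 : Tr (List ℕ) := .node ndTree158 (.leaf nd516)

def ndTree160 : Tr (List ℕ) := .node (.leaf nd260) (.leaf nd772)

def ndTree161 : Tr (List ℕ) := .node ndTree159 ndTree160

def ndTree162 : Tr (List ℕ) := .node (.leaf nd132) (.leaf nd1156)

def ndTree163 : Tr (List ℕ) := .node ndTree162 (.leaf nd644)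

def ndTree164 : Tr (List ℕ) := .node (.leaf nd388) (.leaf nd900)

def ndTree165 : Tr (List ℕ) := .node ndTree163 ndTree164

def ndTree166 : Tr (List ℕ) := .node ndTree161 ndTree165

def ndTree167 : Tr (List ℕ) := .node (.leaf nd68) (.leaf nd1092)

def ndTree168 : Tr (List ℕ) := .node ndTree167 (.leaf nd580)

def ndTree169 : Tr (List ℕ) := .node (.leaf nd324) (.leaf nd836)

def ndTree170 : Tr (List ℕ) := .node ndTree168 ndTree169

def ndTree171 : Tr (List ℕ) := .node (.leaf nd196) (.leaf nd1220)

def ndTree172 : Tr (List ℕ) := .node ndTree171 (.leaf nd708)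

def ndTree173 : Tr (List ℕ) := .node (.leaf nd452) (.leaf nd964)

def ndTree174 : Tr (List ℕ) := .node ndTree172 ndTree173

def ndTree175 : Tr (List ℕ) := .node ndTree170 ndTree174

def ndTree176 : Tr (List ℕ) := .node ndTree166 ndTree175

def ndTree177 : Tr (List ℕ) := .node (.leaf nd36) (.leaf nd1060)

def ndTree178 : Tr (List ℕ) := .node ndTree177 (.leaf nd548)

def ndTree179 : Tr (List ℕ) := .node (.leaf nd292) (.leaf nd804)

def ndTree180 : Tr (List ℕ) := .node ndTree178 ndTree179

def ndTree181 : Tr (List ℕ) := .node (.leaf nd164) (.leaf nd1188)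

def ndTree182 : Tr (List ℕ) := .node ndTree181 (.leaf nd676)

def ndTree183 : Tr (List ℕ) := .node (.leaf nd420) (.leaf nd932)

def ndTree184 : Tr (List ℕ) := .node ndTree182 ndTree183

def ndTree185 : Tr (List ℕ) := .node ndTree180 ndTree184

def ndTree186 : Tr (List ℕ) := .node (.leaf nd100) (.leaf nd1124)

def ndTree187 : Tr (List ℕ) := .node ndTree186 (.leaf nd612)

def ndTree188 : Tr (List ℕ) := .node (.leaf nd356) (.leaf nd868)

def ndTree189 : Tr (List ℕ) := .node ndTree187 ndTree188

def ndTree190 : Tr (List ℕ) := .node (.leaf nd228) (.leaf nd1252)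

def ndTree191 : Tr (List ℕ) := .node ndTree190 (.leaf nd740)

def ndTree192 : Tr (List ℕ) := .node (.leaf nd484) (.leaf nd996)

def ndTree193 : Tr (List ℕ) := .node ndTree191 ndTree192

def ndTree194 : Tr (List ℕ) := .node ndTree189 ndTree193

def ndTree195 : Tr (List ℕ) := .node ndTree185 ndTree194

def ndTree196 : Tr (List ℕ) := .node ndTree176 ndTree195

def ndTree197 : Tr (List ℕ) := .node (.leaf nd20) (.leaf nd1044)

def ndTree198 : Tr (List ℕ) := .node ndTree197 (.leaf nd532)

def ndTree199 : Tr (List ℕ) := .node (.leaf nd276) (.leaf nd788)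

def ndTree200 : Tr (List ℕ) := .node ndTree198 ndTree199

def ndTree201 : Tr (List ℕ) := .node (.leaf nd148) (.leaf nd1172)

def ndTree202 : Tr (List ℕ) := .node ndTree201 (.leaf nd660)

def ndTree203 : Tr (List ℕ) := .node (.leaf nd404) (.leaf nd916)

def ndTree204 : Tr (List ℕ) := .node ndTree202 ndTree203

def ndTree205 : Tr (List ℕ) := .node ndTree200 ndTree204

def ndTree206 : Tr (List ℕ) := .node (.leaf nd84) (.leaf nd1108)

def ndTree207 : Tr (List ℕ) := .node ndTree206 (.leaf nd596)

def ndTree208 : Tr (List ℕ) := .node (.leaf nd340) (.leaf nd852)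

def ndTree209 : Tr (List ℕ) := .node ndTree207 ndTree208

def ndTree210 : Tr (List ℕ) := .node (.leaf nd212) (.leaf nd1236)

def ndTree211 : Tr (List ℕ) := .node ndTree210 (.leaf nd724)

def ndTree212 : Tr (List ℕ) := .node (.leaf nd468) (.leaf nd980)

def ndTree213 : Tr (List ℕ) := .node ndTree211 ndTree212

def ndTree214 : Tr (List ℕ) := .node ndTree209 ndTree213

def ndTree215 : Tr (List ℕ) := .node ndTree205 ndTree214

def ndTree216 : Tr (List ℕ) := .node (.leaf nd52) (.leaf nd1076)

def ndTree217 : Tr (List ℕ) := .node ndTree216 (.leaf nd564)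

def ndTree218 : Tr (List ℕ) := .node (.leaf nd308) (.leaf nd820)

def ndTree219 : Tr (List ℕ) := .node ndTree217 ndTree218

def ndTree220 : Tr (List ℕ) := .node (.leaf nd180) (.leaf nd1204)

def ndTree221 : Tr (List ℕ) := .node ndTree220 (.leaf nd692)

def ndTree222 : Tr (List ℕ) := .node (.leaf nd436) (.leaf nd948)

def ndTree223 : Tr (List ℕ) := .node ndTree221 ndTree222

def ndTree224 : Tr (List ℕ) := .node ndTree219 ndTree223

def ndTree225 : Tr (List ℕ) := .node (.leaf nd116) (.leaf nd1140)

def ndTree226 : Tr (List ℕ) := .node ndTree225 (.leaf nd628)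

def ndTree227 : Tr (List ℕ) := .node (.leaf nd372) (.leaf nd884)

def ndTree228 : Tr (List ℕ) := .node ndTree226 ndTree227

def ndTree229 : Tr (List ℕ) := .node (.leaf nd244) (.leaf nd1268)

def ndTree230 : Tr (List ℕ) := .node ndTree229 (.leaf nd756)

def ndTree231 : Tr (List ℕ) := .node (.leaf nd500) (.leaf nd1012)

def ndTree232 : Tr (List ℕ) := .node ndTree230 ndTree231

def ndTree233 : Tr (List ℕ) := .node ndTree228 ndTree232

def ndTree234 : Tr (List ℕ) := .node ndTree224 ndTree233

def ndTree235 : Tr (List ℕ) := .node ndTree215 ndTree234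

def ndTree236 : Tr (List ℕ) := .node ndTree196 ndTree235

def ndTree237 : Tr (List ℕ) := .node (.leaf nd12) (.leaf nd1036)

def ndTree238 : Tr (List ℕ) := .node ndTree237 (.leaf nd524)

def ndTree239 : Tr (List ℕ) := .node (.leaf nd268) (.leaf nd780)

def ndTree240 : Tr (List ℕ) := .node ndTree238 ndTree239

def ndTree241 : Tr (List ℕ) := .node (.leaf nd140) (.leaf nd1164)

def ndTree242 : Tr (List ℕ) := .node ndTree241 (.leaf nd652)

def ndTree243 : Tr (List ℕ) := .node (.leaf nd396) (.leaf nd908)

def ndTree244 : Tr (List ℕ) := .node ndTree242 ndTree243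

def ndTree245 : Tr (List ℕ) := .node ndTree240 ndTree244

def ndTree246 : Tr (List ℕ) := .node (.leaf nd76) (.leaf nd1100)

def ndTree247 : Tr (List ℕ) := .node ndTree246 (.leaf nd588)

def ndTree248 : Tr (List ℕ) := .node (.leaf nd332) (.leaf nd844)

def ndTree249 : Tr (List ℕ) := .node ndTree247 ndTree248

def ndTree250 : Tr (List ℕ) := .node (.leaf nd204) (.leaf nd1228)

def ndTree251 : Tr (List ℕ) := .node ndTree250 (.leaf nd716)

def ndTree252 : Tr (List ℕ) := .node (.leaf nd460) (.leaf nd972)

def ndTree253 : Tr (List ℕ) := .node ndTree251 ndTree252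

def ndTree254 : Tr (List ℕ) := .node ndTree249 ndTree253

def ndTree255 : Tr (List ℕ) := .node ndTree245 ndTree254

def ndTree256 : Tr (List ℕ) := .node (.leaf nd44) (.leaf nd1068)

def ndTree257 : Tr (List ℕ) := .node ndTree256 (.leaf nd556)

def ndTree258 : Tr (List ℕ) := .node (.leaf nd300) (.leaf nd812)

def ndTree259 : Tr (List ℕ) := .node ndTree257 ndTree258

def ndTree260 : Tr (List ℕ) := .node (.leaf nd172) (.leaf nd1196)

def ndTree261 : Tr (List ℕ) := .node ndTree260 (.leaf nd684)

def ndTree262 : Tr (List ℕ) := .node (.leaf nd428) (.leaf nd940)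

def ndTree263 : Tr (List ℕ) := .node ndTree261 ndTree262

def ndTree264 : Tr (List ℕ) := .node ndTree259 ndTree263

def ndTree265 : Tr (List ℕ) := .node (.leaf nd108) (.leaf nd1132)

def ndTree266 : Tr (List ℕ) := .node ndTree265 (.leaf nd620)

def ndTree267 : Tr (List ℕ) := .node (.leaf nd364) (.leaf nd876)

def ndTree268 : Tr (List ℕ) := .node ndTree266 ndTree267

def ndTree269 : Tr (List ℕ) := .node (.leaf nd236) (.leaf nd1260)

def ndTree270 : Tr (List ℕ) := .node ndTree269 (.leaf nd748)

def ndTree271 : Tr (List ℕ) := .node (.leaf nd492) (.leaf nd1004)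

def ndTree272 : Tr (List ℕ) := .node ndTree270 ndTree271

def ndTree273 : Tr (List ℕ) := .node ndTree268 ndTree272

def ndTree274 : Tr (List ℕ) := .node ndTree264 ndTree273

def ndTree275 : Tr (List ℕ) := .node ndTree255 ndTree274

def ndTree276 : Tr (List ℕ) := .node (.leaf nd28) (.leaf nd1052)

def ndTree277 : Tr (List ℕ) := .node ndTree276 (.leaf nd540)

def ndTree278 : Tr (List ℕ) := .node (.leaf nd284) (.leaf nd796)

def ndTree279 : Tr (List ℕ) := .node ndTree277 ndTree278

def ndTree280 : Tr (List ℕ) := .node (.leaf nd156) (.leaf nd1180)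

def ndTree281 : Tr (List ℕ) := .node ndTree280 (.leaf nd668)

def ndTree282 : Tr (List ℕ) := .node (.leaf nd412) (.leaf nd924)

def ndTree283 : Tr (List ℕ) := .node ndTree281 ndTree282

def ndTree284 : Tr (List ℕ) := .node ndTree279 ndTree283

def ndTree285 : Tr (List ℕ) := .node (.leaf nd92) (.leaf nd1116)

def ndTree286 : Tr (List ℕ) := .node ndTree285 (.leaf nd604)

def ndTree287 : Tr (List ℕ) := .node (.leaf nd348) (.leaf nd860)

def ndTree288 : Tr (List ℕ) := .node ndTree286 ndTree287

def ndTree289 : Tr (List ℕ) := .node (.leaf nd220) (.leaf nd1244)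

def ndTree290 : Tr (List ℕ) := .node ndTree289 (.leaf nd732)

def ndTree291 : Tr (List ℕ) := .node (.leaf nd476) (.leaf nd988)

def ndTree292 : Tr (List ℕ) := .node ndTree290 ndTree291

def ndTree293 : Tr (List ℕ) := .node ndTree288 ndTree292

def ndTree294 : Tr (List ℕ) := .node ndTree284 ndTree293

def ndTree295 : Tr (List ℕ) := .node (.leaf nd60) (.leaf nd1084)

def ndTree296 : Tr (List ℕ) := .node ndTree295 (.leaf nd572)

def ndTree297 : Tr (List ℕ) := .node (.leaf nd316) (.leaf nd828)

def ndTree298 : Tr (List ℕ) := .node ndTree296 ndTree297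

def ndTree299 : Tr (List ℕ) := .node (.leaf nd188) (.leaf nd1212)

def ndTree300 : Tr (List ℕ) := .node ndTree299 (.leaf nd700)

def ndTree301 : Tr (List ℕ) := .node (.leaf nd444) (.leaf nd956)

def ndTree302 : Tr (List ℕ) := .node ndTree300 ndTree301

def ndTree303 : Tr (List ℕ) := .node ndTree298 ndTree302

def ndTree304 : Tr (List ℕ) := .node (.leaf nd124) (.leaf nd1148)

def ndTree305 : Tr (List ℕ) := .node ndTree304 (.leaf nd636)

def ndTree306 : Tr (List ℕ) := .node (.leaf nd380) (.leaf nd892)

def ndTree307 : Tr (List ℕ) := .node ndTree305 ndTree306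

def ndTree308 : Tr (List ℕ) := .node (.leaf nd252) (.leaf nd764)

def ndTree309 : Tr (List ℕ) := .node (.leaf nd508) (.leaf nd1020)

def ndTree310 : Tr (List ℕ) := .node ndTree308 ndTree309

def ndTree311 : Tr (List ℕ) := .node ndTree307 ndTree310

def ndTree312 : Tr (List ℕ) := .node ndTree303 ndTree311

def ndTree313 : Tr (List ℕ) := .node ndTree294 ndTree312

def ndTree314 : Tr (List ℕ) := .node ndTree275 ndTree313

def ndTree315 : Tr (List ℕ) := .node ndTree236 ndTree314

def ndTree316 : Tr (List ℕ) := .node ndTree157 ndTree315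

def ndTree317 : Tr (List ℕ) := .node (.leaf nd2) (.leaf nd1026)

def ndTree318 : Tr (List ℕ) := .node ndTree317 (.leaf nd514)

def ndTree319 : Tr (List ℕ) := .node (.leaf nd258) (.leaf nd770)

def ndTree320 : Tr (List ℕ) := .node ndTree318 ndTree319

def ndTree321 : Tr (List ℕ) := .node (.leaf nd130) (.leaf nd1154)

def ndTree322 : Tr (List ℕ) := .node ndTree321 (.leaf nd642)

def ndTree323 : Tr (List ℕ) := .node (.leaf nd386) (.leaf nd898)

def ndTree324 : Tr (List ℕ) := .node ndTree322 ndTree323

def ndTree325 : Tr (List ℕ) := .node ndTree320 ndTree324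

def ndTree326 : Tr (List ℕ) := .node (.leaf nd66) (.leaf nd1090)

def ndTree327 : Tr (List ℕ) := .node ndTree326 (.leaf nd578)

def ndTree328 : Tr (List ℕ) := .node (.leaf nd322) (.leaf nd834)

def ndTree329 : Tr (List ℕ) := .node ndTree327 ndTree328

def ndTree330 : Tr (List ℕ) := .node (.leaf nd194) (.leaf nd1218)

def ndTree331 : Tr (List ℕ) := .node ndTree330 (.leaf nd706)

def ndTree332 : Tr (List ℕ) := .node (.leaf nd450) (.leaf nd962)

def ndTree333 : Tr (List ℕ) := .node ndTree331 ndTree332

def ndTree334 : Tr (List ℕ) := .node ndTree329 ndTree333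

def ndTree335 : Tr (List ℕ) := .node ndTree325 ndTree334

def ndTree336 : Tr (List ℕ) := .node (.leaf nd34) (.leaf nd1058)

def ndTree337 : Tr (List ℕ) := .node ndTree336 (.leaf nd546)

def ndTree338 : Tr (List ℕ) := .node (.leaf nd290) (.leaf nd802)

def ndTree339 : Tr (List ℕ) := .node ndTree337 ndTree338

def ndTree340 : Tr (List ℕ) := .node (.leaf nd162) (.leaf nd1186)

def ndTree341 : Tr (List ℕ) := .node ndTree340 (.leaf nd674)

def ndTree342 : Tr (List ℕ) := .node (.leaf nd418) (.leaf nd930)

def ndTree343 : Tr (List ℕ) := .node ndTree341 ndTree342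

def ndTree344 : Tr (List ℕ) := .node ndTree339 ndTree343

def ndTree345 : Tr (List ℕ) := .node (.leaf nd98) (.leaf nd1122)

def ndTree346 : Tr (List ℕ) := .node ndTree345 (.leaf nd610)

def ndTree347 : Tr (List ℕ) := .node (.leaf nd354) (.leaf nd866)

def ndTree348 : Tr (List ℕ) := .node ndTree346 ndTree347

def ndTree349 : Tr (List ℕ) := .node (.leaf nd226) (.leaf nd1250)

def ndTree350 : Tr (List ℕ) := .node ndTree349 (.leaf nd738)

def ndTree351 : Tr (List ℕ) := .node (.leaf nd482) (.leaf nd994)

def ndTree352 : Tr (List ℕ) := .node ndTree350 ndTree351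

def ndTree353 : Tr (List ℕ) := .node ndTree348 ndTree352

def ndTree354 : Tr (List ℕ) := .node ndTree344 ndTree353

def ndTree355 : Tr (List ℕ) := .node ndTree335 ndTree354

def ndTree356 : Tr (List ℕ) := .node (.leaf nd18) (.leaf nd1042)

def ndTree357 : Tr (List ℕ) := .node ndTree356 (.leaf nd530)

def ndTree358 : Tr (List ℕ) := .node (.leaf nd274) (.leaf nd786)

def ndTree359 : Tr (List ℕ) := .node ndTree357 ndTree358

def ndTree360 : Tr (List ℕ) := .node (.leaf nd146) (.leaf nd1170)

def ndTree361 : Tr (List ℕ) := .node ndTree360 (.leaf nd658)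

def ndTree362 : Tr (List ℕ) := .node (.leaf nd402) (.leaf nd914)

def ndTree363 : Tr (List ℕ) := .node ndTree361 ndTree362

def ndTree364 : Tr (List ℕ) := .node ndTree359 ndTree363

def ndTree365 : Tr (List ℕ) := .node (.leaf nd82) (.leaf nd1106)

def ndTree366 : Tr (List ℕ) := .node ndTree365 (.leaf nd594)

def ndTree367 : Tr (List ℕ) := .node (.leaf nd338) (.leaf nd850)

def ndTree368 : Tr (List ℕ) := .node ndTree366 ndTree367

def ndTree369 : Tr (List ℕ) := .node (.leaf nd210) (.leaf nd1234)

def ndTree370 : Tr (List ℕ) := .node ndTree369 (.leaf nd722)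

def ndTree371 : Tr (List ℕ) := .node (.leaf nd466) (.leaf nd978)

def ndTree372 : Tr (List ℕ) := .node ndTree370 ndTree371

def ndTree373 : Tr (List ℕ) := .node ndTree368 ndTree372

def ndTree374 : Tr (List ℕ) := .node ndTree364 ndTree373

def ndTree375 : Tr (List ℕ) := .node (.leaf nd50) (.leaf nd1074)

def ndTree376 : Tr (List ℕ) := .node ndTree375 (.leaf nd562)

def ndTree377 : Tr (List ℕ) := .node (.leaf nd306) (.leaf nd818)

def ndTree378 : Tr (List ℕ) := .node ndTree376 ndTree377

def ndTree379 : Tr (List ℕ) := .node (.leaf nd178) (.leaf nd1202)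

def ndTree380 : Tr (List ℕ) := .node ndTree379 (.leaf nd690)

def ndTree381 : Tr (List ℕ) := .node (.leaf nd434) (.leaf nd946)

def ndTree382 : Tr (List ℕ) := .node ndTree380 ndTree381

def ndTree383 : Tr (List ℕ) := .node ndTree378 ndTree382

def ndTree384 : Tr (List ℕ) := .node (.leaf nd114) (.leaf nd1138)

def ndTree385 : Tr (List ℕ) := .node ndTree384 (.leaf nd626)

def ndTree386 : Tr (List ℕ) := .node (.leaf nd370) (.leaf nd882)

def ndTree387 : Tr (List ℕ) := .node ndTree385 ndTree386

def ndTree388 : Tr (List ℕ) := .node (.leaf nd242) (.leaf nd1266)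

def ndTree389 : Tr (List ℕ) := .node ndTree388 (.leaf nd754)

def ndTree390 : Tr (List ℕ) := .node (.leaf nd498) (.leaf nd1010)

def ndTree391 : Tr (List ℕ) := .node ndTree389 ndTree390

def ndTree392 : Tr (List ℕ) := .node ndTree387 ndTree391

def ndTree393 : Tr (List ℕ) := .node ndTree383 ndTree392

def ndTree394 : Tr (List ℕ) := .node ndTree374 ndTree393

def ndTree395 : Tr (List ℕ) := .node ndTree355 ndTree394

def ndTree396 : Tr (List ℕ) := .node (.leaf nd10) (.leaf nd1034)

def ndTree397 : Tr (List ℕ) := .node ndTree396 (.leaf nd522)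

def ndTree398 : Tr (List ℕ) := .node (.leaf nd266) (.leaf nd778)

def ndTree399 : Tr (List ℕ) := .node ndTree397 ndTree398

def ndTree400 : Tr (List ℕ) := .node (.leaf nd138) (.leaf nd1162)

def ndTree401 : Tr (List ℕ) := .node ndTree400 (.leaf nd650)

def ndTree402 : Tr (List ℕ) := .node (.leaf nd394) (.leaf nd906)

def ndTree403 : Tr (List ℕ) := .node ndTree401 ndTree402

def ndTree404 : Tr (List ℕ) := .node ndTree399 ndTree403

def ndTree405 : Tr (List ℕ) := .node (.leaf nd74) (.leaf nd1098)

def ndTree406 : Tr (List ℕ) := .node ndTree405 (.leaf nd586)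

def ndTree407 : Tr (List ℕ) := .node (.leaf nd330) (.leaf nd842)

def ndTree408 : Tr (List ℕ) := .node ndTree406 ndTree407

def ndTree409 : Tr (List ℕ) := .node (.leaf nd202) (.leaf nd1226)

def ndTree410 : Tr (List ℕ) := .node ndTree409 (.leaf nd714)

def ndTree411 : Tr (List ℕ) := .node (.leaf nd458) (.leaf nd970)

def ndTree412 : Tr (List ℕ) := .node ndTree410 ndTree411

def ndTree413 : Tr (List ℕ) := .node ndTree408 ndTree412

def ndTree414 : Tr (List ℕ) := .node ndTree404 ndTree413

def ndTree415 : Tr (List ℕ) := .node (.leaf nd42) (.leaf nd1066)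

def ndTree416 : Tr (List ℕ) := .node ndTree415 (.leaf nd554)

def ndTree417 : Tr (List ℕ) := .node (.leaf nd298) (.leaf nd810)

def ndTree418 : Tr (List ℕ) := .node ndTree416 ndTree417

def ndTree419 : Tr (List ℕ) := .node (.leaf nd170) (.leaf nd1194)

def ndTree420 : Tr (List ℕ) := .node ndTree419 (.leaf nd682)

def ndTree421 : Tr (List ℕ) := .node (.leaf nd426) (.leaf nd938)

def ndTree422 : Tr (List ℕ) := .node ndTree420 ndTree421

def ndTree423 : Tr (List ℕ) := .node ndTree418 ndTree422

def ndTree424 : Tr (List ℕ) := .node (.leaf nd106) (.leaf nd1130)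

def ndTree425 : Tr (List ℕ) := .node ndTree424 (.leaf nd618)

def ndTree426 : Tr (List ℕ) := .node (.leaf nd362) (.leaf nd874)

def ndTree427 : Tr (List ℕ) := .node ndTree425 ndTree426

def ndTree428 : Tr (List ℕ) := .node (.leaf nd234) (.leaf nd1258)

def ndTree429 : Tr (List ℕ) := .node ndTree428 (.leaf nd746)

def ndTree430 : Tr (List ℕ) := .node (.leaf nd490) (.leaf nd1002)

def ndTree431 : Tr (List ℕ) := .node ndTree429 ndTree430

def ndTree432 : Tr (List ℕ) := .node ndTree427 ndTree431

def ndTree433 : Tr (List ℕ) := .node ndTree423 ndTree432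

def ndTree434 : Tr (List ℕ) := .node ndTree414 ndTree433

def ndTree435 : Tr (List ℕ) := .node (.leaf nd26) (.leaf nd1050)

def ndTree436 : Tr (List ℕ) := .node ndTree435 (.leaf nd538)

def ndTree437 : Tr (List ℕ) := .node (.leaf nd282) (.leaf nd794)

def ndTree438 : Tr (List ℕ) := .node ndTree436 ndTree437

def ndTree439 : Tr (List ℕ) := .node (.leaf nd154) (.leaf nd1178)

def ndTree440 : Tr (List ℕ) := .node ndTree439 (.leaf nd666)

def ndTree441 : Tr (List ℕ) := .node (.leaf nd410) (.leaf nd922)

def ndTree442 : Tr (List ℕ) := .node ndTree440 ndTree441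

def ndTree443 : Tr (List ℕ) := .node ndTree438 ndTree442

def ndTree444 : Tr (List ℕ) := .node (.leaf nd90) (.leaf nd1114)

def ndTree445 : Tr (List ℕ) := .node ndTree444 (.leaf nd602)

def ndTree446 : Tr (List ℕ) := .node (.leaf nd346) (.leaf nd858)

def ndTree447 : Tr (List ℕ) := .node ndTree445 ndTree446

def ndTree448 : Tr (List ℕ) := .node (.leaf nd218) (.leaf nd1242)

def ndTree449 : Tr (List ℕ) := .node ndTree448 (.leaf nd730)

def ndTree450 : Tr (List ℕ) := .node (.leaf nd474) (.leaf nd986)

def ndTree451 : Tr (List ℕ) := .node ndTree449 ndTree450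

def ndTree452 : Tr (List ℕ) := .node ndTree447 ndTree451

def ndTree453 : Tr (List ℕ) := .node ndTree443 ndTree452

def ndTree454 : Tr (List ℕ) := .node (.leaf nd58) (.leaf nd1082)

def ndTree455 : Tr (List ℕ) := .node ndTree454 (.leaf nd570)

def ndTree456 : Tr (List ℕ) := .node (.leaf nd314) (.leaf nd826)

def ndTree457 : Tr (List ℕ) := .node ndTree455 ndTree456

def ndTree458 : Tr (List ℕ) := .node (.leaf nd186) (.leaf nd1210)

def ndTree459 : Tr (List ℕ) := .node ndTree458 (.leaf nd698)

def ndTree460 : Tr (List ℕ) := .node (.leaf nd442) (.leaf nd954)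

def ndTree461 : Tr (List ℕ) := .node ndTree459 ndTree460

def ndTree462 : Tr (List ℕ) := .node ndTree457 ndTree461

def ndTree463 : Tr (List ℕ) := .node (.leaf nd122) (.leaf nd1146)

def ndTree464 : Tr (List ℕ) := .node ndTree463 (.leaf nd634)

def ndTree465 : Tr (List ℕ) := .node (.leaf nd378) (.leaf nd890)

def ndTree466 : Tr (List ℕ) := .node ndTree464 ndTree465

def ndTree467 : Tr (List ℕ) := .node (.leaf nd250) (.leaf nd762)

def ndTree468 : Tr (List ℕ) := .node (.leaf nd506) (.leaf nd1018)

def ndTree469 : Tr (List ℕ) := .node ndTree467 ndTree468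

def ndTree470 : Tr (List ℕ) := .node ndTree466 ndTree469

def ndTree471 : Tr (List ℕ) := .node ndTree462 ndTree470

def ndTree472 : Tr (List ℕ) := .node ndTree453 ndTree471

def ndTree473 : Tr (List ℕ) := .node ndTree434 ndTree472

def ndTree474 : Tr (List ℕ) := .node ndTree395 ndTree473

def ndTree475 : Tr (List ℕ) := .node (.leaf nd6) (.leaf nd1030)

def ndTree476 : Tr (List ℕ) := .node ndTree475 (.leaf nd518)

def ndTree477 : Tr (List ℕ) := .node (.leaf nd262) (.leaf nd774)

def ndTree478 : Tr (List ℕ) := .node ndTree476 ndTree477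

def ndTree479 : Tr (List ℕ) := .node (.leaf nd134) (.leaf nd1158)

def ndTree480 : Tr (List ℕ) := .node ndTree479 (.leaf nd646)

def ndTree481 : Tr (List ℕ) := .node (.leaf nd390) (.leaf nd902)

def ndTree482 : Tr (List ℕ) := .node ndTree480 ndTree481

def ndTree483 : Tr (List ℕ) := .node ndTree478 ndTree482

def ndTree484 : Tr (List ℕ) := .node (.leaf nd70) (.leaf nd1094)

def ndTree485 : Tr (List ℕ) := .node ndTree484 (.leaf nd582)

def ndTree486 : Tr (List ℕ) := .node (.leaf nd326) (.leaf nd838)

def ndTree487 : Tr (List ℕ) := .node ndTree485 ndTree486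

def ndTree488 : Tr (List ℕ) := .node (.leaf nd198) (.leaf nd1222)

def ndTree489 : Tr (List ℕ) := .node ndTree488 (.leaf nd710)

def ndTree490 : Tr (List ℕ) := .node (.leaf nd454) (.leaf nd966)

def ndTree491 : Tr (List ℕ) := .node ndTree489 ndTree490

def ndTree492 : Tr (List ℕ) := .node ndTree487 ndTree491

def ndTree493 : Tr (List ℕ) := .node ndTree483 ndTree492

def ndTree494 : Tr (List ℕ) := .node (.leaf nd38) (.leaf nd1062)

def ndTree495 : Tr (List ℕ) := .node ndTree494 (.leaf nd550)

def ndTree496 : Tr (List ℕ) := .node (.leaf nd294) (.leaf nd806)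

def ndTree497 : Tr (List ℕ) := .node ndTree495 ndTree496

def ndTree498 : Tr (List ℕ) := .node (.leaf nd166) (.leaf nd1190)

def ndTree499 : Tr (List ℕ) := .node ndTree498 (.leaf nd678)

def ndTree500 : Tr (List ℕ) := .node (.leaf nd422) (.leaf nd934)

def ndTree501 : Tr (List ℕ) := .node ndTree499 ndTree500

def ndTree502 : Tr (List ℕ) := .node ndTree497 ndTree501

def ndTree503 : Tr (List ℕ) := .node (.leaf nd102) (.leaf nd1126)

def ndTree504 : Tr (List ℕ) := .node ndTree503 (.leaf nd614)

def ndTree505 : Tr (List ℕ) := .node (.leaf nd358) (.leaf nd870)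

def ndTree506 : Tr (List ℕ) := .node ndTree504 ndTree505

def ndTree507 : Tr (List ℕ) := .node (.leaf nd230) (.leaf nd1254)

def ndTree508 : Tr (List ℕ) := .node ndTree507 (.leaf nd742)

def ndTree509 : Tr (List ℕ) := .node (.leaf nd486) (.leaf nd998)

def ndTree510 : Tr (List ℕ) := .node ndTree508 ndTree509

def ndTree511 : Tr (List ℕ) := .node ndTree506 ndTree510

def ndTree512 : Tr (List ℕ) := .node ndTree502 ndTree511

def ndTree513 : Tr (List ℕ) := .node ndTree493 ndTree512

def ndTree514 : Tr (List ℕ) := .node (.leaf nd22) (.leaf nd1046)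

def ndTree515 : Tr (List ℕ) := .node ndTree514 (.leaf nd534)

def ndTree516 : Tr (List ℕ) := .node (.leaf nd278) (.leaf nd790)

def ndTree517 : Tr (List ℕ) := .node ndTree515 ndTree516

def ndTree518 : Tr (List ℕ) := .node (.leaf nd150) (.leaf nd1174)

def ndTree519 : Tr (List ℕ) := .node ndTree518 (.leaf nd662)

def ndTree520 : Tr (List ℕ) := .node (.leaf nd406) (.leaf nd918)

def ndTree521 : Tr (List ℕ) := .node ndTree519 ndTree520

def ndTree522 : Tr (List ℕ) := .node ndTree517 ndTree521

def ndTree523 : Tr (List ℕ) := .node (.leaf nd86) (.leaf nd1110)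

def ndTree524 : Tr (List ℕ) := .node ndTree523 (.leaf nd598)

def ndTree525 : Tr (List ℕ) := .node (.leaf nd342) (.leaf nd854)

def ndTree526 : Tr (List ℕ) := .node ndTree524 ndTree525

def ndTree527 : Tr (List ℕ) := .node (.leaf nd214) (.leaf nd1238)

def ndTree528 : Tr (List ℕ) := .node ndTree527 (.leaf nd726)

def ndTree529 : Tr (List ℕ) := .node (.leaf nd470) (.leaf nd982)

def ndTree530 : Tr (List ℕ) := .node ndTree528 ndTree529

def ndTree531 : Tr (List ℕ) := .node ndTree526 ndTree530

def ndTree532 : Tr (List ℕ) := .node ndTree522 ndTree531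

def ndTree533 : Tr (List ℕ) := .node (.leaf nd54) (.leaf nd1078)

def ndTree534 : Tr (List ℕ) := .node ndTree533 (.leaf nd566)

def ndTree535 : Tr (List ℕ) := .node (.leaf nd310) (.leaf nd822)

def ndTree536 : Tr (List ℕ) := .node ndTree534 ndTree535

def ndTree537 : Tr (List ℕ) := .node (.leaf nd182) (.leaf nd1206)

def ndTree538 : Tr (List ℕ) := .node ndTree537 (.leaf nd694)

def ndTree539 : Tr (List ℕ) := .node (.leaf nd438) (.leaf nd950)

def ndTree540 : Tr (List ℕ) := .node ndTree538 ndTree539

def ndTree541 : Tr (List ℕ) := .node ndTree536 ndTree540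

def ndTree542 : Tr (List ℕ) := .node (.leaf nd118) (.leaf nd1142)

def ndTree543 : Tr (List ℕ) := .node ndTree542 (.leaf nd630)

def ndTree544 : Tr (List ℕ) := .node (.leaf nd374) (.leaf nd886)

def ndTree545 : Tr (List ℕ) := .node ndTree543 ndTree544

def ndTree546 : Tr (List ℕ) := .node (.leaf nd246) (.leaf nd758)

def ndTree547 : Tr (List ℕ) := .node (.leaf nd502) (.leaf nd1014)

def ndTree548 : Tr (List ℕ) := .node ndTree546 ndTree547

def ndTree549 : Tr (List ℕ) := .node ndTree545 ndTree548

def ndTree550 : Tr (List ℕ) := .node ndTree541 ndTree549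

def ndTree551 : Tr (List ℕ) := .node ndTree532 ndTree550

def ndTree552 : Tr (List ℕ) := .node ndTree513 ndTree551

def ndTree553 : Tr (List ℕ) := .node (.leaf nd14) (.leaf nd1038)

def ndTree554 : Tr (List ℕ) := .node ndTree553 (.leaf nd526)

def ndTree555 : Tr (List ℕ) := .node (.leaf nd270) (.leaf nd782)

def ndTree556 : Tr (List ℕ) := .node ndTree554 ndTree555

def ndTree557 : Tr (List ℕ) := .node (.leaf nd142) (.leaf nd1166)

def ndTree558 : Tr (List ℕ) := .node ndTree557 (.leaf nd654)

def ndTree559 : Tr (List ℕ) := .node (.leaf nd398) (.leaf nd910)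

def ndTree560 : Tr (List ℕ) := .node ndTree558 ndTree559

def ndTree561 : Tr (List ℕ) := .node ndTree556 ndTree560

def ndTree562 : Tr (List ℕ) := .node (.leaf nd78) (.leaf nd1102)

def ndTree563 : Tr (List ℕ) := .node ndTree562 (.leaf nd590)

def ndTree564 : Tr (List ℕ) := .node (.leaf nd334) (.leaf nd846)

def ndTree565 : Tr (List ℕ) := .node ndTree563 ndTree564

def ndTree566 : Tr (List ℕ) := .node (.leaf nd206) (.leaf nd1230)

def ndTree567 : Tr (List ℕ) := .node ndTree566 (.leaf nd718)

def ndTree568 : Tr (List ℕ) := .node (.leaf nd462) (.leaf nd974)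

def ndTree569 : Tr (List ℕ) := .node ndTree567 ndTree568

def ndTree570 : Tr (List ℕ) := .node ndTree565 ndTree569

def ndTree571 : Tr (List ℕ) := .node ndTree561 ndTree570

def ndTree572 : Tr (List ℕ) := .node (.leaf nd46) (.leaf nd1070)

def ndTree573 : Tr (List ℕ) := .node ndTree572 (.leaf nd558)

def ndTree574 : Tr (List ℕ) := .node (.leaf nd302) (.leaf nd814)

def ndTree575 : Tr (List ℕ) := .node ndTree573 ndTree574

def ndTree576 : Tr (List ℕ) := .node (.leaf nd174) (.leaf nd1198)

def ndTree577 : Tr (List ℕ) := .node ndTree576 (.leaf nd686)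

def ndTree578 : Tr (List ℕ) := .node (.leaf nd430) (.leaf nd942)

def ndTree579 : Tr (List ℕ) := .node ndTree577 ndTree578

def ndTree580 : Tr (List ℕ) := .node ndTree575 ndTree579

def ndTree581 : Tr (List ℕ) := .node (.leaf nd110) (.leaf nd1134)

def ndTree582 : Tr (List ℕ) := .node ndTree581 (.leaf nd622)

def ndTree583 : Tr (List ℕ) := .node (.leaf nd366) (.leaf nd878)

def ndTree584 : Tr (List ℕ) := .node ndTree582 ndTree583

def ndTree585 : Tr (List ℕ) := .node (.leaf nd238) (.leaf nd1262)

def ndTree586 : Tr (List ℕ) := .node ndTree585 (.leaf nd750)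

def ndTree587 : Tr (List ℕ) := .node (.leaf nd494) (.leaf nd1006)

def ndTree588 : Tr (List ℕ) := .node ndTree586 ndTree587

def ndTree589 : Tr (List ℕ) := .node ndTree584 ndTree588

def ndTree590 : Tr (List ℕ) := .node ndTree580 ndTree589

def ndTree591 : Tr (List ℕ) := .node ndTree571 ndTree590

def ndTree592 : Tr (List ℕ) := .node (.leaf nd30) (.leaf nd1054)

def ndTree593 : Tr (List ℕ) := .node ndTree592 (.leaf nd542)

def ndTree594 : Tr (List ℕ) := .node (.leaf nd286) (.leaf nd798)

def ndTree595 : Tr (List ℕ) := .node ndTree593 ndTree594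

def ndTree596 : Tr (List ℕ) := .node (.leaf nd158) (.leaf nd1182)

def ndTree597 : Tr (List ℕ) := .node ndTree596 (.leaf nd670)

def ndTree598 : Tr (List ℕ) := .node (.leaf nd414) (.leaf nd926)

def ndTree599 : Tr (List ℕ) := .node ndTree597 ndTree598

def ndTree600 : Tr (List ℕ) := .node ndTree595 ndTree599

def ndTree601 : Tr (List ℕ) := .node (.leaf nd94) (.leaf nd1118)

def ndTree602 : Tr (List ℕ) := .node ndTree601 (.leaf nd606)

def ndTree603 : Tr (List ℕ) := .node (.leaf nd350) (.leaf nd862)

def ndTree604 : Tr (List ℕ) := .node ndTree602 ndTree603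

def ndTree605 : Tr (List ℕ) := .node (.leaf nd222) (.leaf nd1246)

def ndTree606 : Tr (List ℕ) := .node ndTree605 (.leaf nd734)

def ndTree607 : Tr (List ℕ) := .node (.leaf nd478) (.leaf nd990)

def ndTree608 : Tr (List ℕ) := .node ndTree606 ndTree607

def ndTree609 : Tr (List ℕ) := .node ndTree604 ndTree608

def ndTree610 : Tr (List ℕ) := .node ndTree600 ndTree609

def ndTree611 : Tr (List ℕ) := .node (.leaf nd62) (.leaf nd1086)

def ndTree612 : Tr (List ℕ) := .node ndTree611 (.leaf nd574)

def ndTree613 : Tr (List ℕ) := .node (.leaf nd318) (.leaf nd830)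

def ndTree614 : Tr (List ℕ) := .node ndTree612 ndTree613

def ndTree615 : Tr (List ℕ) := .node (.leaf nd190) (.leaf nd1214)

def ndTree616 : Tr (List ℕ) := .node ndTree615 (.leaf nd702)

def ndTree617 : Tr (List ℕ) := .node (.leaf nd446) (.leaf nd958)

def ndTree618 : Tr (List ℕ) := .node ndTree616 ndTree617

def ndTree619 : Tr (List ℕ) := .node ndTree614 ndTree618

def ndTree620 : Tr (List ℕ) := .node (.leaf nd126) (.leaf nd1150)

def ndTree621 : Tr (List ℕ) := .node ndTree620 (.leaf nd638)

def ndTree622 : Tr (List ℕ) := .node (.leaf nd382) (.leaf nd894)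

def ndTree623 : Tr (List ℕ) := .node ndTree621 ndTree622

def ndTree624 : Tr (List ℕ) := .node (.leaf nd254) (.leaf nd766)

def ndTree625 : Tr (List ℕ) := .node (.leaf nd510) (.leaf nd1022)

def ndTree626 : Tr (List ℕ) := .node ndTree624 ndTree625

def ndTree627 : Tr (List ℕ) := .node ndTree623 ndTree626

def ndTree628 : Tr (List ℕ) := .node ndTree619 ndTree627

def ndTree629 : Tr (List ℕ) := .node ndTree610 ndTree628

def ndTree630 : Tr (List ℕ) := .node ndTree591 ndTree629

def ndTree631 : Tr (List ℕ) := .node ndTree552 ndTree630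

def ndTree632 : Tr (List ℕ) := .node ndTree474 ndTree631

def ndTree633 : Tr (List ℕ) := .node ndTree316 ndTree632

def ndTree634 : Tr (List ℕ) := .node (.leaf nd1) (.leaf nd1025)

def ndTree635 : Tr (List ℕ) := .node ndTree634 (.leaf nd513)

def ndTree636 : Tr (List ℕ) := .node (.leaf nd257) (.leaf nd769)

def ndTree637 : Tr (List ℕ) := .node ndTree635 ndTree636

def ndTree638 : Tr (List ℕ) := .node (.leaf nd129) (.leaf nd1153)

def ndTree639 : Tr (List ℕ) := .node ndTree638 (.leaf nd641)

def ndTree640 : Tr (List ℕ) := .node (.leaf nd385) (.leaf nd897)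

def ndTree641 : Tr (List ℕ) := .node ndTree639 ndTree640

def ndTree642 : Tr (List ℕ) := .node ndTree637 ndTree641

def ndTree643 : Tr (List ℕ) := .node (.leaf nd65) (.leaf nd1089)

def ndTree644 : Tr (List ℕ) := .node ndTree643 (.leaf nd577)

def ndTree645 : Tr (List ℕ) := .node (.leaf nd321) (.leaf nd833)

def ndTree646 : Tr (List ℕ) := .node ndTree644 ndTree645

def ndTree647 : Tr (List ℕ) := .node (.leaf nd193) (.leaf nd1217)

def ndTree648 : Tr (List ℕ) := .node ndTree647 (.leaf nd705)

def ndTree649 : Tr (List ℕ) := .node (.leaf nd449) (.leaf nd961)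

def ndTree650 : Tr (List ℕ) := .node ndTree648 ndTree649

def ndTree651 : Tr (List ℕ) := .node ndTree646 ndTree650

def ndTree652 : Tr (List ℕ) := .node ndTree642 ndTree651

def ndTree653 : Tr (List ℕ) := .node (.leaf nd33) (.leaf nd1057)

def ndTree654 : Tr (List ℕ) := .node ndTree653 (.leaf nd545)

def ndTree655 : Tr (List ℕ) := .node (.leaf nd289) (.leaf nd801)

def ndTree656 : Tr (List ℕ) := .node ndTree654 ndTree655

def ndTree657 : Tr (List ℕ) := .node (.leaf nd161) (.leaf nd1185)

def ndTree658 : Tr (List ℕ) := .node ndTree657 (.leaf nd673)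

def ndTree659 : Tr (List ℕ) := .node (.leaf nd417) (.leaf nd929)

def ndTree660 : Tr (List ℕ) := .node ndTree658 ndTree659

def ndTree661 : Tr (List ℕ) := .node ndTree656 ndTree660

def ndTree662 : Tr (List ℕ) := .node (.leaf nd97) (.leaf nd1121)

def ndTree663 : Tr (List ℕ) := .node ndTree662 (.leaf nd609)

def ndTree664 : Tr (List ℕ) := .node (.leaf nd353) (.leaf nd865)

def ndTree665 : Tr (List ℕ) := .node ndTree663 ndTree664

def ndTree666 : Tr (List ℕ) := .node (.leaf nd225) (.leaf nd1249)

def ndTree667 : Tr (List ℕ) := .node ndTree666 (.leaf nd737)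

def ndTree668 : Tr (List ℕ) := .node (.leaf nd481) (.leaf nd993)

def ndTree669 : Tr (List ℕ) := .node ndTree667 ndTree668

def ndTree670 : Tr (List ℕ) := .node ndTree665 ndTree669

def ndTree671 : Tr (List ℕ) := .node ndTree661 ndTree670

def ndTree672 : Tr (List ℕ) := .node ndTree652 ndTree671

def ndTree673 : Tr (List ℕ) := .node (.leaf nd17) (.leaf nd1041)

def ndTree674 : Tr (List ℕ) := .node ndTree673 (.leaf nd529)

def ndTree675 : Tr (List ℕ) := .node (.leaf nd273) (.leaf nd785)

def ndTree676 : Tr (List ℕ) := .node ndTree674 ndTree675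

def ndTree677 : Tr (List ℕ) := .node (.leaf nd145) (.leaf nd1169)

def ndTree678 : Tr (List ℕ) := .node ndTree677 (.leaf nd657)

def ndTree679 : Tr (List ℕ) := .node (.leaf nd401) (.leaf nd913)

def ndTree680 : Tr (List ℕ) := .node ndTree678 ndTree679

def ndTree681 : Tr (List ℕ) := .node ndTree676 ndTree680

def ndTree682 : Tr (List ℕ) := .node (.leaf nd81) (.leaf nd1105)

def ndTree683 : Tr (List ℕ) := .node ndTree682 (.leaf nd593)

def ndTree684 : Tr (List ℕ) := .node (.leaf nd337) (.leaf nd849)

def ndTree685 : Tr (List ℕ) := .node ndTree683 ndTree684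

def ndTree686 : Tr (List ℕ) := .node (.leaf nd209) (.leaf nd1233)

def ndTree687 : Tr (List ℕ) := .node ndTree686 (.leaf nd721)

def ndTree688 : Tr (List ℕ) := .node (.leaf nd465) (.leaf nd977)

def ndTree689 : Tr (List ℕ) := .node ndTree687 ndTree688

def ndTree690 : Tr (List ℕ) := .node ndTree685 ndTree689

def ndTree691 : Tr (List ℕ) := .node ndTree681 ndTree690

def ndTree692 : Tr (List ℕ) := .node (.leaf nd49) (.leaf nd1073)

def ndTree693 : Tr (List ℕ) := .node ndTree692 (.leaf nd561)

def ndTree694 : Tr (List ℕ) := .node (.leaf nd305) (.leaf nd817)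

def ndTree695 : Tr (List ℕ) := .node ndTree693 ndTree694

def ndTree696 : Tr (List ℕ) := .node (.leaf nd177) (.leaf nd1201)

def ndTree697 : Tr (List ℕ) := .node ndTree696 (.leaf nd689)

def ndTree698 : Tr (List ℕ) := .node (.leaf nd433) (.leaf nd945)

def ndTree699 : Tr (List ℕ) := .node ndTree697 ndTree698

def ndTree700 : Tr (List ℕ) := .node ndTree695 ndTree699

def ndTree701 : Tr (List ℕ) := .node (.leaf nd113) (.leaf nd1137)

def ndTree702 : Tr (List ℕ) := .node ndTree701 (.leaf nd625)

def ndTree703 : Tr (List ℕ) := .node (.leaf nd369) (.leaf nd881)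

def ndTree704 : Tr (List ℕ) := .node ndTree702 ndTree703

def ndTree705 : Tr (List ℕ) := .node (.leaf nd241) (.leaf nd1265)

def ndTree706 : Tr (List ℕ) := .node ndTree705 (.leaf nd753)

def ndTree707 : Tr (List ℕ) := .node (.leaf nd497) (.leaf nd1009)

def ndTree708 : Tr (List ℕ) := .node ndTree706 ndTree707

def ndTree709 : Tr (List ℕ) := .node ndTree704 ndTree708

def ndTree710 : Tr (List ℕ) := .node ndTree700 ndTree709

def ndTree711 : Tr (List ℕ) := .node ndTree691 ndTree710

def ndTree712 : Tr (List ℕ) := .node ndTree672 ndTree711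

def ndTree713 : Tr (List ℕ) := .node (.leaf nd9) (.leaf nd1033)

def ndTree714 : Tr (List ℕ) := .node ndTree713 (.leaf nd521)

def ndTree715 : Tr (List ℕ) := .node (.leaf nd265) (.leaf nd777)

def ndTree716 : Tr (List ℕ) := .node ndTree714 ndTree715

def ndTree717 : Tr (List ℕ) := .node (.leaf nd137) (.leaf nd1161)

def ndTree718 : Tr (List ℕ) := .node ndTree717 (.leaf nd649)

def ndTree719 : Tr (List ℕ) := .node (.leaf nd393) (.leaf nd905)

def ndTree720 : Tr (List ℕ) := .node ndTree718 ndTree719

def ndTree721 : Tr (List ℕ) := .node ndTree716 ndTree720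

def ndTree722 : Tr (List ℕ) := .node (.leaf nd73) (.leaf nd1097)

def ndTree723 : Tr (List ℕ) := .node ndTree722 (.leaf nd585)

def ndTree724 : Tr (List ℕ) := .node (.leaf nd329) (.leaf nd841)

def ndTree725 : Tr (List ℕ) := .node ndTree723 ndTree724

def ndTree726 : Tr (List ℕ) := .node (.leaf nd201) (.leaf nd1225)

def ndTree727 : Tr (List ℕ) := .node ndTree726 (.leaf nd713)

def ndTree728 : Tr (List ℕ) := .node (.leaf nd457) (.leaf nd969)

def ndTree729 : Tr (List ℕ) := .node ndTree727 ndTree728

def ndTree730 : Tr (List ℕ) := .node ndTree725 ndTree729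

def ndTree731 : Tr (List ℕ) := .node ndTree721 ndTree730

def ndTree732 : Tr (List ℕ) := .node (.leaf nd41) (.leaf nd1065)

def ndTree733 : Tr (List ℕ) := .node ndTree732 (.leaf nd553)

def ndTree734 : Tr (List ℕ) := .node (.leaf nd297) (.leaf nd809)

def ndTree735 : Tr (List ℕ) := .node ndTree733 ndTree734

def ndTree736 : Tr (List ℕ) := .node (.leaf nd169) (.leaf nd1193)

def ndTree737 : Tr (List ℕ) := .node ndTree736 (.leaf nd681)

def ndTree738 : Tr (List ℕ) := .node (.leaf nd425) (.leaf nd937)

def ndTree739 : Tr (List ℕ) := .node ndTree737 ndTree738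

def ndTree740 : Tr (List ℕ) := .node ndTree735 ndTree739

def ndTree741 : Tr (List ℕ) := .node (.leaf nd105) (.leaf nd1129)

def ndTree742 : Tr (List ℕ) := .node ndTree741 (.leaf nd617)

def ndTree743 : Tr (List ℕ) := .node (.leaf nd361) (.leaf nd873)

def ndTree744 : Tr (List ℕ) := .node ndTree742 ndTree743

def ndTree745 : Tr (List ℕ) := .node (.leaf nd233) (.leaf nd1257)

def ndTree746 : Tr (List ℕ) := .node ndTree745 (.leaf nd745)

def ndTree747 : Tr (List ℕ) := .node (.leaf nd489) (.leaf nd1001)

def ndTree748 : Tr (List ℕ) := .node ndTree746 ndTree747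

def ndTree749 : Tr (List ℕ) := .node ndTree744 ndTree748

def ndTree750 : Tr (List ℕ) := .node ndTree740 ndTree749

def ndTree751 : Tr (List ℕ) := .node ndTree731 ndTree750

def ndTree752 : Tr (List ℕ) := .node (.leaf nd25) (.leaf nd1049)

def ndTree753 : Tr (List ℕ) := .node ndTree752 (.leaf nd537)

def ndTree754 : Tr (List ℕ) := .node (.leaf nd281) (.leaf nd793)

def ndTree755 : Tr (List ℕ) := .node ndTree753 ndTree754

def ndTree756 : Tr (List ℕ) := .node (.leaf nd153) (.leaf nd1177)

def ndTree757 : Tr (List ℕ) := .node ndTree756 (.leaf nd665)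

def ndTree758 : Tr (List ℕ) := .node (.leaf nd409) (.leaf nd921)

def ndTree759 : Tr (List ℕ) := .node ndTree757 ndTree758

def ndTree760 : Tr (List ℕ) := .node ndTree755 ndTree759

def ndTree761 : Tr (List ℕ) := .node (.leaf nd89) (.leaf nd1113)

def ndTree762 : Tr (List ℕ) := .node ndTree761 (.leaf nd601)

def ndTree763 : Tr (List ℕ) := .node (.leaf nd345) (.leaf nd857)

def ndTree764 : Tr (List ℕ) := .node ndTree762 ndTree763

def ndTree765 : Tr (List ℕ) := .node (.leaf nd217) (.leaf nd1241)

def ndTree766 : Tr (List ℕ) := .node ndTree765 (.leaf nd729)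

def ndTree767 : Tr (List ℕ) := .node (.leaf nd473) (.leaf nd985)

def ndTree768 : Tr (List ℕ) := .node ndTree766 ndTree767

def ndTree769 : Tr (List ℕ) := .node ndTree764 ndTree768

def ndTree770 : Tr (List ℕ) := .node ndTree760 ndTree769

def ndTree771 : Tr (List ℕ) := .node (.leaf nd57) (.leaf nd1081)

def ndTree772 : Tr (List ℕ) := .node ndTree771 (.leaf nd569)

def ndTree773 : Tr (List ℕ) := .node (.leaf nd313) (.leaf nd825)

def ndTree774 : Tr (List ℕ) := .node ndTree772 ndTree773

def ndTree775 : Tr (List ℕ) := .node (.leaf nd185) (.leaf nd1209)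

def ndTree776 : Tr (List ℕ) := .node ndTree775 (.leaf nd697)

def ndTree777 : Tr (List ℕ) := .node (.leaf nd441) (.leaf nd953)

def ndTree778 : Tr (List ℕ) := .node ndTree776 ndTree777

def ndTree779 : Tr (List ℕ) := .node ndTree774 ndTree778

def ndTree780 : Tr (List ℕ) := .node (.leaf nd121) (.leaf nd1145)

def ndTree781 : Tr (List ℕ) := .node ndTree780 (.leaf nd633)

def ndTree782 : Tr (List ℕ) := .node (.leaf nd377) (.leaf nd889)

def ndTree783 : Tr (List ℕ) := .node ndTree781 ndTree782

def ndTree784 : Tr (List ℕ) := .node (.leaf nd249) (.leaf nd761)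

def ndTree785 : Tr (List ℕ) := .node (.leaf nd505) (.leaf nd1017)

def ndTree786 : Tr (List ℕ) := .node ndTree784 ndTree785

def ndTree787 : Tr (List ℕ) := .node ndTree783 ndTree786

def ndTree788 : Tr (List ℕ) := .node ndTree779 ndTree787

def ndTree789 : Tr (List ℕ) := .node ndTree770 ndTree788

def ndTree790 : Tr (List ℕ) := .node ndTree751 ndTree789

def ndTree791 : Tr (List ℕ) := .node ndTree712 ndTree790

def ndTree792 : Tr (List ℕ) := .node (.leaf nd5) (.leaf nd1029)

def ndTree793 : Tr (List ℕ) := .node ndTree792 (.leaf nd517)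

def ndTree794 : Tr (List ℕ) := .node (.leaf nd261) (.leaf nd773)

def ndTree795 : Tr (List ℕ) := .node ndTree793 ndTree794

def ndTree796 : Tr (List ℕ) := .node (.leaf nd133) (.leaf nd1157)

def ndTree797 : Tr (List ℕ) := .node ndTree796 (.leaf nd645)

def ndTree798 : Tr (List ℕ) := .node (.leaf nd389) (.leaf nd901)

def ndTree799 : Tr (List ℕ) := .node ndTree797 ndTree798

def ndTree800 : Tr (List ℕ) := .node ndTree795 ndTree799

def ndTree801 : Tr (List ℕ) := .node (.leaf nd69) (.leaf nd1093)

def ndTree802 : Tr (List ℕ) := .node ndTree801 (.leaf nd581)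

def ndTree803 : Tr (List ℕ) := .node (.leaf nd325) (.leaf nd837)

def ndTree804 : Tr (List ℕ) := .node ndTree802 ndTree803

def ndTree805 : Tr (List ℕ) := .node (.leaf nd197) (.leaf nd1221)

def ndTree806 : Tr (List ℕ) := .node ndTree805 (.leaf nd709)

def ndTree807 : Tr (List ℕ) := .node (.leaf nd453) (.leaf nd965)

def ndTree808 : Tr (List ℕ) := .node ndTree806 ndTree807

def ndTree809 : Tr (List ℕ) := .node ndTree804 ndTree808

def ndTree810 : Tr (List ℕ) := .node ndTree800 ndTree809

def ndTree811 : Tr (List ℕ) := .node (.leaf nd37) (.leaf nd1061)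

def ndTree812 : Tr (List ℕ) := .node ndTree811 (.leaf nd549)

def ndTree813 : Tr (List ℕ) := .node (.leaf nd293) (.leaf nd805)

def ndTree814 : Tr (List ℕ) := .node ndTree812 ndTree813

def ndTree815 : Tr (List ℕ) := .node (.leaf nd165) (.leaf nd1189)

def ndTree816 : Tr (List ℕ) := .node ndTree815 (.leaf nd677)

def ndTree817 : Tr (List ℕ) := .node (.leaf nd421) (.leaf nd933)

def ndTree818 : Tr (List ℕ) := .node ndTree816 ndTree817

def ndTree819 : Tr (List ℕ) := .node ndTree814 ndTree818

def ndTree820 : Tr (List ℕ) := .node (.leaf nd101) (.leaf nd1125)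

def ndTree821 : Tr (List ℕ) := .node ndTree820 (.leaf nd613)

def ndTree822 : Tr (List ℕ) := .node (.leaf nd357) (.leaf nd869)

def ndTree823 : Tr (List ℕ) := .node ndTree821 ndTree822

def ndTree824 : Tr (List ℕ) := .node (.leaf nd229) (.leaf nd1253)

def ndTree825 : Tr (List ℕ) := .node ndTree824 (.leaf nd741)

def ndTree826 : Tr (List ℕ) := .node (.leaf nd485) (.leaf nd997)

def ndTree827 : Tr (List ℕ) := .node ndTree825 ndTree826

def ndTree828 : Tr (List ℕ) := .node ndTree823 ndTree827

def ndTree829 : Tr (List ℕ) := .node ndTree819 ndTree828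

def ndTree830 : Tr (List ℕ) := .node ndTree810 ndTree829

def ndTree831 : Tr (List ℕ) := .node (.leaf nd21) (.leaf nd1045)

def ndTree832 : Tr (List ℕ) := .node ndTree831 (.leaf nd533)

def ndTree833 : Tr (List ℕ) := .node (.leaf nd277) (.leaf nd789)

def ndTree834 : Tr (List ℕ) := .node ndTree832 ndTree833

def ndTree835 : Tr (List ℕ) := .node (.leaf nd149) (.leaf nd1173)

def ndTree836 : Tr (List ℕ) := .node ndTree835 (.leaf nd661)

def ndTree837 : Tr (List ℕ) := .node (.leaf nd405) (.leaf nd917)

def ndTree838 : Tr (List ℕ) := .node ndTree836 ndTree837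

def ndTree839 : Tr (List ℕ) := .node ndTree834 ndTree838

def ndTree840 : Tr (List ℕ) := .node (.leaf nd85) (.leaf nd1109)

def ndTree841 : Tr (List ℕ) := .node ndTree840 (.leaf nd597)

def ndTree842 : Tr (List ℕ) := .node (.leaf nd341) (.leaf nd853)

def ndTree843 : Tr (List ℕ) := .node ndTree841 ndTree842

def ndTree844 : Tr (List ℕ) := .node (.leaf nd213) (.leaf nd1237)

def ndTree845 : Tr (List ℕ) := .node ndTree844 (.leaf nd725)

def ndTree846 : Tr (List ℕ) := .node (.leaf nd469) (.leaf nd981)

def ndTree847 : Tr (List ℕ) := .node ndTree845 ndTree846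

def ndTree848 : Tr (List ℕ) := .node ndTree843 ndTree847

def ndTree849 : Tr (List ℕ) := .node ndTree839 ndTree848

def ndTree850 : Tr (List ℕ) := .node (.leaf nd53) (.leaf nd1077)

def ndTree851 : Tr (List ℕ) := .node ndTree850 (.leaf nd565)

def ndTree852 : Tr (List ℕ) := .node (.leaf nd309) (.leaf nd821)

def ndTree853 : Tr (List ℕ) := .node ndTree851 ndTree852

def ndTree854 : Tr (List ℕ) := .node (.leaf nd181) (.leaf nd1205)

def ndTree855 : Tr (List ℕ) := .node ndTree854 (.leaf nd693)

def ndTree856 : Tr (List ℕ) := .node (.leaf nd437) (.leaf nd949)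

def ndTree857 : Tr (List ℕ) := .node ndTree855 ndTree856

def ndTree858 : Tr (List ℕ) := .node ndTree853 ndTree857

def ndTree859 : Tr (List ℕ) := .node (.leaf nd117) (.leaf nd1141)

def ndTree860 : Tr (List ℕ) := .node ndTree859 (.leaf nd629)

def ndTree861 : Tr (List ℕ) := .node (.leaf nd373) (.leaf nd885)

def ndTree862 : Tr (List ℕ) := .node ndTree860 ndTree861

def ndTree863 : Tr (List ℕ) := .node (.leaf nd245) (.leaf nd757)

def ndTree864 : Tr (List ℕ) := .node (.leaf nd501) (.leaf nd1013)

def ndTree865 : Tr (List ℕ) := .node ndTree863 ndTree864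

def ndTree866 : Tr (List ℕ) := .node ndTree862 ndTree865

def ndTree867 : Tr (List ℕ) := .node ndTree858 ndTree866

def ndTree868 : Tr (List ℕ) := .node ndTree849 ndTree867

def ndTree869 : Tr (List ℕ) := .node ndTree830 ndTree868

def ndTree870 : Tr (List ℕ) := .node (.leaf nd13) (.leaf nd1037)

def ndTree871 : Tr (List ℕ) := .node ndTree870 (.leaf nd525)

def ndTree872 : Tr (List ℕ) := .node (.leaf nd269) (.leaf nd781)

def ndTree873 : Tr (List ℕ) := .node ndTree871 ndTree872

def ndTree874 : Tr (List ℕ) := .node (.leaf nd141) (.leaf nd1165)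

def ndTree875 : Tr (List ℕ) := .node ndTree874 (.leaf nd653)

def ndTree876 : Tr (List ℕ) := .node (.leaf nd397) (.leaf nd909)

def ndTree877 : Tr (List ℕ) := .node ndTree875 ndTree876

def ndTree878 : Tr (List ℕ) := .node ndTree873 ndTree877

def ndTree879 : Tr (List ℕ) := .node (.leaf nd77) (.leaf nd1101)

def ndTree880 : Tr (List ℕ) := .node ndTree879 (.leaf nd589)

def ndTree881 : Tr (List ℕ) := .node (.leaf nd333) (.leaf nd845)

def ndTree882 : Tr (List ℕ) := .node ndTree880 ndTree881

def ndTree883 : Tr (List ℕ) := .node (.leaf nd205) (.leaf nd1229)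

def ndTree884 : Tr (List ℕ) := .node ndTree883 (.leaf nd717)

def ndTree885 : Tr (List ℕ) := .node (.leaf nd461) (.leaf nd973)

def ndTree886 : Tr (List ℕ) := .node ndTree884 ndTree885

def ndTree887 : Tr (List ℕ) := .node ndTree882 ndTree886

def ndTree888 : Tr (List ℕ) := .node ndTree878 ndTree887

def ndTree889 : Tr (List ℕ) := .node (.leaf nd45) (.leaf nd1069)

def ndTree890 : Tr (List ℕ) := .node ndTree889 (.leaf nd557)

def ndTree891 : Tr (List ℕ) := .node (.leaf nd301) (.leaf nd813)

def ndTree892 : Tr (List ℕ) := .node ndTree890 ndTree891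

def ndTree893 : Tr (List ℕ) := .node (.leaf nd173) (.leaf nd1197)

def ndTree894 : Tr (List ℕ) := .node ndTree893 (.leaf nd685)

def ndTree895 : Tr (List ℕ) := .node (.leaf nd429) (.leaf nd941)

def ndTree896 : Tr (List ℕ) := .node ndTree894 ndTree895

def ndTree897 : Tr (List ℕ) := .node ndTree892 ndTree896

def ndTree898 : Tr (List ℕ) := .node (.leaf nd109) (.leaf nd1133)

def ndTree899 : Tr (List ℕ) := .node ndTree898 (.leaf nd621)

def ndTree900 : Tr (List ℕ) := .node (.leaf nd365) (.leaf nd877)

def ndTree901 : Tr (List ℕ) := .node ndTree899 ndTree900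

def ndTree902 : Tr (List ℕ) := .node (.leaf nd237) (.leaf nd1261)

def ndTree903 : Tr (List ℕ) := .node ndTree902 (.leaf nd749)

def ndTree904 : Tr (List ℕ) := .node (.leaf nd493) (.leaf nd1005)

def ndTree905 : Tr (List ℕ) := .node ndTree903 ndTree904

def ndTree906 : Tr (List ℕ) := .node ndTree901 ndTree905

def ndTree907 : Tr (List ℕ) := .node ndTree897 ndTree906

def ndTree908 : Tr (List ℕ) := .node ndTree888 ndTree907

def ndTree909 : Tr (List ℕ) := .node (.leaf nd29) (.leaf nd1053)

def ndTree910 : Tr (List ℕ) := .node ndTree909 (.leaf nd541)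

def ndTree911 : Tr (List ℕ) := .node (.leaf nd285) (.leaf nd797)

def ndTree912 : Tr (List ℕ) := .node ndTree910 ndTree911

def ndTree913 : Tr (List ℕ) := .node (.leaf nd157) (.leaf nd1181)

def ndTree914 : Tr (List ℕ) := .node ndTree913 (.leaf nd669)

def ndTree915 : Tr (List ℕ) := .node (.leaf nd413) (.leaf nd925)

def ndTree916 : Tr (List ℕ) := .node ndTree914 ndTree915

def ndTree917 : Tr (List ℕ) := .node ndTree912 ndTree916

def ndTree918 : Tr (List ℕ) := .node (.leaf nd93) (.leaf nd1117)

def ndTree919 : Tr (List ℕ) := .node ndTree918 (.leaf nd605)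

def ndTree920 : Tr (List ℕ) := .node (.leaf nd349) (.leaf nd861)

def ndTree921 : Tr (List ℕ) := .node ndTree919 ndTree920

def ndTree922 : Tr (List ℕ) := .node (.leaf nd221) (.leaf nd1245)

def ndTree923 : Tr (List ℕ) := .node ndTree922 (.leaf nd733)

def ndTree924 : Tr (List ℕ) := .node (.leaf nd477) (.leaf nd989)

def ndTree925 : Tr (List ℕ) := .node ndTree923 ndTree924

def ndTree926 : Tr (List ℕ) := .node ndTree921 ndTree925

def ndTree927 : Tr (List ℕ) := .node ndTree917 ndTree926

def ndTree928 : Tr (List ℕ) := .node (.leaf nd61) (.leaf nd1085)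

def ndTree929 : Tr (List ℕ) := .node ndTree928 (.leaf nd573)

def ndTree930 : Tr (List ℕ) := .node (.leaf nd317) (.leaf nd829)

def ndTree931 : Tr (List ℕ) := .node ndTree929 ndTree930

def ndTree932 : Tr (List ℕ) := .node (.leaf nd189) (.leaf nd1213)

def ndTree933 : Tr (List ℕ) := .node ndTree932 (.leaf nd701)

def ndTree934 : Tr (List ℕ) := .node (.leaf nd445) (.leaf nd957)

def ndTree935 : Tr (List ℕ) := .node ndTree933 ndTree934

def ndTree936 : Tr (List ℕ) := .node ndTree931 ndTree935

def ndTree937 : Tr (List ℕ) := .node (.leaf nd125) (.leaf nd1149)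

def ndTree938 : Tr (List ℕ) := .node ndTree937 (.leaf nd637)

def ndTree939 : Tr (List ℕ) := .node (.leaf nd381) (.leaf nd893)

def ndTree940 : Tr (List ℕ) := .node ndTree938 ndTree939

def ndTree941 : Tr (List ℕ) := .node (.leaf nd253) (.leaf nd765)

def ndTree942 : Tr (List ℕ) := .node (.leaf nd509) (.leaf nd1021)

def ndTree943 : Tr (List ℕ) := .node ndTree941 ndTree942

def ndTree944 : Tr (List ℕ) := .node ndTree940 ndTree943

def ndTree945 : Tr (List ℕ) := .node ndTree936 ndTree944

def ndTree946 : Tr (List ℕ) := .node ndTree927 ndTree945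

def ndTree947 : Tr (List ℕ) := .node ndTree908 ndTree946

def ndTree948 : Tr (List ℕ) := .node ndTree869 ndTree947

def ndTree949 : Tr (List ℕ) := .node ndTree791 ndTree948

def ndTree950 : Tr (List ℕ) := .node (.leaf nd3) (.leaf nd1027)

def ndTree951 : Tr (List ℕ) := .node ndTree950 (.leaf nd515)

def ndTree952 : Tr (List ℕ) := .node (.leaf nd259) (.leaf nd771)

def ndTree953 : Tr (List ℕ) := .node ndTree951 ndTree952

def ndTree954 : Tr (List ℕ) := .node (.leaf nd131) (.leaf nd1155)

def ndTree955 : Tr (List ℕ) := .node ndTree954 (.leaf nd643)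

def ndTree956 : Tr (List ℕ) := .node (.leaf nd387) (.leaf nd899)

def ndTree957 : Tr (List ℕ) := .node ndTree955 ndTree956

def ndTree958 : Tr (List ℕ) := .node ndTree953 ndTree957

def ndTree959 : Tr (List ℕ) := .node (.leaf nd67) (.leaf nd1091)

def ndTree960 : Tr (List ℕ) := .node ndTree959 (.leaf nd579)

def ndTree961 : Tr (List ℕ) := .node (.leaf nd323) (.leaf nd835)

def ndTree962 : Tr (List ℕ) := .node ndTree960 ndTree961

def ndTree963 : Tr (List ℕ) := .node (.leaf nd195) (.leaf nd1219)

def ndTree964 : Tr (List ℕ) := .node ndTree963 (.leaf nd707)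

def ndTree965 : Tr (List ℕ) := .node (.leaf nd451) (.leaf nd963)

def ndTree966 : Tr (List ℕ) := .node ndTree964 ndTree965

def ndTree967 : Tr (List ℕ) := .node ndTree962 ndTree966

def ndTree968 : Tr (List ℕ) := .node ndTree958 ndTree967

def ndTree969 : Tr (List ℕ) := .node (.leaf nd35) (.leaf nd1059)

def ndTree970 : Tr (List ℕ) := .node ndTree969 (.leaf nd547)

def ndTree971 : Tr (List ℕ) := .node (.leaf nd291) (.leaf nd803)

def ndTree972 : Tr (List ℕ) := .node ndTree970 ndTree971

def ndTree973 : Tr (List ℕ) := .node (.leaf nd163) (.leaf nd1187)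

def ndTree974 : Tr (List ℕ) := .node ndTree973 (.leaf nd675)

def ndTree975 : Tr (List ℕ) := .node (.leaf nd419) (.leaf nd931)

def ndTree976 : Tr (List ℕ) := .node ndTree974 ndTree975

def ndTree977 : Tr (List ℕ) := .node ndTree972 ndTree976

def ndTree978 : Tr (List ℕ) := .node (.leaf nd99) (.leaf nd1123)

def ndTree979 : Tr (List ℕ) := .node ndTree978 (.leaf nd611)

def ndTree980 : Tr (List ℕ) := .node (.leaf nd355) (.leaf nd867)

def ndTree981 : Tr (List ℕ) := .node ndTree979 ndTree980

def ndTree982 : Tr (List ℕ) := .node (.leaf nd227) (.leaf nd1251)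

def ndTree983 : Tr (List ℕ) := .node ndTree982 (.leaf nd739)

def ndTree984 : Tr (List ℕ) := .node (.leaf nd483) (.leaf nd995)

def ndTree985 : Tr (List ℕ) := .node ndTree983 ndTree984

def ndTree986 : Tr (List ℕ) := .node ndTree981 ndTree985

def ndTree987 : Tr (List ℕ) := .node ndTree977 ndTree986

def ndTree988 : Tr (List ℕ) := .node ndTree968 ndTree987

def ndTree989 : Tr (List ℕ) := .node (.leaf nd19) (.leaf nd1043)

def ndTree990 : Tr (List ℕ) := .node ndTree989 (.leaf nd531)

def ndTree991 : Tr (List ℕ) := .node (.leaf nd275) (.leaf nd787)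

def ndTree992 : Tr (List ℕ) := .node ndTree990 ndTree991

def ndTree993 : Tr (List ℕ) := .node (.leaf nd147) (.leaf nd1171)

def ndTree994 : Tr (List ℕ) := .node ndTree993 (.leaf nd659)

def ndTree995 : Tr (List ℕ) := .node (.leaf nd403) (.leaf nd915)

def ndTree996 : Tr (List ℕ) := .node ndTree994 ndTree995

def ndTree997 : Tr (List ℕ) := .node ndTree992 ndTree996

def ndTree998 : Tr (List ℕ) := .node (.leaf nd83) (.leaf nd1107)

def ndTree999 : Tr (List ℕ) := .node ndTree998 (.leaf nd595)

def ndTree1000 : Tr (List ℕ) := .node (.leaf nd339) (.leaf nd851)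

def ndTree1001 : Tr (List ℕ) := .node ndTree999 ndTree1000

def ndTree1002 : Tr (List ℕ) := .node (.leaf nd211) (.leaf nd1235)

def ndTree1003 : Tr (List ℕ) := .node ndTree1002 (.leaf nd723)

def ndTree1004 : Tr (List ℕ) := .node (.leaf nd467) (.leaf nd979)

def ndTree1005 : Tr (List ℕ) := .node ndTree1003 ndTree1004

def ndTree1006 : Tr (List ℕ) := .node ndTree1001 ndTree1005

def ndTree1007 : Tr (List ℕ) := .node ndTree997 ndTree1006

def ndTree1008 : Tr (List ℕ) := .node (.leaf nd51) (.leaf nd1075)

def ndTree1009 : Tr (List ℕ) := .node ndTree1008 (.leaf nd563)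

def ndTree1010 : Tr (List ℕ) := .node (.leaf nd307) (.leaf nd819)

def ndTree1011 : Tr (List ℕ) := .node ndTree1009 ndTree1010

def ndTree1012 : Tr (List ℕ) := .node (.leaf nd179) (.leaf nd1203)

def ndTree1013 : Tr (List ℕ) := .node ndTree1012 (.leaf nd691)

def ndTree1014 : Tr (List ℕ) := .node (.leaf nd435) (.leaf nd947)

def ndTree1015 : Tr (List ℕ) := .node ndTree1013 ndTree1014

def ndTree1016 : Tr (List ℕ) := .node ndTree1011 ndTree1015

def ndTree1017 : Tr (List ℕ) := .node (.leaf nd115) (.leaf nd1139)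

def ndTree1018 : Tr (List ℕ) := .node ndTree1017 (.leaf nd627)

def ndTree1019 : Tr (List ℕ) := .node (.leaf nd371) (.leaf nd883)

def ndTree1020 : Tr (List ℕ) := .node ndTree1018 ndTree1019

def ndTree1021 : Tr (List ℕ) := .node (.leaf nd243) (.leaf nd1267)

def ndTree1022 : Tr (List ℕ) := .node ndTree1021 (.leaf nd755)

def ndTree1023 : Tr (List ℕ) := .node (.leaf nd499) (.leaf nd1011)

def ndTree1024 : Tr (List ℕ) := .node ndTree1022 ndTree1023

def ndTree1025 : Tr (List ℕ) := .node ndTree1020 ndTree1024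

def ndTree1026 : Tr (List ℕ) := .node ndTree1016 ndTree1025

def ndTree1027 : Tr (List ℕ) := .node ndTree1007 ndTree1026

def ndTree1028 : Tr (List ℕ) := .node ndTree988 ndTree1027

def ndTree1029 : Tr (List ℕ) := .node (.leaf nd11) (.leaf nd1035)

def ndTree1030 : Tr (List ℕ) := .node ndTree1029 (.leaf nd523)

def ndTree1031 : Tr (List ℕ) := .node (.leaf nd267) (.leaf nd779)

def ndTree1032 : Tr (List ℕ) := .node ndTree1030 ndTree1031

def ndTree1033 : Tr (List ℕ) := .node (.leaf nd139) (.leaf nd1163)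

def ndTree1034 : Tr (List ℕ) := .node ndTree1033 (.leaf nd651)

def ndTree1035 : Tr (List ℕ) := .node (.leaf nd395) (.leaf nd907)

def ndTree1036 : Tr (List ℕ) := .node ndTree1034 ndTree1035

def ndTree1037 : Tr (List ℕ) := .node ndTree1032 ndTree1036

def ndTree1038 : Tr (List ℕ) := .node (.leaf nd75) (.leaf nd1099)

def ndTree1039 : Tr (List ℕ) := .node ndTree1038 (.leaf nd587)

def ndTree1040 : Tr (List ℕ) := .node (.leaf nd331) (.leaf nd843)

def ndTree1041 : Tr (List ℕ) := .node ndTree1039 ndTree1040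

def ndTree1042 : Tr (List ℕ) := .node (.leaf nd203) (.leaf nd1227)

def ndTree1043 : Tr (List ℕ) := .node ndTree1042 (.leaf nd715)

def ndTree1044 : Tr (List ℕ) := .node (.leaf nd459) (.leaf nd971)

def ndTree1045 : Tr (List ℕ) := .node ndTree1043 ndTree1044

def ndTree1046 : Tr (List ℕ) := .node ndTree1041 ndTree1045

def ndTree1047 : Tr (List ℕ) := .node ndTree1037 ndTree1046

def ndTree1048 : Tr (List ℕ) := .node (.leaf nd43) (.leaf nd1067)

def ndTree1049 : Tr (List ℕ) := .node ndTree1048 (.leaf nd555)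

def ndTree1050 : Tr (List ℕ) := .node (.leaf nd299) (.leaf nd811)

def ndTree1051 : Tr (List ℕ) := .node ndTree1049 ndTree1050

def ndTree1052 : Tr (List ℕ) := .node (.leaf nd171) (.leaf nd1195)

def ndTree1053 : Tr (List ℕ) := .node ndTree1052 (.leaf nd683)

def ndTree1054 : Tr (List ℕ) := .node (.leaf nd427) (.leaf nd939)

def ndTree1055 : Tr (List ℕ) := .node ndTree1053 ndTree1054

def ndTree1056 : Tr (List ℕ) := .node ndTree1051 ndTree1055

def ndTree1057 : Tr (List ℕ) := .node (.leaf nd107) (.leaf nd1131)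

def ndTree1058 : Tr (List ℕ) := .node ndTree1057 (.leaf nd619)

def ndTree1059 : Tr (List ℕ) := .node (.leaf nd363) (.leaf nd875)

def ndTree1060 : Tr (List ℕ) := .node ndTree1058 ndTree1059

def ndTree1061 : Tr (List ℕ) := .node (.leaf nd235) (.leaf nd1259)

def ndTree1062 : Tr (List ℕ) := .node ndTree1061 (.leaf nd747)

def ndTree1063 : Tr (List ℕ) := .node (.leaf nd491) (.leaf nd1003)

def ndTree1064 : Tr (List ℕ) := .node ndTree1062 ndTree1063

def ndTree1065 : Tr (List ℕ) := .node ndTree1060 ndTree1064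

def ndTree1066 : Tr (List ℕ) := .node ndTree1056 ndTree1065

def ndTree1067 : Tr (List ℕ) := .node ndTree1047 ndTree1066

def ndTree1068 : Tr (List ℕ) := .node (.leaf nd27) (.leaf nd1051)

def ndTree1069 : Tr (List ℕ) := .node ndTree1068 (.leaf nd539)

def ndTree1070 : Tr (List ℕ) := .node (.leaf nd283) (.leaf nd795)

def ndTree1071 : Tr (List ℕ) := .node ndTree1069 ndTree1070

def ndTree1072 : Tr (List ℕ) := .node (.leaf nd155) (.leaf nd1179)

def ndTree1073 : Tr (List ℕ) := .node ndTree1072 (.leaf nd667)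

def ndTree1074 : Tr (List ℕ) := .node (.leaf nd411) (.leaf nd923)

def ndTree1075 : Tr (List ℕ) := .node ndTree1073 ndTree1074

def ndTree1076 : Tr (List ℕ) := .node ndTree1071 ndTree1075

def ndTree1077 : Tr (List ℕ) := .node (.leaf nd91) (.leaf nd1115)

def ndTree1078 : Tr (List ℕ) := .node ndTree1077 (.leaf nd603)

def ndTree1079 : Tr (List ℕ) := .node (.leaf nd347) (.leaf nd859)

def ndTree1080 : Tr (List ℕ) := .node ndTree1078 ndTree1079

def ndTree1081 : Tr (List ℕ) := .node (.leaf nd219) (.leaf nd1243)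

def ndTree1082 : Tr (List ℕ) := .node ndTree1081 (.leaf nd731)

def ndTree1083 : Tr (List ℕ) := .node (.leaf nd475) (.leaf nd987)

def ndTree1084 : Tr (List ℕ) := .node ndTree1082 ndTree1083

def ndTree1085 : Tr (List ℕ) := .node ndTree1080 ndTree1084

def ndTree1086 : Tr (List ℕ) := .node ndTree1076 ndTree1085

def ndTree1087 : Tr (List ℕ) := .node (.leaf nd59) (.leaf nd1083)

def ndTree1088 : Tr (List ℕ) := .node ndTree1087 (.leaf nd571)

def ndTree1089 : Tr (List ℕ) := .node (.leaf nd315) (.leaf nd827)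

def ndTree1090 : Tr (List ℕ) := .node ndTree1088 ndTree1089

def ndTree1091 : Tr (List ℕ) := .node (.leaf nd187) (.leaf nd1211)

def ndTree1092 : Tr (List ℕ) := .node ndTree1091 (.leaf nd699)

def ndTree1093 : Tr (List ℕ) := .node (.leaf nd443) (.leaf nd955)

def ndTree1094 : Tr (List ℕ) := .node ndTree1092 ndTree1093

def ndTree1095 : Tr (List ℕ) := .node ndTree1090 ndTree1094

def ndTree1096 : Tr (List ℕ) := .node (.leaf nd123) (.leaf nd1147)

def ndTree1097 : Tr (List ℕ) := .node ndTree1096 (.leaf nd635)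

def ndTree1098 : Tr (List ℕ) := .node (.leaf nd379) (.leaf nd891)

def ndTree1099 : Tr (List ℕ) := .node ndTree1097 ndTree1098

def ndTree1100 : Tr (List ℕ) := .node (.leaf nd251) (.leaf nd763)

def ndTree1101 : Tr (List ℕ) := .node (.leaf nd507) (.leaf nd1019)

def ndTree1102 : Tr (List ℕ) := .node ndTree1100 ndTree1101

def ndTree1103 : Tr (List ℕ) := .node ndTree1099 ndTree1102

def ndTree1104 : Tr (List ℕ) := .node ndTree1095 ndTree1103

def ndTree1105 : Tr (List ℕ) := .node ndTree1086 ndTree1104

def ndTree1106 : Tr (List ℕ) := .node ndTree1067 ndTree1105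

def ndTree1107 : Tr (List ℕ) := .node ndTree1028 ndTree1106

def ndTree1108 : Tr (List ℕ) := .node (.leaf nd7) (.leaf nd1031)

def ndTree1109 : Tr (List ℕ) := .node ndTree1108 (.leaf nd519)

def ndTree1110 : Tr (List ℕ) := .node (.leaf nd263) (.leaf nd775)

def ndTree1111 : Tr (List ℕ) := .node ndTree1109 ndTree1110

def ndTree1112 : Tr (List ℕ) := .node (.leaf nd135) (.leaf nd1159)

def ndTree1113 : Tr (List ℕ) := .node ndTree1112 (.leaf nd647)

def ndTree1114 : Tr (List ℕ) := .node (.leaf nd391) (.leaf nd903)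

def ndTree1115 : Tr (List ℕ) := .node ndTree1113 ndTree1114

def ndTree1116 : Tr (List ℕ) := .node ndTree1111 ndTree1115

def ndTree1117 : Tr (List ℕ) := .node (.leaf nd71) (.leaf nd1095)

def ndTree1118 : Tr (List ℕ) := .node ndTree1117 (.leaf nd583)

def ndTree1119 : Tr (List ℕ) := .node (.leaf nd327) (.leaf nd839)

def ndTree1120 : Tr (List ℕ) := .node ndTree1118 ndTree1119

def ndTree1121 : Tr (List ℕ) := .node (.leaf nd199) (.leaf nd1223)

def ndTree1122 : Tr (List ℕ) := .node ndTree1121 (.leaf nd711)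

def ndTree1123 : Tr (List ℕ) := .node (.leaf nd455) (.leaf nd967)

def ndTree1124 : Tr (List ℕ) := .node ndTree1122 ndTree1123

def ndTree1125 : Tr (List ℕ) := .node ndTree1120 ndTree1124

def ndTree1126 : Tr (List ℕ) := .node ndTree1116 ndTree1125

def ndTree1127 : Tr (List ℕ) := .node (.leaf nd39) (.leaf nd1063)

def ndTree1128 : Tr (List ℕ) := .node ndTree1127 (.leaf nd551)

def ndTree1129 : Tr (List ℕ) := .node (.leaf nd295) (.leaf nd807)

def ndTree1130 : Tr (List ℕ) := .node ndTree1128 ndTree1129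

def ndTree1131 : Tr (List ℕ) := .node (.leaf nd167) (.leaf nd1191)

def ndTree1132 : Tr (List ℕ) := .node ndTree1131 (.leaf nd679)

def ndTree1133 : Tr (List ℕ) := .node (.leaf nd423) (.leaf nd935)

def ndTree1134 : Tr (List ℕ) := .node ndTree1132 ndTree1133

def ndTree1135 : Tr (List ℕ) := .node ndTree1130 ndTree1134

def ndTree1136 : Tr (List ℕ) := .node (.leaf nd103) (.leaf nd1127)

def ndTree1137 : Tr (List ℕ) := .node ndTree1136 (.leaf nd615)

def ndTree1138 : Tr (List ℕ) := .node (.leaf nd359) (.leaf nd871)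

def ndTree1139 : Tr (List ℕ) := .node ndTree1137 ndTree1138

def ndTree1140 : Tr (List ℕ) := .node (.leaf nd231) (.leaf nd1255)

def ndTree1141 : Tr (List ℕ) := .node ndTree1140 (.leaf nd743)

def ndTree1142 : Tr (List ℕ) := .node (.leaf nd487) (.leaf nd999)

def ndTree1143 : Tr (List ℕ) := .node ndTree1141 ndTree1142

def ndTree1144 : Tr (List ℕ) := .node ndTree1139 ndTree1143

def ndTree1145 : Tr (List ℕ) := .node ndTree1135 ndTree1144

def ndTree1146 : Tr (List ℕ) := .node ndTree1126 ndTree1145

def ndTree1147 : Tr (List ℕ) := .node (.leaf nd23) (.leaf nd1047)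

def ndTree1148 : Tr (List ℕ) := .node ndTree1147 (.leaf nd535)

def ndTree1149 : Tr (List ℕ) := .node (.leaf nd279) (.leaf nd791)

def ndTree1150 : Tr (List ℕ) := .node ndTree1148 ndTree1149

def ndTree1151 : Tr (List ℕ) := .node (.leaf nd151) (.leaf nd1175)

def ndTree1152 : Tr (List ℕ) := .node ndTree1151 (.leaf nd663)

def ndTree1153 : Tr (List ℕ) := .node (.leaf nd407) (.leaf nd919)

def ndTree1154 : Tr (List ℕ) := .node ndTree1152 ndTree1153

def ndTree1155 : Tr (List ℕ) := .node ndTree1150 ndTree1154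

def ndTree1156 : Tr (List ℕ) := .node (.leaf nd87) (.leaf nd1111)

def ndTree1157 : Tr (List ℕ) := .node ndTree1156 (.leaf nd599)

def ndTree1158 : Tr (List ℕ) := .node (.leaf nd343) (.leaf nd855)

def ndTree1159 : Tr (List ℕ) := .node ndTree1157 ndTree1158

def ndTree1160 : Tr (List ℕ) := .node (.leaf nd215) (.leaf nd1239)

def ndTree1161 : Tr (List ℕ) := .node ndTree1160 (.leaf nd727)

def ndTree1162 : Tr (List ℕ) := .node (.leaf nd471) (.leaf nd983)

def ndTree1163 : Tr (List ℕ) := .node ndTree1161 ndTree1162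

def ndTree1164 : Tr (List ℕ) := .node ndTree1159 ndTree1163

def ndTree1165 : Tr (List ℕ) := .node ndTree1155 ndTree1164

def ndTree1166 : Tr (List ℕ) := .node (.leaf nd55) (.leaf nd1079)

def ndTree1167 : Tr (List ℕ) := .node ndTree1166 (.leaf nd567)

def ndTree1168 : Tr (List ℕ) := .node (.leaf nd311) (.leaf nd823)

def ndTree1169 : Tr (List ℕ) := .node ndTree1167 ndTree1168

def ndTree1170 : Tr (List ℕ) := .node (.leaf nd183) (.leaf nd1207)

def ndTree1171 : Tr (List ℕ) := .node ndTree1170 (.leaf nd695)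

def ndTree1172 : Tr (List ℕ) := .node (.leaf nd439) (.leaf nd951)

def ndTree1173 : Tr (List ℕ) := .node ndTree1171 ndTree1172

def ndTree1174 : Tr (List ℕ) := .node ndTree1169 ndTree1173

def ndTree1175 : Tr (List ℕ) := .node (.leaf nd119) (.leaf nd1143)

def ndTree1176 : Tr (List ℕ) := .node ndTree1175 (.leaf nd631)

def ndTree1177 : Tr (List ℕ) := .node (.leaf nd375) (.leaf nd887)

def ndTree1178 : Tr (List ℕ) := .node ndTree1176 ndTree1177

def ndTree1179 : Tr (List ℕ) := .node (.leaf nd247) (.leaf nd759)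

def ndTree1180 : Tr (List ℕ) := .node (.leaf nd503) (.leaf nd1015)

def ndTree1181 : Tr (List ℕ) := .node ndTree1179 ndTree1180

def ndTree1182 : Tr (List ℕ) := .node ndTree1178 ndTree1181

def ndTree1183 : Tr (List ℕ) := .node ndTree1174 ndTree1182

def ndTree1184 : Tr (List ℕ) := .node ndTree1165 ndTree1183

def ndTree1185 : Tr (List ℕ) := .node ndTree1146 ndTree1184

def ndTree1186 : Tr (List ℕ) := .node (.leaf nd15) (.leaf nd1039)

def ndTree1187 : Tr (List ℕ) := .node ndTree1186 (.leaf nd527)

def ndTree1188 : Tr (List ℕ) := .node (.leaf nd271) (.leaf nd783)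

def ndTree1189 : Tr (List ℕ) := .node ndTree1187 ndTree1188

def ndTree1190 : Tr (List ℕ) := .node (.leaf nd143) (.leaf nd1167)

def ndTree1191 : Tr (List ℕ) := .node ndTree1190 (.leaf nd655)

def ndTree1192 : Tr (List ℕ) := .node (.leaf nd399) (.leaf nd911)

def ndTree1193 : Tr (List ℕ) := .node ndTree1191 ndTree1192

def ndTree1194 : Tr (List ℕ) := .node ndTree1189 ndTree1193

def ndTree1195 : Tr (List ℕ) := .node (.leaf nd79) (.leaf nd1103)

def ndTree1196 : Tr (List ℕ) := .node ndTree1195 (.leaf nd591)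

def ndTree1197 : Tr (List ℕ) := .node (.leaf nd335) (.leaf nd847)

def ndTree1198 : Tr (List ℕ) := .node ndTree1196 ndTree1197

def ndTree1199 : Tr (List ℕ) := .node (.leaf nd207) (.leaf nd1231)

def ndTree1200 : Tr (List ℕ) := .node ndTree1199 (.leaf nd719)

def ndTree1201 : Tr (List ℕ) := .node (.leaf nd463) (.leaf nd975)

def ndTree1202 : Tr (List ℕ) := .node ndTree1200 ndTree1201

def ndTree1203 : Tr (List ℕ) := .node ndTree1198 ndTree1202

def ndTree1204 : Tr (List ℕ) := .node ndTree1194 ndTree1203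

def ndTree1205 : Tr (List ℕ) := .node (.leaf nd47) (.leaf nd1071)

def ndTree1206 : Tr (List ℕ) := .node ndTree1205 (.leaf nd559)

def ndTree1207 : Tr (List ℕ) := .node (.leaf nd303) (.leaf nd815)

def ndTree1208 : Tr (List ℕ) := .node ndTree1206 ndTree1207

def ndTree1209 : Tr (List ℕ) := .node (.leaf nd175) (.leaf nd1199)

def ndTree1210 : Tr (List ℕ) := .node ndTree1209 (.leaf nd687)

def ndTree1211 : Tr (List ℕ) := .node (.leaf nd431) (.leaf nd943)

def ndTree1212 : Tr (List ℕ) := .node ndTree1210 ndTree1211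

def ndTree1213 : Tr (List ℕ) := .node ndTree1208 ndTree1212

def ndTree1214 : Tr (List ℕ) := .node (.leaf nd111) (.leaf nd1135)

def ndTree1215 : Tr (List ℕ) := .node ndTree1214 (.leaf nd623)

def ndTree1216 : Tr (List ℕ) := .node (.leaf nd367) (.leaf nd879)

def ndTree1217 : Tr (List ℕ) := .node ndTree1215 ndTree1216

def ndTree1218 : Tr (List ℕ) := .node (.leaf nd239) (.leaf nd1263)

def ndTree1219 : Tr (List ℕ) := .node ndTree1218 (.leaf nd751)

def ndTree1220 : Tr (List ℕ) := .node (.leaf nd495) (.leaf nd1007)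

def ndTree1221 : Tr (List ℕ) := .node ndTree1219 ndTree1220

def ndTree1222 : Tr (List ℕ) := .node ndTree1217 ndTree1221

def ndTree1223 : Tr (List ℕ) := .node ndTree1213 ndTree1222

def ndTree1224 : Tr (List ℕ) := .node ndTree1204 ndTree1223

def ndTree1225 : Tr (List ℕ) := .node (.leaf nd31) (.leaf nd1055)

def ndTree1226 : Tr (List ℕ) := .node ndTree1225 (.leaf nd543)

def ndTree1227 : Tr (List ℕ) := .node (.leaf nd287) (.leaf nd799)

def ndTree1228 : Tr (List ℕ) := .node ndTree1226 ndTree1227

def ndTree1229 : Tr (List ℕ) := .node (.leaf nd159) (.leaf nd1183)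

def ndTree1230 : Tr (List ℕ) := .node ndTree1229 (.leaf nd671)

def ndTree1231 : Tr (List ℕ) := .node (.leaf nd415) (.leaf nd927)

def ndTree1232 : Tr (List ℕ) := .node ndTree1230 ndTree1231

def ndTree1233 : Tr (List ℕ) := .node ndTree1228 ndTree1232

def ndTree1234 : Tr (List ℕ) := .node (.leaf nd95) (.leaf nd1119)

def ndTree1235 : Tr (List ℕ) := .node ndTree1234 (.leaf nd607)

def ndTree1236 : Tr (List ℕ) := .node (.leaf nd351) (.leaf nd863)

def ndTree1237 : Tr (List ℕ) := .node ndTree1235 ndTree1236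

def ndTree1238 : Tr (List ℕ) := .node (.leaf nd223) (.leaf nd1247)

def ndTree1239 : Tr (List ℕ) := .node ndTree1238 (.leaf nd735)

def ndTree1240 : Tr (List ℕ) := .node (.leaf nd479) (.leaf nd991)

def ndTree1241 : Tr (List ℕ) := .node ndTree1239 ndTree1240

def ndTree1242 : Tr (List ℕ) := .node ndTree1237 ndTree1241

def ndTree1243 : Tr (List ℕ) := .node ndTree1233 ndTree1242

def ndTree1244 : Tr (List ℕ) := .node (.leaf nd63) (.leaf nd1087)

def ndTree1245 : Tr (List ℕ) := .node ndTree1244 (.leaf nd575)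

def ndTree1246 : Tr (List ℕ) := .node (.leaf nd319) (.leaf nd831)

def ndTree1247 : Tr (List ℕ) := .node ndTree1245 ndTree1246

def ndTree1248 : Tr (List ℕ) := .node (.leaf nd191) (.leaf nd1215)

def ndTree1249 : Tr (List ℕ) := .node ndTree1248 (.leaf nd703)

def ndTree1250 : Tr (List ℕ) := .node (.leaf nd447) (.leaf nd959)

def ndTree1251 : Tr (List ℕ) := .node ndTree1249 ndTree1250

def ndTree1252 : Tr (List ℕ) := .node ndTree1247 ndTree1251

def ndTree1253 : Tr (List ℕ) := .node (.leaf nd127) (.leaf nd1151)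

def ndTree1254 : Tr (List ℕ) := .node ndTree1253 (.leaf nd639)

def ndTree1255 : Tr (List ℕ) := .node (.leaf nd383) (.leaf nd895)

def ndTree1256 : Tr (List ℕ) := .node ndTree1254 ndTree1255

def ndTree1257 : Tr (List ℕ) := .node (.leaf nd255) (.leaf nd767)

def ndTree1258 : Tr (List ℕ) := .node (.leaf nd511) (.leaf nd1023)

def ndTree1259 : Tr (List ℕ) := .node ndTree1257 ndTree1258

def ndTree1260 : Tr (List ℕ) := .node ndTree1256 ndTree1259

def ndTree1261 : Tr (List ℕ) := .node ndTree1252 ndTree1260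

def ndTree1262 : Tr (List ℕ) := .node ndTree1243 ndTree1261

def ndTree1263 : Tr (List ℕ) := .node ndTree1224 ndTree1262

def ndTree1264 : Tr (List ℕ) := .node ndTree1185 ndTree1263

def ndTree1265 : Tr (List ℕ) := .node ndTree1107 ndTree1264

def ndTree1266 : Tr (List ℕ) := .node ndTree949 ndTree1265

def ndTree1267 : Tr (List ℕ) := .node ndTree633 ndTree1266

/-- The table of the nodes. -/
def ndTab : Tr (List ℕ) := ndTree1267

/-- The products. -/
def ndProg0 : List (ℕ × ℕ) := [(3, 0), (3, 1), (549, 548), (550, 4), (551, 3), (552, 548), (553, 3), (0, 1), (21, 555), (4, 556), (557, 1), (556, 557), (559, 556), (560, 558), (0, 549), (562, 561), (549, 21), (562, 564), (3, 21), (566, 21), (567, 548), (29, 21), (562, 569), (570, 568), (556, 567), (0, 566), (573, 0), (549, 1), (21, 21), (576, 0), (577, 1), (578, 548), (579, 566), (580, 21), (581, 0), (582, 549), (583, 548), (584, 550), (585, 549), (586, 0), (587, 575), (588, 555), (589, 573), (590, 556), (591, 0), (592, 574), (593, 29), (594, 21), (595, 569),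 (596, 562), (597, 564), (598, 4), (599, 567), (600, 557), (601, 558), (602, 559), (603, 548), (604, 560), (605, 562), (606, 572), (607, 570), (608, 561), (609, 568), (610, 571), (611, 565), (612, 563), (613, 1), (614, 614), (615, 615), (616, 616), (617, 617), (618, 618), (614, 619), (620, 553), (553, 553), (622, 622), (623, 623), (624, 624), (553, 622), (626, 623)]

/-- The products. -/
def ndProg1 : List (ℕ × ℕ) := [(627, 625), (620, 628), (629, 621), (630, 630), (631, 631), (630, 632), (553, 633), (555, 0), (552, 555), (636, 29), (637, 635), (620, 638), (638, 638), (640, 640), (641, 641), (642, 642), (638, 641), (644, 643), (620, 645), (646, 639), (638, 647), (648, 634), (635, 548), (638, 650), (620, 651), (651, 651), (651, 653), (620, 654), (655, 652), (656, 656), (657, 657), (656, 658), (651, 659), (660, 648), (635, 550), (650, 662), (651, 550), (664, 662), (665, 663), (620, 666), (666, 666), (668, 668), (669, 669), (670, 670), (671, 671), (666, 670), (673, 672), (620, 674), (675, 667), (676, 676),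 (677, 677), (676, 678), (666, 679), (680, 648), (681, 661), (634, 682), (683, 649), (661, 684), (685, 685), (648, 680), (687, 660), (648, 688), (687, 689), (661, 690), (687, 690), (692, 691), (693, 686), (29, 29), (695, 4), (696, 78), (29, 695), (65, 3), (699, 0), (700, 698), (78, 698), (4, 702), (697, 703), (704, 548), (705, 701), (706, 697)]

/-- The products. -/
def ndProg2 : List (ℕ × ℕ) := [(548, 4), (708, 707), (708, 65), (78, 710), (548, 711), (712, 696), (713, 702), (708, 712), (715, 714), (705, 0), (717, 716), (718, 709), (714, 716), (0, 708), (721, 720), (722, 719), (697, 707), (707, 724), (725, 723), (0, 561), (561, 561), (0, 728), (729, 727), (730, 730), (731, 731), (732, 732), (730, 731), (734, 732), (735, 733), (561, 736), (737, 737), (738, 738), (739, 739), (737, 738), (741, 740), (560, 562), (0, 743), (743, 743), (745, 745), (746, 746), (743, 746), (748, 747), (0, 749), (750, 744), (751, 751), (752, 752), (753, 753), (752, 753), (755, 754), (743, 756), (757, 742), (548, 758), (0, 571), (571,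 571), (761, 761), (762, 762), (763, 763), (571, 762), (765, 764), (0, 766), (767, 760), (768, 768), (769, 769), (770, 770), (771, 771), (769, 772), (571, 773), (548, 774), (775, 759), (0, 557), (557, 557), (778, 778), (779, 779), (557, 778), (781, 780), (0, 782), (783, 777), (784, 784), (785, 785), (786, 786)]

/-- The products. -/
def ndProg3 : List (ℕ × ℕ) := [(787, 787), (785, 788), (557, 789), (757, 757), (791, 791), (792, 792), (793, 793), (757, 791), (795, 793), (796, 794), (562, 563), (0, 798), (798, 798), (800, 800), (801, 801), (802, 802), (798, 800), (804, 802), (805, 803), (0, 806), (807, 799), (808, 808), (809, 809), (810, 810), (811, 811), (809, 812), (798, 813), (742, 814), (815, 797), (816, 790), (790, 797), (818, 817), (819, 776), (23, 2), (3, 821), (822, 1), (1, 555), (824, 1), (3, 825), (0, 575), (1, 827), (825, 828), (826, 828), (826, 823), (0, 831), (831, 831), (833, 833), (834, 834), (835, 835), (836, 836), (0, 837), (838, 832), (839, 839), (840, 840), (841, 841), (842, 842), (831,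 843), (831, 829), (0, 845), (845, 845), (847, 847), (848, 848), (847, 848), (850, 849), (0, 851), (852, 846), (853, 853), (854, 854), (855, 855), (856, 856), (845, 857), (858, 858), (859, 859), (860, 860), (858, 860), (862, 861), (863, 844), (0, 821), (0, 556), (866, 865)]

/-- The products. -/
def ndProg4 : List (ℕ × ℕ) := [(867, 867), (868, 868), (869, 869), (870, 870), (821, 871), (872, 872), (873, 873), (874, 874), (872, 873), (876, 875), (877, 774), (877, 878), (879, 864), (774, 774), (881, 881), (774, 881), (883, 882), (844, 844), (885, 885), (886, 886), (887, 887), (844, 885), (889, 886), (890, 888), (891, 858), (892, 884), (893, 880), (790, 790), (895, 895), (896, 896), (790, 897), (898, 884), (737, 899), (814, 900), (757, 884), (790, 902), (903, 901), (898, 797), (814, 814), (906, 906), (907, 907), (814, 907), (909, 908), (737, 548), (911, 757), (912, 910), (913, 905), (914, 904), (915, 0), (916, 916), (917, 894), (918, 894), (919, 894), (920, 820), (921, 726), (726, 726), (923, 923), (924, 924),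 (925, 925), (926, 926), (924, 927), (921, 928), (929, 922), (930, 930), (931, 931), (930, 932), (726, 933), (934, 934), (935, 935), (936, 936), (937, 937), (934, 935), (939, 936), (940, 938), (713, 10), (942, 713), (701, 943), (705, 944), (724, 702), (946, 709)]

/-- The products. -/
def ndProg5 : List (ℕ × ℕ) := [(947, 709), (948, 945), (921, 949), (949, 949), (951, 951), (952, 952), (953, 953), (954, 954), (952, 955), (921, 956), (957, 950), (958, 958), (959, 959), (958, 960), (949, 961), (962, 962), (963, 963), (964, 964), (965, 965), (966, 966), (962, 965), (968, 967), (969, 941), (934, 970), (969, 971), (921, 724), (724, 724), (974, 974), (975, 975), (976, 976), (724, 975), (978, 976), (979, 977), (921, 980), (981, 973), (982, 982), (983, 983), (982, 984), (724, 985), (962, 986), (921, 704), (704, 704), (989, 989), (990, 990), (991, 991), (704, 990), (993, 992), (921, 994), (995, 988), (996, 996), (997, 997), (996, 998), (704, 999), (1000, 1000), (1001, 1001), (1002, 1002), (1000, 1002), (1004, 1003),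 (1005, 987), (921, 703), (703, 703), (1008, 1008), (1009, 1009), (1010, 1010), (1011, 1011), (1008, 1010), (1013, 1012), (921, 1014), (1015, 1007), (1016, 1016), (703, 1017), (1018, 1018), (1019, 1019), (1020, 1020), (1021, 1021), (1022, 1022), (1018, 1019), (1024, 1020), (1025, 1023), (1026, 1006)]

/-- The products. -/
def ndProg6 : List (ℕ × ℕ) := [(1027, 972), (720, 716), (1029, 725), (949, 716), (948, 1031), (548, 709), (1033, 717), (1034, 1032), (709, 1035), (716, 1031), (1037, 1036), (1038, 1030), (921, 1039), (1039, 1039), (1041, 1041), (1042, 1042), (1043, 1043), (1044, 1044), (1042, 1045), (921, 1046), (1047, 1040), (1048, 1048), (1039, 1049), (1050, 1050), (1051, 1051), (1052, 1052), (1050, 1052), (1054, 1053), (1055, 1026), (1056, 1005), (921, 719), (719, 719), (1059, 1059), (1060, 1060), (1061, 1061), (719, 1059), (1063, 1060), (1064, 1062), (921, 1065), (1066, 1058), (1067, 1067), (1068, 1068), (1067, 1069), (719, 1070), (1071, 1071), (1072, 1072), (1073, 1073), (1071, 1072), (1075, 1074),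 (921, 1031), (1031, 1031), (1078, 1078), (1079, 1079), (1080, 1080), (1031, 1079), (1082, 1081), (921, 1083), (1084, 1077), (1085, 1085), (1086, 1086), (1085, 1087), (1031, 1088), (1089, 1089), (1090, 1090), (1091, 1091), (1092, 1092), (1093, 1093), (1089, 1090), (1095, 1092), (1096, 1094), (1097, 1026), (1098, 1076), (1099, 1057), (1100, 1028), (1101, 1101), (921, 554), (554, 554), (1104, 1104), (1105, 1105), (1106, 1106)]

/-- The products. -/
def ndProg7 : List (ℕ × ℕ) := [(1107, 1107), (1105, 1108), (921, 1109), (1110, 1103), (1111, 1111), (1112, 1112), (1111, 1113), (554, 1114), (555, 1), (554, 821), (1117, 1116), (1118, 827), (921, 1119), (1119, 1119), (1121, 1121), (1122, 1122), (1123, 1123), (1124, 1124), (1121, 1125), (921, 1126), (1127, 1120), (1128, 1128), (1129, 1129), (1128, 1130), (1119, 1131), (1132, 1115), (1133, 1115), (1115, 1115), (1115, 1135), (1136, 1134), (921, 553), (921, 628), (1139, 1138), (1140, 1140), (1141, 1141), (1140, 1142), (553, 1143), (1132, 1144), (1145, 1144), (1119,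 1), (921, 1147), (1147, 1147), (1149, 1149), (1150, 1150), (1151, 1151), (1147, 1149), (1153, 1151), (1154, 1152), (921, 1155), (1156, 1148), (1157, 1157), (1158, 1158), (1157, 1159), (1147, 1160), (1161, 1146), (1162, 1145), (1161, 1144), (1115, 1164), (1115, 1165), (1166, 1134), (1145, 1167), (1168, 1135), (1144, 1169), (1137, 1170), (1171, 1163), (1172, 1137), (1146, 1161), (1115, 1145), (1175, 1174), (1176, 1173), (1176, 1144), (1178, 1171), (1179, 1177), (1180, 1115), (1167, 1137), (1182, 1181), (1136, 1171), (1184, 1144), (1144, 1184), (1186, 1185)]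

/-- The products. -/
def ndProg8 : List (ℕ × ℕ) := [(1187, 1183), (1188, 1188), (1189, 1188), (1116, 1190), (1191, 4), (1192, 620), (1193, 1193), (1194, 1194), (1194, 1195), (4, 1196), (1197, 694), (1198, 1198), (1199, 1199), (1200, 1200), (1201, 1201), (1199, 1200), (1203, 1201), (1204, 1202), (1205, 1102), (1206, 1198), (828, 549), (549, 1208), (821, 549), (23, 1), (1147, 824), (1212, 822), (1213, 1211), (1214, 2), (1214, 825), (1216, 1), (1217, 825), (1218, 826), (1219, 828), (1220, 829), (1221, 827), (1222, 821), (1223, 549), (1224, 825), (1225, 823), (1226, 828), (1227, 830), (1228, 1208), (1229, 1210), (1230, 1209), (620, 1231), (1231, 1231), (1233, 1233), (1234, 1234), (1235, 1235), (1231, 1233), (1237, 1235), (1238, 1236), (620, 1239), (1240, 1232), (1241, 1241), (1242, 1242), (1242, 1243), (1231, 828), (1245, 826), (1246, 831), (620, 1247), (1247, 1247), (1249, 1249), (1250, 1250), (1251, 1251), (1252, 1252), (1250, 1253), (620, 1254), (1255, 1248), (1256, 1256), (1257, 1257), (1256, 1258), (1247,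 1259), (1209, 29), (1247, 29), (1262, 1261), (620, 1263), (1263, 1263), (1265, 1265), (1266, 1266)]

/-- The products. -/
def ndProg9 : List (ℕ × ℕ) := [(1267, 1267), (1268, 1268), (1266, 1269), (620, 1270), (1271, 1264), (1272, 1272), (1273, 1273), (1272, 1274), (1263, 1275), (1276, 1260), (1277, 1244), (1278, 1278), (1279, 1279), (1278, 1280), (1263, 845), (620, 1282), (1282, 1282), (1284, 1284), (1285, 1285), (1286, 1286), (1287, 1287), (1285, 1288), (620, 1289), (1290, 1283), (1291, 1291), (1292, 1292), (1291, 1293), (1282, 1294), (1295, 1295), (1296, 1276), (1297, 1281), (620, 1245), (1245, 1245), (1300, 1300), (1301, 1301), (1245, 1301), (1303, 1302), (620, 1304), (1305, 1299), (1306, 1306), (1307, 1307), (1306, 1308), (1245, 1309), (620, 1262), (1262, 1262), (1312, 1312), (1313, 1313), (1262, 1313), (1315, 1314), (620, 1316), (1317, 1311), (1318, 1318), (1319, 1319), (1318, 1320), (1310, 1321), (1322, 1310), (1323, 1323), (1324, 1324), (1325, 1325), (1323, 1324), (1327, 1326), (1260, 1260), (1329,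 1321), (1330, 1328), (620, 1246), (1246, 1246), (1333, 1333), (1334, 1334), (1335, 1335), (1336, 1336), (1333, 1335), (1338, 1337), (620, 1339), (1340, 1332), (1341, 1341), (1341, 1342), (1260, 1343), (1344, 1260), (1345, 1345), (1346, 1346)]

/-- The products. -/
def ndProg10 : List (ℕ × ℕ) := [(1345, 1346), (1348, 1347), (1295, 1343), (1350, 1295), (1351, 1349), (1276, 1321), (1353, 1276), (1354, 1321), (1355, 1352), (845, 1261), (1282, 1357), (620, 1358), (1358, 1358), (1360, 1360), (1361, 1361), (1362, 1362), (1363, 1363), (1360, 1362), (1365, 1364), (620, 1366), (1367, 1359), (1368, 1368), (1369, 1369), (1368, 1370), (1371, 1321), (1372, 1372), (1372, 1373), (1295, 1321), (1375, 1295), (1376, 1374), (1260, 1321), (1378, 1343), (1379, 1379), (1380, 1380), (1381, 1381), (1382, 1382), (1379, 1380), (1384, 1381), (1385, 1383), (1321, 1260), (1387, 1276), (1388, 1386), (1389, 1377), (1390, 1331), (1391, 1356), (1392, 1331), (1393, 1298), (1298, 1394), (1395, 1298), (1352, 1396), (1276, 1276), (1398, 1276),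 (1399, 1399), (1400, 1400), (1401, 1401), (1276, 1402), (1295, 1244), (1404, 1310), (1405, 1403), (1406, 1331), (1331, 1355), (1408, 1407), (1356, 1409), (1410, 1390), (1411, 1397), (1393, 1393), (1412, 1412), (1414, 1414), (1412, 1414), (1416, 1415), (1417, 1207), (1418, 1413), (1419, 1412), (1207, 1207), (1421, 1420), (1422, 1420), (1205, 917), (1424, 1198), (1425, 1425), (1426, 1420)]

/-- The products. -/
def ndProg11 : List (ℕ × ℕ) := [(1427, 1425), (1428, 1207), (1429, 1425), (1430, 1420), (1431, 1420), (1432, 1425), (1433, 1433), (1434, 1434), (1433, 1434), (1436, 1435), (1433, 1207), (1438, 1437), (1207, 1439), (1440, 1423), (1425, 1207), (1442, 1420), (1443, 1425), (1444, 1207), (1445, 1420), (1446, 1425), (1447, 1207), (1448, 1420), (1449, 1425), (1450, 1207), (1451, 1420), (1355, 1423), (1453, 1435), (1454, 1355), (1455, 1423), (1456, 1423), (1457, 1355), (1458, 1423), (1459, 1423), (1460, 1435), (1461, 1355), (1462, 1423), (1463, 1355), (1464, 1423), (1465, 1423), (1466, 1355), (1467, 1467),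 (1468, 1468), (1469, 1469), (1467, 1469), (1471, 1470), (92, 29), (1473, 21), (620, 1474), (1474, 1474), (1476, 1476), (1477, 1477), (1474, 1477), (1479, 1478), (620, 1480), (1481, 1475), (1482, 1482), (1474, 1483), (1474, 78), (1485, 4), (1486, 708), (1487, 5), (1488, 65), (1489, 699), (1490, 0), (1491, 710), (1492, 29), (1493, 29), (1494, 695), (1495, 700), (1496, 10), (620, 1497), (1497, 1497), (1499, 1499), (1500, 1500), (1501, 1501), (1497, 1500), (1503, 1502), (620, 1504), (1505, 1498), (1506, 1506)]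

/-- The products. -/
def ndProg12 : List (ℕ × ℕ) := [(1507, 1507), (1506, 1508), (1497, 1509), (1484, 1510), (1484, 1511), (620, 1493), (1493, 1493), (1514, 1514), (1515, 1515), (1516, 1516), (1514, 1515), (1518, 1516), (1519, 1517), (620, 1520), (1521, 1513), (1522, 1522), (1523, 1523), (1522, 1524), (1493, 1525), (1526, 1512), (1510, 1484), (1510, 1528), (1529, 1527), (1530, 1527), (1526, 1526), (1532, 1530), (1533, 1531), (1534, 1484), (1535, 1484), (1484, 1530), (1537, 1536), (1535, 1530), (1537, 1539), (1540, 1538), (1407, 1331), (1331, 1331), (1331, 1543), (1544, 1542), (1310, 1343), (1546, 1276), (1547, 1547), (1548, 1548), (1549, 1549), (1550, 1550), (1547, 1548), (1552, 1551), (1343, 1321), (1554, 1343), (1555, 1553), (1377, 1556), (1557, 1556), (1558, 1352), (1389, 1557), (1560, 1559), (1561, 1355), (1562, 1545), (1352, 1355), (1389, 1564), (1389, 1565), (1566, 1542), (1557, 1567), (1355, 1568), (1569, 1559), (1570, 1355), (1571, 1545), (1572, 1563), (1567, 1331), (1298, 1558), (1575, 1557),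 (1568, 1543), (1355, 1577), (1545, 1578), (1579, 1576), (1580, 1545), (1581, 1389), (1582, 1574), (1583, 1573), (1584, 1584), (1585, 1584), (2, 1586)]

/-- The products. -/
def ndProg13 : List (ℕ × ℕ) := [(1587, 1), (1588, 620), (1589, 1589), (1590, 1590), (1590, 1591), (1, 1592), (1593, 1541), (1594, 1472), (1595, 1595), (1596, 1596), (1595, 1596), (1598, 1597), (1595, 1355), (1600, 1599), (1601, 1441), (1602, 1601), (1603, 1433), (1604, 1601), (1605, 1207), (1606, 1606), (1606, 1607), (1601, 1207), (1609, 1433), (1610, 1433), (1611, 1433), (1612, 1433), (1613, 1601), (1614, 1608), (1453, 1423), (1616, 1355), (1617, 1423), (1618, 1355), (1619, 1423), (1620, 1355), (1621, 1423), (1622, 1423), (1623, 1623), (1623, 1355), (1625, 1624), (1205, 1101), (1627, 1198), (16, 1), (0, 1629), (16, 4), (1631, 1630), (1631, 16), (1633, 0), (0, 1634), (1632, 0), (1636, 1635), (1637, 1632), (0, 824), (1639, 1632), (1640, 1638), (1639, 1634), (1642, 1641), (916, 894), (1644, 1101), (1645, 820), (1646, 1643), (1643, 1643),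 (1648, 1648), (1643, 1649), (1646, 1650), (1651, 1647), (1652, 1652), (1653, 1653), (1654, 1654), (1655, 1655), (1643, 1656), (0, 1631), (1639, 16), (1659, 1634), (1660, 1658), (1646, 1661), (1661, 1661), (1663, 1663), (1661, 1663), (1665, 1664), (1646, 1666)]

/-- The products. -/
def ndProg14 : List (ℕ × ℕ) := [(1667, 1662), (1668, 1668), (1669, 1669), (1668, 1670), (1661, 1671), (1672, 1657), (1657, 1657), (1674, 1674), (1675, 1675), (1657, 1675), (1677, 1676), (1672, 1672), (1679, 1679), (1680, 1680), (1681, 1681), (1672, 1679), (1683, 1682), (1684, 1678), (1685, 1673), (1638, 1661), (1661, 1687), (1646, 1688), (1688, 1688), (1690, 1690), (1691, 1691), (1688, 1690), (1693, 1692), (1646, 1694), (1695, 1689), (1696, 1696), (1697, 1697), (1698, 1698), (1699, 1699), (1697, 1700), (1688, 1701), (3, 824), (1703, 1659), (1704, 824), (1661, 1705), (1646, 1706), (1706, 1706), (1708, 1708), (1709, 1709), (1710, 1710), (1711, 1711), (1706, 1708), (1713, 1709), (1714, 1712), (1646, 1715), (1716, 1707), (1717, 1717),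 (1718, 1718), (1719, 1719), (1720, 1720), (1706, 1721), (1722, 1722), (1723, 1723), (1722, 1723), (1725, 1724), (1646, 1658), (1658, 1658), (1728, 1728), (1729, 1729), (1658, 1728), (1731, 1730), (1646, 1732), (1733, 1727), (1734, 1734), (1735, 1735), (1736, 1736), (1737, 1737), (1734, 1736), (1739, 1738), (1658, 1740), (0, 1660), (1637, 1742), (1646, 1743), (1743, 1743), (1745, 1745), (1746, 1746)]

/-- The products. -/
def ndProg15 : List (ℕ × ℕ) := [(1743, 1746), (1748, 1747), (1646, 1749), (1750, 1744), (1751, 1751), (1752, 1752), (1753, 1753), (1752, 1753), (1755, 1754), (1743, 1756), (1646, 1742), (1742, 1742), (1759, 1759), (1760, 1760), (1761, 1761), (1760, 1762), (1646, 1763), (1764, 1758), (1765, 1765), (1766, 1766), (1767, 1767), (1765, 1766), (1769, 1767), (1770, 1768), (1742, 1771), (1772, 1772), (1773, 1773), (1772, 1774), (1775, 1757), (1776, 1741), (1777, 1726), (1778, 1702), (1743, 1636), (1646, 1780), (1780, 1780), (1782, 1782), (1783, 1783), (1780, 1782), (1785, 1784), (1646, 1786), (1787,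 1781), (1788, 1788), (1789, 1789), (1790, 1790), (1791, 1791), (1788, 1790), (1793, 1792), (1780, 1794), (1795, 1795), (1796, 1796), (1797, 1797), (1795, 1798), (1702, 1702), (1800, 1800), (1702, 1800), (1802, 1801), (1726, 1684), (1804, 1803), (1805, 1799), (1806, 1779), (1807, 1686), (1205, 1808), (1809, 1198), (1543, 1543), (1811, 1811), (1812, 1812), (1331, 1811), (1814, 1812), (1815, 1813)]

end Cfsg.Lib.J4NonLocal.UThree
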